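import Mathlib
import Cfsg.Prelude.Def_LieExceptional
import Cfsg.Agent.Lib.Frobenius.Basic
import Cfsg.Agent.S3946

/-!
# Groups with a partition: elementary facts

A partition is recorded by the map sending an element to the member containing it; the members may
be assumed to be permuted by conjugation.
-/

set_option autoImplicit false
set_option linter.style.haveILetI false

namespace CfsgLib.Partition

open scoped Pointwise

universe u

variable {G : Type u} [Group G]

/-- `K x` is the member containing `x ≠ 1` of a nontrivial, conjugation invariant partition. -/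
structure IsPartition (K : G → Subgroup G) : Prop where
  mem : ∀ x, x ≠ 1 → x ∈ K x
  eq_of_mem : ∀ x y, x ≠ 1 → y ∈ K x → y ≠ 1 → K y = K x
  mem_conj : ∀ g x y, x ≠ 1 → (g * y * g⁻¹ ∈ K (g * x * g⁻¹) ↔ y ∈ K x)
  proper : ∀ x, x ≠ 1 → K x ≠ ⊤

/-- No member is its own normalizer. -/
structure Std (K : G → Subgroup G) : Prop extends IsPartition K where
  notSelf : ∀ x, x ≠ 1 → ∃ g ∈ Subgroup.normalizer ((K x : Subgroup G) : Set G), g ∉ K x

/-- A nontrivial partition can be refined to a conjugation invariant one. -/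
theorem exists_of_family (S : Set (Subgroup G)) (hS2 : ∃ H ∈ S, ∃ K ∈ S, H ≠ K)
    (hS1 : ∀ H ∈ S, H ≠ ⊥) (hpart : ∀ g : G, g ≠ 1 → ∃! H : Subgroup G, H ∈ S ∧ g ∈ H) :
    ∃ K : G → Subgroup G, IsPartition K ∧ Nontrivial G := by
  classical
  choose M hM hMu using hpart
  let M' : G → Subgroup G := fun x => if h : x = 1 then ⊥ else M x h
  have hM' : ∀ x, x ≠ 1 → M' x ∈ S ∧ x ∈ M' x := fun x hx => by
    simp only [M', dif_neg hx]; exact hM x hx
  have huniq : ∀ x, x ≠ 1 → ∀ H ∈ S, x ∈ H → H = M' x := fun x hx H hH hxH => by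
    simp only [M', dif_neg hx]; exact hMu x hx H ⟨hH, hxH⟩
  have hne : ∀ g x : G, x ≠ 1 → g * x * g⁻¹ ≠ 1 := fun g x hx e => hx (conj_eq_one_iff.1 e)
  refine ⟨fun x => ⨅ g : G, (M' (g * x * g⁻¹)).comap (MulAut.conj g).toMonoidHom, ⟨?_, ?_, ?_, ?_⟩, ?_⟩
  · intro x hx
    simp only [Subgroup.mem_iInf, Subgroup.mem_comap, MulEquiv.coe_toMonoidHom, MulAut.conj_apply]
    exact fun g => (hM' _ (hne g x hx)).2
  · intro x y hx hy hy1
    simp only [Subgroup.mem_iInf, Subgroup.mem_comap, MulEquiv.coe_toMonoidHom, MulAut.conj_apply] at hy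
    refine iInf_congr fun g => ?_
    rw [huniq _ (hne g y hy1) _ (hM' _ (hne g x hx)).1 (hy g)]
  · intro g x y _
    simp only [Subgroup.mem_iInf, Subgroup.mem_comap, MulEquiv.coe_toMonoidHom, MulAut.conj_apply]
    refine ⟨fun h c => ?_, fun h c => ?_⟩
    · have e := h (c * g⁻¹)
      simpa [mul_assoc] using e
    · have e := h (c * g)
      simpa [mul_assoc] using e
  · intro x hx htop
    obtain ⟨H, hH, K, hK, hHK⟩ := hS2
    have hall : ∀ y : G, y ∈ M' x := fun y => by
      have : y ∈ (⨅ g : G, (M' (g * x * g⁻¹)).comap (MulAut.conj g).toMonoidHom) := by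
        rw [htop]; exact Subgroup.mem_top y
      simpa using Subgroup.mem_iInf.1 this 1
    have key : ∀ L ∈ S, L = M' x := fun L hL => by
      obtain ⟨⟨y, hy⟩, hy1⟩ := Subgroup.ne_bot_iff_exists_ne_one.1 (hS1 L hL)
      have hy1' : y ≠ 1 := fun e => hy1 (Subtype.ext e)
      rw [huniq y hy1' L hL hy, huniq y hy1' (M' x) (hM' x hx).1 (hall y)]
    exact hHK ((key H hH).trans (key K hK).symm)
  · obtain ⟨H, hH, -⟩ := hS2
    obtain ⟨⟨y, hy⟩, hy1⟩ := Subgroup.ne_bot_iff_exists_ne_one.1 (hS1 H hH)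
    exact nontrivial_of_ne y 1 fun e => hy1 (Subtype.ext e)

variable {K : G → Subgroup G}

namespace IsPartition

variable (h : IsPartition K)
include h

theorem mem_iff {x y : G} (hx : x ≠ 1) (hy : y ≠ 1) : y ∈ K x ↔ K y = K x :=
  ⟨fun hm => h.eq_of_mem x y hx hm hy, fun e => e ▸ h.mem y hy⟩

theorem ne_bot {x : G} (hx : x ≠ 1) : K x ≠ ⊥ := fun e => hx (by
  have := h.mem x hx
  rwa [e, Subgroup.mem_bot] at this)

theorem eq_pow {x : G} {n : ℕ} (hn : x ^ n ≠ 1) : K (x ^ n) = K x := by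
  have hx : x ≠ 1 := fun e => hn (by rw [e, one_pow])
  exact h.eq_of_mem x _ hx (pow_mem (h.mem x hx) n) hn

theorem mem_of_pow {x y : G} {n : ℕ} (hy : y ≠ 1) (hn : x ^ n ≠ 1) (hm : x ^ n ∈ K y) :
    x ∈ K y := by
  have hx : x ≠ 1 := fun e => hn (by rw [e, one_pow])
  rw [← h.eq_of_mem y _ hy hm hn, h.eq_pow hn]
  exact h.mem x hx

/-- an element outside a member with a power inside has that power trivial -/
theorem pow_eq_one {x y : G} {n : ℕ} (hy : y ≠ 1) (hx : x ∉ K y) (hm : x ^ n ∈ K y) : x ^ n = 1 := by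
  by_contra hn
  exact hx (h.mem_of_pow hy hn hm)

theorem inv_eq {x : G} (hx : x ≠ 1) : K x⁻¹ = K x :=
  h.eq_of_mem x _ hx (inv_mem (h.mem x hx)) (inv_ne_one.2 hx)

theorem mem_normalizer_of_conj {g x : G} (hx : x ≠ 1) (hg : g * x * g⁻¹ ∈ K x) :
    g ∈ Subgroup.normalizer ((K x : Subgroup G) : Set G) := by
  have e : K (g * x * g⁻¹) = K x :=
    h.eq_of_mem x _ hx hg fun e => hx (conj_eq_one_iff.1 e)
  refine Subgroup.mem_normalizer_iff.2 fun y => ?_
  conv_rhs => rw [← e]
  exact (h.mem_conj g x y hx).symm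

theorem mem_normalizer_of_commute {g x : G} (hx : x ≠ 1) (hc : Commute g x) :
    g ∈ Subgroup.normalizer ((K x : Subgroup G) : Set G) :=
  h.mem_normalizer_of_conj hx (by rw [hc.eq, mul_inv_cancel_right]; exact h.mem x hx)

theorem mem_normalizer_of_mem {g x y : G} (hx : x ≠ 1) (hy : y ≠ 1) (hm : y ∈ K x)
    (hg : g * y * g⁻¹ ∈ K x) : g ∈ Subgroup.normalizer ((K x : Subgroup G) : Set G) := by
  have e := h.eq_of_mem x y hx hm hy
  rw [← e] at hg ⊢
  exact h.mem_normalizer_of_conj hy hg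

/-- commuting elements in different members have the same prime order -/
theorem orderOf_dvd_of_commute {a b : G} (ha : a ≠ 1) (hb : b ≠ 1) (hc : Commute a b)
    (hab : b ∉ K a) : orderOf a ∣ orderOf b := by
  apply orderOf_dvd_of_pow_eq_one
  by_contra hn
  have e : (a * b) ^ orderOf b = a ^ orderOf b := by rw [hc.mul_pow, pow_orderOf_eq_one, mul_one]
  have hm : a * b ∈ K a := h.mem_of_pow ha (e ▸ hn) (e ▸ pow_mem (h.mem a ha) _)
  exact hab (by simpa using mul_mem (inv_mem (h.mem a ha)) hm)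

theorem notMem_symm {a b : G} (ha : a ≠ 1) (hb : b ≠ 1) (hab : b ∉ K a) : a ∉ K b :=
  fun hm => hab (h.eq_of_mem b a hb hm ha ▸ h.mem b hb)

theorem orderOf_eq_of_commute {a b : G} (ha : a ≠ 1) (hb : b ≠ 1) (hc : Commute a b)
    (hab : b ∉ K a) : orderOf a = orderOf b :=
  Nat.dvd_antisymm (h.orderOf_dvd_of_commute ha hb hc hab)
    (h.orderOf_dvd_of_commute hb ha hc.symm (h.notMem_symm ha hb hab))

theorem prime_of_commute [Finite G] {a b : G} (ha : a ≠ 1) (hb : b ≠ 1) (hc : Commute a b)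
    (hab : b ∉ K a) : (orderOf a).Prime := by
  have hab' := h.orderOf_eq_of_commute ha hb hc hab
  have h1 : orderOf a ≠ 1 := fun e => ha (orderOf_eq_one_iff.1 e)
  obtain ⟨p, hp, hpd⟩ := Nat.exists_prime_and_dvd h1
  have hd : orderOf (a ^ (orderOf a / p)) = p := by
    have hpos := (isOfFinOrder_of_finite a).orderOf_pos
    rw [orderOf_pow_of_dvd (Nat.div_ne_zero_iff.2 ⟨hp.ne_zero, Nat.le_of_dvd hpos hpd⟩)
      (Nat.div_dvd_of_dvd hpd), Nat.div_div_self hpd hpos.ne']
  have hne : a ^ (orderOf a / p) ≠ 1 := fun e => by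
    rw [e, orderOf_one] at hd
    exact hp.ne_one hd.symm
  have := h.orderOf_eq_of_commute hne hb (hc.pow_left _) (h.eq_pow hne ▸ hab)
  rw [hd, ← hab'] at this
  exact this ▸ hp

theorem mem_of_commute {a b : G} (ha : a ≠ 1) (hc : Commute a b) (hne : orderOf a ≠ orderOf b) :
    b ∈ K a := by
  by_cases hb : b = 1
  · exact hb ▸ one_mem _
  by_contra hab
  exact hne (h.orderOf_eq_of_commute ha hb hc hab)

theorem isFrobeniusComplement {x : G} (hx : x ≠ 1)
    (hN : ∀ g ∈ Subgroup.normalizer ((K x : Subgroup G) : Set G), g ∈ K x) :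
    Cfsg.IsFrobeniusComplement (K x) := by
  refine ⟨h.ne_bot hx, h.proper x hx, fun g hg => ?_⟩
  rw [eq_bot_iff]
  rintro y ⟨hy, hy'⟩
  rw [Subgroup.mem_bot]
  by_contra hy1
  have hy2 : g⁻¹ * y * g ∈ K x := CfsgLib.Frobenius.mem_conj_smul_iff.1 hy'
  refine hg (hN g (h.mem_normalizer_of_mem hx (y := g⁻¹ * y * g) (fun e => hy1 ?_) hy2 ?_))
  · calc y = g * (g⁻¹ * y * g) * g⁻¹ := by group
      _ = 1 := by rw [e]; group
  · rwa [show g * (g⁻¹ * y * g) * g⁻¹ = y by group]

/-- either some member is a Frobenius complement or no member is self-normalizing -/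
theorem frobenius_or_std : (∃ H : Subgroup G, Cfsg.IsFrobeniusComplement H) ∨ Std K := by
  by_cases hall : ∀ x, x ≠ 1 → ∃ g ∈ Subgroup.normalizer ((K x : Subgroup G) : Set G), g ∉ K x
  · exact Or.inr ⟨h, hall⟩
  push Not at hall
  obtain ⟨x, hx, hN⟩ := hall
  exact Or.inl ⟨K x, h.isFrobeniusComplement hx hN⟩

/-- a `p`-group with a partition has all elements outside one member of order `p` -/
theorem hughes_of_isPGroup [Finite G] [Nontrivial G] {p : ℕ} [hp : Fact p.Prime] (hG : IsPGroup p G) :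
    Subgroup.closure {g : G | g ^ p ≠ 1} ≠ ⊤ := by
  haveI := hG.center_nontrivial
  obtain ⟨k, hk⟩ := (hG.to_subgroup (Subgroup.center G)).exists_card_eq
  have hk0 : k ≠ 0 := fun e => by
    rw [e, pow_zero] at hk
    exact absurd hk (ne_of_gt Finite.one_lt_card)
  obtain ⟨⟨z, hz⟩, hzo⟩ := exists_prime_orderOf_dvd_card' (G := Subgroup.center G) p
    (hk ▸ dvd_pow_self p hk0)
  rw [Subgroup.orderOf_mk] at hzo
  have hz1 : z ≠ 1 := fun e => by
    rw [e, orderOf_one] at hzo
    exact hp.out.ne_one hzo.symm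
  refine fun htop => h.proper z hz1 (top_le_iff.1 (htop ▸ ?_))
  refine Subgroup.closure_le _ |>.2 fun g hg => ?_
  by_contra hgm
  refine hg ?_
  have := h.orderOf_eq_of_commute hz1 (fun e => hg (by rw [e, one_pow]))
    (Subgroup.mem_center_iff.1 hz g).symm hgm
  rw [← hzo, this, pow_orderOf_eq_one]

end IsPartition

namespace Std

variable (h : Std K)
include h

theorem isNilpotent [Finite G] (x : G) (hx : x ≠ 1) : Group.IsNilpotent (K x) := by
  classical
  obtain ⟨g₀, hg₀N, hg₀⟩ := h.notSelf x hx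
  have hex : ∃ n, 0 < n ∧ g₀ ^ n ∈ K x :=
    ⟨orderOf g₀, (isOfFinOrder_of_finite g₀).orderOf_pos, by rw [pow_orderOf_eq_one]; exact one_mem _⟩
  set n := Nat.find hex with hn
  obtain ⟨hnpos, hnK⟩ := Nat.find_spec hex
  rw [← hn] at hnpos hnK
  have hn1 : n ≠ 1 := fun e => hg₀ (by simpa [e] using hnK)
  have hq := Nat.minFac_prime hn1
  set q := n.minFac
  set g := g₀ ^ (n / q) with hg
  have hgN : g ∈ Subgroup.normalizer ((K x : Subgroup G) : Set G) := pow_mem hg₀N _
  have hgK : g ∉ K x := fun hm => by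
    have hlt : n / q < n := Nat.div_lt_self hnpos hq.one_lt
    exact Nat.find_min hex hlt ⟨Nat.div_pos (Nat.minFac_le hnpos) hq.pos, hm⟩
  have hgq : g ^ q ∈ K x := by
    rw [hg, ← pow_mul, Nat.div_mul_cancel (Nat.minFac_dvd n)]; exact hnK
  have hgq1 : g ^ q = 1 := h.toIsPartition.pow_eq_one hx hgK hgq
  haveI := Fact.mk hq
  have hmem : ∀ k ∈ K x, g * k * g⁻¹ ∈ K x := fun k hk =>
    (Subgroup.mem_normalizer_iff.1 hgN k).1 hk
  have hmem' : ∀ k ∈ K x, g⁻¹ * k * g ∈ K x := fun k hk => by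
    simpa using (Subgroup.mem_normalizer_iff.1 (inv_mem hgN) k).1 hk
  let α : MulAut (K x) :=
    { toFun := fun k => ⟨g * k * g⁻¹, hmem k k.2⟩
      invFun := fun k => ⟨g⁻¹ * k * g, hmem' k k.2⟩
      left_inv := fun k => Subtype.ext (show g⁻¹ * (g * (k : G) * g⁻¹) * g = k by group)
      right_inv := fun k => Subtype.ext (show g * (g⁻¹ * (k : G) * g) * g⁻¹ = k by group)
      map_mul' := fun a b => Subtype.ext
        (show g * ((a : G) * b) * g⁻¹ = g * a * g⁻¹ * (g * b * g⁻¹) by group) }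
  have hαpow : ∀ (i : ℕ) (k : K x), (((α ^ i) k : K x) : G) = g ^ i * k * (g ^ i)⁻¹ := by
    intro i
    induction i with
    | zero => intro k; simp
    | succ i ih =>
      intro k
      rw [pow_succ, MulAut.mul_apply, ih]
      show g ^ i * (g * (k : G) * g⁻¹) * (g ^ i)⁻¹ = _
      group
  have hαq : α ^ q = 1 := by
    refine MulEquiv.ext fun k => Subtype.ext ?_
    rw [hαpow, hgq1]; simp
  have hprod : ∀ (k : K x) (i : ℕ),
      ((((List.range i).map fun j : ℕ => (α ^ j) k).prod : K x) : G) = ((k : G) * g) ^ i * (g ^ i)⁻¹ := by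
    intro k i
    induction i with
    | zero => simp
    | succ i ih =>
      rw [List.range_succ, List.map_append, List.prod_append, Subgroup.coe_mul, ih]
      simp only [List.map_cons, List.map_nil, List.prod_cons, List.prod_nil, mul_one, hαpow, pow_succ]
      group
  by_cases hα : α = 1
  · refine IsPGroup.isNilpotent (p := q) fun k => ⟨1, ?_⟩
    rw [pow_one]
    by_cases hk : k = 1
    · rw [hk, one_pow]
    have hk' : (k : G) ≠ 1 := fun e => hk (Subtype.ext e)
    have hc : Commute (k : G) g := by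
      have e : g * (k : G) * g⁻¹ = k := by
        have := congrArg (fun f : MulAut (K x) => ((f k : K x) : G)) hα
        simpa [α] using this
      exact (mul_inv_eq_iff_eq_mul.1 e).symm
    have hg1 : g ≠ 1 := fun e => hgK (e ▸ one_mem _)
    have hgk : g ∉ K (k : G) := by rw [h.eq_of_mem x k hx k.2 hk']; exact hgK
    have := h.toIsPartition.orderOf_eq_of_commute hk' hg1 hc hgk
    refine Subtype.ext ?_
    rw [SubmonoidClass.coe_pow, OneMemClass.coe_one, ← orderOf_dvd_iff_pow_eq_one, this]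
    exact orderOf_dvd_of_pow_eq_one hgq1
  · have hord : orderOf α = q := orderOf_eq_prime hαq hα
    refine Cfsg.Agent.S3946.result α (hord ▸ hq) fun k => Subtype.ext ?_
    rw [hord, hprod, hgq1, inv_one, mul_one, OneMemClass.coe_one]
    have hkg : (k : G) * g ∉ K x := fun hm => hgK (by simpa using mul_mem (inv_mem k.2) hm)
    refine h.toIsPartition.pow_eq_one hx hkg ?_
    have := (((List.range q).map fun j : ℕ => (α ^ j) k).prod).2
    rwa [hprod, hgq1, inv_one, mul_one] at this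

end Std

end CfsgLib.Partition

namespace CfsgLib.Partition

universe u

/-- the conclusion of the classification of groups with a nontrivial partition -/
def Concl (G : Type u) [Group G] : Prop :=
  Nonempty (G ≃* Equiv.Perm (Fin 4)) ∨
  (∃ p : ℕ, p.Prime ∧ Subgroup.closure {g : G | g ^ p ≠ 1} ≠ ⊤) ∨
  (∃ H : Subgroup G, Cfsg.IsFrobeniusComplement H) ∨
  (∃ (F : Type) (_ : Field F) (_ : Fintype F), 4 ≤ Fintype.card F ∧
      Nonempty (G ≃* Matrix.ProjectiveSpecialLinearGroup (Fin 2) F)) ∨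
  (∃ (F : Type) (_ : Field F) (_ : Fintype F), 5 ≤ Fintype.card F ∧ Odd (Fintype.card F) ∧
      Nonempty (G ≃* (GL (Fin 2) F ⧸ Subgroup.center (GL (Fin 2) F)))) ∨
  Cfsg.Lie.IsoSuzuki G

end CfsgLib.Partition
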