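import Mathlib
import Cfsg.Agent.Lib.Partition.Basic
import Cfsg.Agent.Lib.Frobenius.Basic
import Cfsg.Agent.Lib.PCore.Basic
import Cfsg.Agent.Lib.Involutions.Basic

/-!
# Small tools for groups with a partition
-/

set_option autoImplicit false
set_option linter.style.haveILetI false

namespace CfsgLib.Partition

universe u

variable {G : Type u} [Group G]

theorem exists_pow_orderOf_eq [Finite G] {y : G} {r : ℕ} (hr : r.Prime) (hd : r ∣ orderOf y) :
    orderOf (y ^ (orderOf y / r)) = r := by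
  have hpos := (isOfFinOrder_of_finite y).orderOf_pos
  rw [orderOf_pow_of_dvd (Nat.div_ne_zero_iff.2 ⟨hr.ne_zero, Nat.le_of_dvd hpos hd⟩)
    (Nat.div_dvd_of_dvd hd), Nat.div_div_self hd hpos.ne']

theorem ne_one_of_orderOf_prime {y : G} {r : ℕ} (hr : r.Prime) (hy : orderOf y = r) : y ≠ 1 :=
  fun e => by
    rw [e, orderOf_one] at hy
    exact hr.ne_one hy.symm

/-- in a coset of a normalised subgroup, powers behave as those of the representative -/
theorem pow_mul_mem {Q : Subgroup G} {u w : G} (hu : u ∈ Subgroup.normalizer (Q : Set G)) (hw : w ∈ Q)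
    (i : ℕ) : (u ^ i)⁻¹ * (u * w) ^ i ∈ Q := by
  induction i with
  | zero => simp
  | succ i ih =>
    have e : (u ^ (i + 1))⁻¹ * (u * w) ^ (i + 1) = u⁻¹ * ((u ^ i)⁻¹ * (u * w) ^ i) * u * w := by
      rw [pow_succ (u * w), pow_succ u]; group
    rw [e]
    refine Q.mul_mem ?_ hw
    simpa using (Subgroup.mem_normalizer_iff.1 (inv_mem hu) _).1 ih

/-- elements in the coset of an element of prime order outside a normalised subgroup of coprime
order have order divisible by that prime -/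
theorem dvd_orderOf_coset {Q : Subgroup G} {u w : G} {p : ℕ} (hp : p.Prime) (hu : orderOf u = p)
    (huQ : u ∈ Subgroup.normalizer (Q : Set G)) (hQ : ¬ p ∣ Nat.card Q) (hw : w ∈ Q) :
    p ∣ orderOf (u * w) := by
  by_contra hnd
  have hmem := pow_mul_mem huQ hw (orderOf (u * w))
  rw [pow_orderOf_eq_one, mul_one, inv_mem_iff] at hmem
  refine hQ (Dvd.dvd.trans (dvd_of_eq ?_) (Subgroup.orderOf_dvd_natCard Q hmem))
  rw [Nat.Coprime.orderOf_pow (hu ▸ (hp.coprime_iff_not_dvd).2 hnd), hu]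

theorem pow_prime_mem_coset {Q : Subgroup G} {u w : G} {p : ℕ} (hu : orderOf u = p)
    (huQ : u ∈ Subgroup.normalizer (Q : Set G)) (hw : w ∈ Q) : (u * w) ^ p ∈ Q := by
  have h := pow_mul_mem huQ hw p
  rwa [← hu, pow_orderOf_eq_one, inv_one, one_mul, hu] at h

theorem inverts_of_fpf (V : Subgroup G) [V.Normal] (hVc : ∀ a ∈ V, ∀ b ∈ V, a * b = b * a) {t : G}
    (ht : orderOf t = 2) (hfix : ∀ v ∈ V, Commute t v → v = 1) {v : G} (hv : v ∈ V) :
    t * v * t⁻¹ = v⁻¹ := by
  have ht2 : t * t = 1 := CfsgLib.Involutions.mul_self_eq_one ht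
  have hti : t⁻¹ = t := CfsgLib.Involutions.inv_eq_self_of_involution ht
  have hm : t * v * t⁻¹ ∈ V := Subgroup.Normal.conj_mem inferInstance v hv t
  have hc : Commute t (t * v * t⁻¹ * v) := by
    show t * (t * v * t⁻¹ * v) = t * v * t⁻¹ * v * t
    rw [hti] at hm ⊢
    calc t * (t * v * t * v) = (t * t) * (v * t * v) := by group
      _ = v * t * v * (t * t) := by rw [ht2, one_mul, mul_one]
      _ = (v * (t * v * t)) * t := by group
      _ = t * v * t * v * t := by rw [hVc v hv _ hm]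
  exact eq_inv_of_mul_eq_one_left (hfix _ (mul_mem hm hv) hc)

end CfsgLib.Partition

namespace CfsgLib.Partition

universe u

variable {G : Type u} [Group G]

/-- a nilpotent group has a central element of order any prime dividing its order -/
theorem exists_central_of_nilpotent [Finite G] (hG : Group.IsNilpotent G) {p : ℕ} [hp : Fact p.Prime]
    (hd : p ∣ Nat.card G) : ∃ z : G, orderOf z = p ∧ ∀ g : G, Commute g z := by
  have hn : ∀ (r : ℕ) (_ : Fact r.Prime) (R : Sylow r G), (R : Subgroup G).Normal :=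
    ((Group.isNilpotent_of_finite_tfae (G := G)).out 0 3 : Group.IsNilpotent G ↔
      ∀ (p : ℕ) (_hp : Fact p.Prime) (P : Sylow p G), (P : Subgroup G).Normal).1 hG
  obtain ⟨P⟩ : Nonempty (Sylow p G) := inferInstance
  haveI : Nontrivial (P : Subgroup G) :=
    (Subgroup.nontrivial_iff_ne_bot _).2 (P.ne_bot_of_dvd_card hd)
  haveI := P.isPGroup'.center_nontrivial
  obtain ⟨k, hk⟩ := (P.isPGroup'.to_subgroup (Subgroup.center (P : Subgroup G))).exists_card_eq
  have hk0 : k ≠ 0 := fun e => by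
    rw [e, pow_zero] at hk
    exact absurd hk (ne_of_gt Finite.one_lt_card)
  obtain ⟨⟨z, hz⟩, hzo⟩ := exists_prime_orderOf_dvd_card' (G := Subgroup.center (P : Subgroup G)) p
    (hk ▸ dvd_pow_self p hk0)
  rw [Subgroup.orderOf_mk, ← Subgroup.orderOf_coe] at hzo
  refine ⟨z, hzo, fun g => ?_⟩
  have htop : Subgroup.centralizer ({(z : G)} : Set G) = ⊤ := by
    rw [← Subgroup.index_eq_one]
    by_contra hne
    obtain ⟨r, hr, hri⟩ := Nat.exists_prime_and_dvd hne
    haveI : Fact r.Prime := ⟨hr⟩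
    obtain ⟨R⟩ : Nonempty (Sylow r G) := inferInstance
    refine R.not_dvd_index (hri.trans (Subgroup.index_dvd_of_le fun x hx => ?_))
    rw [Subgroup.mem_centralizer_singleton_iff]
    haveI := hn r ⟨hr⟩ R
    haveI := hn p hp P
    by_cases hrp : r = p
    · subst hrp
      haveI : Unique (Sylow r G) := Sylow.unique_of_normal P inferInstance
      rw [Subsingleton.elim R P] at hx
      exact congrArg Subtype.val (Subgroup.mem_center_iff.1 hz ⟨x, hx⟩)
    · exact (Subgroup.commute_of_normal_of_disjoint _ _ inferInstance inferInstance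
        (IsPGroup.disjoint_of_ne r p hrp _ _ R.isPGroup' P.isPGroup') x z hx z.2).eq
  exact Subgroup.mem_centralizer_singleton_iff.1 (htop ▸ Subgroup.mem_top g)

/-- an element of `p`-power order fixes a nontrivial element of a normal `p`-subgroup -/
theorem exists_commute_of_isPGroup [Finite G] {p : ℕ} [hp : Fact p.Prime] (V : Subgroup G) [V.Normal]
    (hV : IsPGroup p V) (hne : V ≠ ⊥) {u : G} (hu : ∃ k, u ^ p ^ k = 1) :
    ∃ c ∈ V, c ≠ 1 ∧ Commute u c := by
  obtain ⟨k, hk⟩ := hu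
  let U : Subgroup (ConjAct G) := Subgroup.zpowers (ConjAct.toConjAct u)
  have hU : IsPGroup p U := by
    rintro ⟨x, hx⟩
    obtain ⟨i, rfl⟩ := Subgroup.mem_zpowers_iff.1 hx
    refine ⟨k, Subtype.ext ?_⟩
    rw [SubmonoidClass.coe_pow, OneMemClass.coe_one, ← zpow_natCast, ← zpow_mul, mul_comm, zpow_mul,
      zpow_natCast, ← map_pow, hk, map_one, one_zpow]
  haveI : Nontrivial V := (Subgroup.nontrivial_iff_ne_bot _).2 hne
  obtain ⟨j, hj⟩ := hV.exists_card_eq
  have hd : p ∣ Nat.card V := by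
    rcases j with _ | j
    · rw [pow_zero] at hj
      exact absurd hj (ne_of_gt Finite.one_lt_card)
    · exact hj ▸ dvd_pow_self p j.succ_ne_zero
  obtain ⟨c, hc, hc1⟩ := hU.exists_fixed_point_of_prime_dvd_card_of_fixed_point (α := V) hd (a := 1)
    (fun g => smul_one g)
  refine ⟨c, c.2, fun e => hc1 (Subtype.ext e.symm), ?_⟩
  have h1 := congrArg Subtype.val (hc ⟨ConjAct.toConjAct u, Subgroup.mem_zpowers _⟩)
  rw [Subgroup.smul_def, ConjAct.Subgroup.val_conj_smul, ConjAct.smul_def,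
    ConjAct.ofConjAct_toConjAct] at h1
  exact mul_inv_eq_iff_eq_mul.1 h1

/-- a group with a normal subgroup on which the outside acts fixed point freely is Frobenius -/
theorem exists_frobenius_of_fpf [Finite G] (L : Subgroup G) [L.Normal] (hb : L ≠ ⊥) (ht : L ≠ ⊤)
    (hfree : ∀ y, y ∉ L → ∀ c ∈ L, c ≠ 1 → ¬ Commute y c) :
    ∃ H : Subgroup G, Cfsg.IsFrobeniusComplement H := by
  have hcop : (Nat.card L).Coprime L.index :=
    CfsgLib.Frobenius.coprime_card_index_of_centralizer_le L fun x hx hx1 y hy => by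
      by_contra hyL
      exact hfree y hyL x hx hx1 (Subgroup.mem_centralizer_singleton_iff.1 hy)
  obtain ⟨H, hH⟩ := Subgroup.exists_right_complement'_of_coprime hcop
  refine ⟨H, CfsgLib.Frobenius.isFrobeniusComplement_of_normal_complement hH hb ?_ ?_⟩
  · intro e
    subst e
    exact ht (Subgroup.isComplement'_bot_right.1 hH)
  · intro h hh hh1 k hk e
    by_contra hk1
    exact hfree h (fun hL => hh1 (Subgroup.disjoint_def.1 hH.disjoint hL hh)) k hk hk1 e

/-- the elements killed by `p` in the centre of a normal subgroup -/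
theorem exists_omega_center (K : Subgroup G) [hK : K.Normal] (p : ℕ) :
    ∃ V : Subgroup G, V.Normal ∧ IsMulCommutative V ∧
      ∀ v : G, v ∈ V ↔ v ∈ K ∧ v ^ p = 1 ∧ ∀ k ∈ K, Commute k v := by
  let V : Subgroup G :=
    { carrier := {v | v ∈ K ∧ v ^ p = 1 ∧ ∀ k ∈ K, Commute k v}
      one_mem' := ⟨one_mem _, one_pow _, fun k _ => Commute.one_right k⟩
      mul_mem' := fun {a b} ha hb => ⟨mul_mem ha.1 hb.1, by
        rw [(hb.2.2 a ha.1).mul_pow, ha.2.1, hb.2.1, mul_one],
        fun k hk => (ha.2.2 k hk).mul_right (hb.2.2 k hk)⟩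
      inv_mem' := fun {a} ha => ⟨inv_mem ha.1, by rw [inv_pow, ha.2.1, inv_one],
        fun k hk => (ha.2.2 k hk).inv_right⟩ }
  refine ⟨V, ⟨fun v hv g => ⟨hK.conj_mem v hv.1 g, by rw [conj_pow, hv.2.1, mul_one, mul_inv_cancel],
    fun k hk => ?_⟩⟩, ⟨⟨fun a b => Subtype.ext (b.2.2.2 (a : G) a.2.1).eq⟩⟩, fun v => Iff.rfl⟩
  have h := hv.2.2 (g⁻¹ * k * g) (hK.conj_mem' k hk g)
  show k * (g * v * g⁻¹) = g * v * g⁻¹ * k
  calc k * (g * v * g⁻¹) = g * ((g⁻¹ * k * g) * v) * g⁻¹ := by group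
    _ = g * (v * (g⁻¹ * k * g)) * g⁻¹ := by rw [h.eq]
    _ = _ := by group

/-- a `q`-element whose commutator with an involution lies in a normal `q`-subgroup belongs to it,
when the involution centralises no nontrivial `q`-element -/
theorem sylow_le_of_involution [Finite G] {q : ℕ} [hq : Fact q.Prime] (hq2 : q ≠ 2) (C : Subgroup G)
    [C.Normal] (hC : IsPGroup q C) {t : G} (ht : orderOf t = 2)
    (hcomm : ∀ u : G, t * u * t⁻¹ * u⁻¹ ∈ C)
    (hfree : ∀ z : G, Commute t z → (∃ k, z ^ q ^ k = 1) → z = 1) (S : Sylow q G) :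
    (S : Subgroup G) ≤ C := by
  haveI : Fact (Nat.Prime 2) := ⟨Nat.prime_two⟩
  classical
  haveI := Fintype.ofFinite C
  intro u hu
  have hCS : C ≤ S := by
    have := CfsgLib.PCore.le_pCore (inferInstance : C.Normal) hC
    exact this.trans (CfsgLib.PCore.pCore_le_sylow S)
  have ht2 : t * t = 1 := CfsgLib.Involutions.mul_self_eq_one ht
  have hti : t⁻¹ = t := CfsgLib.Involutions.inv_eq_self_of_involution ht
  have hmem : ∀ c : C, t * (c : G) * t⁻¹ * (t * u * t⁻¹ * u⁻¹) ∈ C := fun c =>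
    mul_mem (Subgroup.Normal.conj_mem inferInstance _ c.2 t) (hcomm u)
  let φ : C → C := fun c => ⟨_, hmem c⟩
  have hinv : Function.Involutive φ := fun c => Subtype.ext (by
    show t * (t * (c : G) * t⁻¹ * (t * u * t⁻¹ * u⁻¹)) * t⁻¹ * (t * u * t⁻¹ * u⁻¹) = c
    rw [hti]
    calc t * (t * (c : G) * t * (t * u * t * u⁻¹)) * t * (t * u * t * u⁻¹)
        = (t * t) * c * (t * t) * u * t * (u⁻¹ * (t * t) * u) * t * u⁻¹ := by group
      _ = c * u * (t * t) * u⁻¹ := by
          rw [ht2]; simp only [one_mul, mul_one, inv_mul_cancel, mul_assoc, ht2]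
      _ = c := by rw [ht2]; group)
  obtain ⟨j, hj⟩ := hC.exists_card_eq
  obtain ⟨c, hc⟩ := Equiv.Perm.exists_fixed_point_of_prime (p := 2) (σ := hinv.toPerm φ) (n := 1)
    (by
      rw [← Nat.card_eq_fintype_card, hj]
      exact fun hd => hq2 ((Nat.prime_dvd_prime_iff_eq Nat.prime_two hq.out).1
        (Nat.prime_two.dvd_of_dvd_pow hd)).symm)
    (Equiv.ext fun x => by simp [sq, hinv x])
  have hc' : t * (c : G) * t⁻¹ * (t * u * t⁻¹ * u⁻¹) = c := congrArg Subtype.val hc
  have hcu : Commute t ((c : G) * u) := by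
    show t * ((c : G) * u) = (c : G) * u * t
    conv_rhs => rw [← hc']
    group
  obtain ⟨k, hk⟩ := S.isPGroup' ⟨(c : G) * u, mul_mem (hCS c.2) hu⟩
  have := hfree _ hcu ⟨k, congrArg Subtype.val hk⟩
  rw [← inv_eq_of_mul_eq_one_right this]
  exact inv_mem c.2

end CfsgLib.Partition
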