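import Mathlib
import Cfsg.Agent.Lib.Partition.Tools
import Cfsg.Agent.Lib.Transfer.Basic
import Cfsg.Agent.Lib.Involutions.Counting

/-!
# Centralisers of involutions in partitioned groups
-/

set_option autoImplicit false
set_option linter.style.haveILetI false

namespace CfsgLib.Partition

open CfsgLib.Involutions (mul_self_eq_one inv_eq_self_of_involution ne_one_of_involution)

universe u

variable {G : Type u} [Group G] [Finite G] {K : G → Subgroup G}

namespace IsPartition

variable (h : IsPartition K)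
include h

/-- an element centralising an involution outside its member is an involution -/
theorem orderOf_outside {t s : G} (ht : orderOf t = 2) (hst : Commute s t) (hsK : s ∉ K t) :
    orderOf s = 2 := by
  rw [← ht]
  exact (h.orderOf_eq_of_commute (ne_one_of_involution ht) (fun e => hsK (by rw [e]; exact one_mem _))
    hst.symm hsK).symm

/-- and inverts the centraliser inside -/
theorem inverts_inside {t s a : G} (ht : orderOf t = 2) (hst : Commute s t) (hsK : s ∉ K t)
    (hat : Commute a t) (haK : a ∈ K t) : s * a * s⁻¹ = a⁻¹ := by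
  have hs := h.orderOf_outside ht hst hsK
  have hsa : s * a ∉ K t := fun hm => hsK (by simpa using mul_mem hm (inv_mem haK))
  have hsa2 := mul_self_eq_one (h.orderOf_outside ht (hst.mul_left hat) hsa)
  rw [inv_eq_self_of_involution hs]
  exact eq_inv_of_mul_eq_one_left (by simpa [mul_assoc] using hsa2)

theorem comm_inside {t s a b : G} (ht : orderOf t = 2) (hst : Commute s t) (hsK : s ∉ K t)
    (hat : Commute a t) (haK : a ∈ K t) (hbt : Commute b t) (hbK : b ∈ K t) : Commute a b := by
  have e1 := h.inverts_inside ht hst hsK (hat.mul_left hbt) (mul_mem haK hbK)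
  have e2 : s * (a * b) * s⁻¹ = a⁻¹ * b⁻¹ := by
    rw [← h.inverts_inside ht hst hsK hat haK, ← h.inverts_inside ht hst hsK hbt hbK]
    group
  rw [e2] at e1
  show a * b = b * a
  calc a * b = ((a * b)⁻¹)⁻¹ := (inv_inv _).symm
    _ = (a⁻¹ * b⁻¹)⁻¹ := by rw [e1]
    _ = b * a := by group

end IsPartition

/-- an involution whose centraliser has an element outside its member and an element of order more
than two inside -/
structure Dih (K : G → Subgroup G) (t s y : G) : Prop where
  ht : orderOf t = 2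
  hst : Commute s t
  hs : s ∉ K t
  hyt : Commute y t
  hy : y ∈ K t
  hy2 : y ^ 2 ≠ 1

namespace Dih

variable {t s y : G} (h : IsPartition K) (d : Dih K t s y)
include h d

theorem orderOf_s : orderOf s = 2 := h.orderOf_outside d.ht d.hst d.hs

theorem comm {a b : G} (hat : Commute a t) (haK : a ∈ K t) (hbt : Commute b t) (hbK : b ∈ K t) :
    Commute a b := h.comm_inside d.ht d.hst d.hs hat haK hbt hbK

theorem inverts {x a : G} (hxt : Commute x t) (hxK : x ∉ K t) (hat : Commute a t) (haK : a ∈ K t) :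
    x * a * x⁻¹ = a⁻¹ := h.inverts_inside d.ht hxt hxK hat haK

theorem mul_mem_inside {x x' : G} (hxt : Commute x t) (hxK : x ∉ K t) (hxt' : Commute x' t)
    (hxK' : x' ∉ K t) : x * x' ∈ K t := by
  by_contra hne
  have e1 := d.inverts h (hxt.mul_left hxt') hne d.hyt d.hy
  have e2 : x * x' * y * (x * x')⁻¹ = y := by
    calc x * x' * y * (x * x')⁻¹ = x * (x' * y * x'⁻¹) * x⁻¹ := by group
      _ = (x * y * x⁻¹)⁻¹ := by rw [d.inverts h hxt' hxK' d.hyt d.hy]; group
      _ = y := by rw [d.inverts h hxt hxK d.hyt d.hy, inv_inv]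
  rw [e2] at e1
  exact d.hy2 (by rw [sq]; exact mul_eq_one_iff_eq_inv.2 e1)

/-- the involutions inside have the same centraliser -/
theorem commute_iff {u : G} (hu : orderOf u = 2) (hut : Commute u t) (huK : u ∈ K t) (x : G) :
    Commute x u ↔ Commute x t := by
  have ht1 := ne_one_of_involution d.ht
  have hu1 := ne_one_of_involution hu
  have hKu : K u = K t := h.eq_of_mem t u ht1 huK hu1
  constructor
  · intro hxu
    have hsu : Commute s u := by
      have := d.inverts h d.hst d.hs hut huK
      rw [inv_eq_self_of_involution hu] at this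
      exact mul_inv_eq_iff_eq_mul.1 this
    have hsKu : s ∉ K u := hKu ▸ d.hs
    have htK : t ∈ K u := hKu ▸ h.mem t ht1
    by_cases hxK : x ∈ K u
    · exact h.comm_inside hu hsu hsKu hxu hxK hut.symm htK
    · have := h.inverts_inside hu hxu hxK hut.symm htK
      rw [inv_eq_self_of_involution d.ht] at this
      exact mul_inv_eq_iff_eq_mul.1 this
  · intro hxt
    by_cases hxK : x ∈ K t
    · exact d.comm h hxt hxK hut huK
    · have := d.inverts h hxt hxK hut huK
      rw [inv_eq_self_of_involution hu] at this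
      exact mul_inv_eq_iff_eq_mul.1 this

/-- a conjugation mapping an involution inside to an involution centralising `t` maps it inside -/
theorem mem_of_conj {g e : G} (he : orderOf e = 2) (het : Commute e t) (heK : e ∈ K t)
    (hgt : ∀ x, Commute x t → Commute (g * x * g⁻¹) t)
    (hge : Commute (g * e * g⁻¹) t) : g * e * g⁻¹ ∈ K t := by
  by_contra hne
  have hy' : Commute (g⁻¹ * y * g) e := by
    refine (d.commute_iff h he het heK _).2 ?_
    -- conjugation by `g` is a bijection of the finite centraliser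
    let φ : {x : G // Commute x t} → {x : G // Commute x t} := fun x => ⟨g * x.1 * g⁻¹, hgt x.1 x.2⟩
    have hφ : Function.Injective φ := fun a b hab => Subtype.ext
      (mul_left_cancel (mul_right_cancel (congrArg Subtype.val hab)))
    obtain ⟨⟨x, hx⟩, hxy⟩ := Finite.injective_iff_surjective.1 hφ ⟨y, d.hyt⟩
    have hxy' : g * x * g⁻¹ = y := congrArg Subtype.val hxy
    rw [← hxy', show g⁻¹ * (g * x * g⁻¹) * g = x by group]
    exact hx
  have hc : Commute y (g * e * g⁻¹) := by
    have := hy'.map (MulAut.conj g).toMonoidHom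
    simpa [mul_assoc] using this
  have := d.inverts h hge hne d.hyt d.hy
  rw [← hc.eq, mul_inv_cancel_right] at this
  exact d.hy2 (by rw [sq]; exact mul_eq_one_iff_eq_inv.2 this)

/-- with a second involution inside there is a subgroup of index two -/
theorem exists_index_two {u : G} (hu : orderOf u = 2) (hut : Commute u t) (huK : u ∈ K t) (hne : u ≠ t) :
    ∃ N : Subgroup G, N.Normal ∧ N.index = 2 ∧ s ∉ N := by
  classical
  haveI : Fact (Nat.Prime 2) := ⟨Nat.prime_two⟩
  have ht1 := ne_one_of_involution d.ht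
  set C := Subgroup.centralizer ({t} : Set G) with hC
  have hCm : ∀ x, x ∈ C ↔ Commute x t := fun x => Subgroup.mem_centralizer_singleton_iff
  set A := C ⊓ K t with hA
  -- two involutions inside give a third one
  have hE : ∀ {a b : G}, orderOf a = 2 → Commute a t → a ∈ K t → orderOf b = 2 → Commute b t → b ∈ K t →
      a ≠ b → orderOf (a * b) = 2 := by
    intro a b ha hat haK hb hbt hbK hab
    refine orderOf_eq_prime ?_ fun e => hab ?_
    · rw [(d.comm h hat haK hbt hbK).mul_pow, sq, sq, mul_self_eq_one ha, mul_self_eq_one hb, mul_one]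
    · rw [eq_inv_of_mul_eq_one_left e, inv_eq_self_of_involution hb]
  have htu : orderOf (t * u) = 2 :=
    hE d.ht (Commute.refl t) (h.mem t ht1) hu hut huK (Ne.symm hne)
  -- a Sylow subgroup of the centraliser is one of the group
  obtain ⟨W₀, hW₀⟩ := (IsPGroup.of_card (p := 2) (n := 1) (G := Subgroup.zpowers (⟨s, (hCm s).2 d.hst⟩ : C))
    (by rw [Nat.card_zpowers, Subgroup.orderOf_mk, d.orderOf_s h, pow_one])).exists_le_sylow
  set W := (W₀ : Subgroup C).map C.subtype with hW
  have hWC : W ≤ C := Subgroup.map_subtype_le _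
  have hWp : IsPGroup 2 W := W₀.isPGroup'.map _
  have hsW : s ∈ W := ⟨_, hW₀ (Subgroup.mem_zpowers _), rfl⟩
  have hWmax : ∀ V : Subgroup G, IsPGroup 2 V → V ≤ C → W ≤ V → V = W := by
    intro V hV hVC hWV
    have h1 : V.subgroupOf C = W₀ := W₀.is_maximal'
      (hV.of_equiv (Subgroup.subgroupOfEquivOfLe hVC).symm) (fun x hx => hWV ⟨x, hx, rfl⟩)
    rw [hW, ← h1, Subgroup.map_subgroupOf_eq_of_le hVC]
  -- the involutions inside lie in it
  have hEW : ∀ a, orderOf a = 2 → Commute a t → a ∈ K t → a ∈ W := by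
    intro a ha hat haK
    have hac : ∀ w ∈ W, Commute w a := fun w hw => (d.commute_iff h ha hat haK w).2 ((hCm w).1 (hWC hw))
    have hV : IsPGroup 2 (W ⊔ Subgroup.zpowers a : Subgroup G) := by
      refine hWp.to_sup_of_normal_right' (IsPGroup.of_card (n := 1)
        (by rw [Nat.card_zpowers, ha, pow_one])) ?_
      intro w hw
      rw [Subgroup.mem_normalizer_iff]
      intro b
      have hwb : ∀ i : ℤ, w * a ^ i * w⁻¹ = a ^ i := fun i => by
        rw [((hac w hw).zpow_right i).eq, mul_inv_cancel_right]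
      constructor
      · rintro ⟨i, rfl⟩; exact ⟨i, (hwb i).symm⟩
      · rintro ⟨i, hi⟩
        refine ⟨i, ?_⟩
        simp only at hi
        rw [← hwb i] at hi
        exact mul_left_cancel (mul_right_cancel hi)
    have := hWmax _ hV (sup_le hWC (Subgroup.zpowers_le.2 ((hCm a).2 hat))) le_sup_left
    exact this ▸ (le_sup_right : Subgroup.zpowers a ≤ W ⊔ Subgroup.zpowers a) (Subgroup.mem_zpowers a)
  -- conjugations moving a pair of involutions into the centraliser fix it
  have hgC : ∀ g : G, Commute (g * t * g⁻¹) t → Commute (g * u * g⁻¹) t →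
      ∀ x, Commute x t → Commute (g * x * g⁻¹) t := by
    intro g h1 h2 x hx
    obtain ⟨e, he, het, heK, hge, hgeK⟩ : ∃ e, orderOf e = 2 ∧ Commute e t ∧ e ∈ K t ∧
        Commute (g * e * g⁻¹) t ∧ g * e * g⁻¹ ∈ K t := by
      by_cases k1 : g * t * g⁻¹ ∈ K t
      · exact ⟨t, d.ht, Commute.refl t, h.mem t ht1, h1, k1⟩
      by_cases k2 : g * u * g⁻¹ ∈ K t
      · exact ⟨u, hu, hut, huK, h2, k2⟩
      have e : g * (t * u) * g⁻¹ = g * t * g⁻¹ * (g * u * g⁻¹) := by group
      exact ⟨t * u, htu, (Commute.refl t).mul_left hut, mul_mem (h.mem t ht1) huK, e ▸ h1.mul_left h2,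
        e ▸ d.mul_mem_inside h h1 k1 h2 k2⟩
    refine (d.commute_iff h (by rw [CfsgLib.Involutions.orderOf_conj_eq, he]) hge hgeK _).1 ?_
    have := ((d.commute_iff h he het heK x).2 hx).map (MulAut.conj g).toMonoidHom
    simpa using this
  obtain ⟨P, hP⟩ := hWp.exists_le_sylow
  have hPW : (P : Subgroup G) = W := by
    by_contra hne'
    have hlt : W < P := lt_of_le_of_ne hP (Ne.symm hne')
    haveI := P.isPGroup'.isNilpotent
    have hnc := Group.normalizerCondition_of_isNilpotent (G := (P : Subgroup G)) (W.subgroupOf P)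
      (lt_top_iff_ne_top.2 fun e => not_le_of_gt hlt (Subgroup.subgroupOf_eq_top.1 e))
    obtain ⟨⟨g, hgP⟩, hgN, hgW⟩ := SetLike.exists_of_lt hnc
    have hgn : ∀ w ∈ W, g * w * g⁻¹ ∈ W := fun w hw =>
      (Subgroup.mem_normalizer_iff.1 hgN ⟨w, hP hw⟩).1 hw
    have hg := hgC g ((hCm _).1 (hWC (hgn t (hEW t d.ht (Commute.refl t) (h.mem t ht1)))))
      ((hCm _).1 (hWC (hgn u (hEW u hu hut huK))))
    -- the elementary subgroup inside
    let E : Subgroup G :=
      { carrier := {a | Commute a t ∧ a ∈ K t ∧ a * a = 1}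
        one_mem' := ⟨Commute.one_left t, one_mem _, one_mul 1⟩
        mul_mem' := fun {a b} ha hb => ⟨ha.1.mul_left hb.1, mul_mem ha.2.1 hb.2.1, by
          rw [← sq, (d.comm h ha.1 ha.2.1 hb.1 hb.2.1).mul_pow, sq, sq, ha.2.2, hb.2.2, mul_one]⟩
        inv_mem' := fun {a} ha => ⟨ha.1.inv_left, inv_mem ha.2.1, by rw [← mul_inv_rev, ha.2.2, inv_one]⟩ }
    have hgE : ∀ a ∈ E, g * a * g⁻¹ ∈ E := by
      intro a ha
      refine ⟨hg a ha.1, ?_, by rw [show g * a * g⁻¹ * (g * a * g⁻¹) = g * (a * a) * g⁻¹ by group, ha.2.2]; group⟩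
      by_cases ha1 : a = 1
      · simp [ha1]
      exact d.mem_of_conj h (orderOf_eq_prime (by rw [sq, ha.2.2]) ha1) ha.1 ha.2.1 hg (hg a ha.1)
    let N := Subgroup.normalizer (E : Set G)
    have hgNE : g ∈ N := by
      refine Subgroup.mem_normalizer_iff.2 fun a => ⟨hgE a, fun ha => ?_⟩
      have hinj : Function.Injective (fun b : E => (⟨g * b * g⁻¹, hgE b b.2⟩ : E)) := fun b c e =>
        Subtype.ext (mul_left_cancel (mul_right_cancel (congrArg Subtype.val e)))
      obtain ⟨b, hb⟩ := Finite.injective_iff_surjective.1 hinj ⟨_, ha⟩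
      exact (mul_left_cancel (mul_right_cancel (congrArg Subtype.val hb)) : (b : G) = a) ▸ b.2
    haveI : (E.subgroupOf N).Normal := Subgroup.normal_in_normalizer
    have hEp : IsPGroup 2 (E.subgroupOf N) := fun a => ⟨1, Subtype.ext (Subtype.ext (by
      rw [pow_one, sq]; exact a.2.2.2))⟩
    have hEb : E.subgroupOf N ≠ ⊥ := fun e => ht1 (by
      have htE : t ∈ E := ⟨Commute.refl t, h.mem t ht1, mul_self_eq_one d.ht⟩
      have : (⟨t, Subgroup.le_normalizer htE⟩ : N) ∈ E.subgroupOf N := htE
      rw [e, Subgroup.mem_bot] at this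
      exact congrArg Subtype.val this)
    obtain ⟨k, hk⟩ := P.isPGroup' ⟨g, hgP⟩
    obtain ⟨⟨c, hcN⟩, hcE, hc1, hgc⟩ := exists_commute_of_isPGroup (E.subgroupOf N) hEp hEb
      (u := (⟨g, hgNE⟩ : N)) ⟨k, Subtype.ext (congrArg (Subtype.val) hk : g ^ 2 ^ k = 1)⟩
    have hc1' : c ≠ 1 := fun e => hc1 (Subtype.ext e)
    have hcE' : c ∈ E := hcE
    have hgt : Commute g t := (d.commute_iff h (orderOf_eq_prime (by rw [sq, hcE'.2.2]) hc1') hcE'.1 hcE'.2.1 g).1
      (congrArg Subtype.val hgc)
    refine hgW ?_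
    have hVle : W ⊔ Subgroup.zpowers g ≤ P := sup_le hP (Subgroup.zpowers_le.2 hgP)
    have := hWmax _ (P.isPGroup'.to_le hVle) (sup_le hWC (Subgroup.zpowers_le.2 ((hCm g).2 hgt))) le_sup_left
    exact this ▸ (le_sup_right : Subgroup.zpowers g ≤ W ⊔ Subgroup.zpowers g) (Subgroup.mem_zpowers g)
  have hPC : (P : Subgroup G) ≤ C := hPW ▸ hWC
  have hsP : s ∈ (P : Subgroup G) := hPW ▸ hsW
  have hidx : A.relIndex (P : Subgroup G) = 2 := by
    refine Subgroup.index_eq_two_iff.2 ⟨⟨s, hsP⟩, fun b => ?_⟩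
    have hbt : Commute (b : G) t := (hCm _).1 (hPC b.2)
    have hm : ∀ x : (P : Subgroup G), x ∈ A.subgroupOf P ↔ (x : G) ∈ K t := fun x =>
      ⟨fun hx => hx.2, fun hx => ⟨hPC x.2, hx⟩⟩
    simp only [hm]
    show Xor' ((b : G) * s ∈ K t) ((b : G) ∈ K t)
    by_cases hb : (b : G) ∈ K t
    · exact Or.inr ⟨hb, fun hm' => d.hs (by simpa using mul_mem (inv_mem hb) hm')⟩
    · exact Or.inl ⟨d.mul_mem_inside h hbt hb d.hst d.hs, hb⟩
  refine CfsgLib.Transfer.thompson_transfer P A hidx s (by rw [sq, mul_self_eq_one (d.orderOf_s h)])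
    fun g _ hgA => ?_
  have het : Commute (g * s * g⁻¹) t := (hCm _).1 hgA.1
  have heK : g * s * g⁻¹ ∈ K t := hgA.2
  have he : orderOf (g * s * g⁻¹) = 2 := by rw [CfsgLib.Involutions.orderOf_conj_eq, d.orderOf_s h]
  set e := g * s * g⁻¹ with hedef
  have key : ∀ x, Commute x s → Commute (g * x * g⁻¹) t := fun x hx =>
    (d.commute_iff h he het heK _).1 (by simpa [hedef] using hx.map (MulAut.conj g).toMonoidHom)
  have hst' : Commute t s := d.hst.symm
  have hsu : Commute u s := ((d.commute_iff h hu hut huK s).2 d.hst).symm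
  have hg := hgC g (key t hst') (key u hsu)
  have hcy : Commute (g * y * g⁻¹) e := (d.commute_iff h he het heK _).2 (hg y d.hyt)
  have hys : Commute y s := by
    have := hcy.map (MulAut.conj g⁻¹).toMonoidHom
    simpa [hedef, mul_assoc] using this
  have := d.inverts h d.hst d.hs d.hyt d.hy
  rw [← hys.eq, mul_inv_cancel_right] at this
  exact d.hy2 (by rw [sq]; exact mul_eq_one_iff_eq_inv.2 this)

end Dih

end CfsgLib.Partition
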