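import Mathlib
import Cfsg.Agent.Lib.Partition.Tools
import Cfsg.Agent.Lib.Frobenius.Theorem

/-!
# Partitioned groups without abelian normal subgroups are almost simple
-/

set_option autoImplicit false
set_option linter.style.haveILetI false

namespace CfsgLib.Partition

universe u

variable {G : Type u} [Group G]

/-- no nontrivial abelian normal subgroup -/
def NoAbelianNormal (G : Type u) [Group G] : Prop :=
  ∀ A : Subgroup G, A.Normal → (∀ a ∈ A, ∀ b ∈ A, a * b = b * a) → A = ⊥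

variable [Finite G] {K : G → Subgroup G}

/-- a subgroup generated by its elements of each prime order, centralised by an element of prime
order, is nilpotent -/
theorem Std.isNilpotent_of_commute (h : Std K) (T : Subgroup G)
    (hgen : ∀ r : ℕ, r.Prime → r ∣ Nat.card T → T ≤ Subgroup.closure {a | a ∈ T ∧ a ^ r = 1})
    {b : G} (hb : (orderOf b).Prime) (hc : ∀ a ∈ T, Commute a b) : Group.IsNilpotent T := by
  set s := orderOf b
  haveI := Fact.mk hb
  by_cases hT : ∀ r, r.Prime → r ∣ Nat.card T → r = s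
  · refine IsPGroup.isNilpotent (p := s) (IsPGroup.of_card (n := (Nat.card T).primeFactorsList.length) ?_)
    exact Nat.eq_prime_pow_of_unique_prime_dvd Nat.card_pos.ne' fun {r} hr hrd => hT r hr hrd
  push Not at hT
  obtain ⟨r, hr, hrd, hrs⟩ := hT
  have hb1 : b ≠ 1 := ne_one_of_orderOf_prime hb rfl
  have hle : T ≤ K b := by
    refine (hgen r hr hrd).trans ((Subgroup.closure_le _).2 fun a ha => ?_)
    by_cases ha1 : a = 1
    · exact ha1 ▸ one_mem _
    exact h.toIsPartition.mem_of_commute hb1 (hc a ha.1).symm (by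
      rw [orderOf_eq_prime (hp := Fact.mk hr) ha.2 ha1]; exact Ne.symm hrs)
  haveI := h.isNilpotent b hb1
  exact (Group.isNilpotent_congr (Subgroup.subgroupOfEquivOfLe hle)).1 inferInstance

omit [Finite G] in
theorem closure_comm {s : Set G} (hs : ∀ a ∈ s, ∀ b ∈ s, a * b = b * a) :
    ∀ a ∈ Subgroup.closure s, ∀ b ∈ Subgroup.closure s, a * b = b * a := by
  have h1 : ∀ b ∈ Subgroup.closure s, ∀ a ∈ s, a * b = b * a := fun b hb a ha => by
    have : Subgroup.closure s ≤ Subgroup.centralizer ({a} : Set G) := (Subgroup.closure_le _).2 fun c hc =>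
      Subgroup.mem_centralizer_singleton_iff.2 (hs c hc a ha)
    exact (Subgroup.mem_centralizer_singleton_iff.1 (this hb)).symm
  intro a ha b hb
  have : Subgroup.closure s ≤ Subgroup.centralizer ({b} : Set G) := (Subgroup.closure_le _).2 fun c hc =>
    Subgroup.mem_centralizer_singleton_iff.2 (h1 b hb c hc)
  exact Subgroup.mem_centralizer_singleton_iff.1 (this ha)

/-- a nonabelian simple normal subgroup with trivial centralizer -/
theorem Std.exists_simple_normal (h : Std K) [Nontrivial G] (hno : NoAbelianNormal G) :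
    ∃ T : Subgroup G, T.Normal ∧ IsSimpleGroup T ∧ ¬ Group.IsNilpotent T ∧
      Subgroup.centralizer (T : Set G) = ⊥ := by
  classical
  obtain ⟨M, ⟨hMn, hMb⟩, hMmin⟩ := Set.Finite.exists_minimal
    (s := {U : Subgroup G | U.Normal ∧ U ≠ ⊥}) (Set.toFinite _) ⟨⊤, inferInstance, top_ne_bot⟩
  haveI := hMn
  let 𝒮 : Set (Subgroup G) := {U | U ≤ M ∧ U ≠ ⊥ ∧ ∀ m ∈ M, ∀ a ∈ U, m * a * m⁻¹ ∈ U}
  obtain ⟨T, ⟨hTM, hTb, hTn⟩, hTmin⟩ := Set.Finite.exists_minimal (s := 𝒮) (Set.toFinite _)
    ⟨M, le_rfl, hMb, fun m _ a ha => hMn.conj_mem a ha m⟩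
  -- conjugates are equal or centralise each other
  have hdis : ∀ g : G, ∀ a ∈ T, g * a * g⁻¹ ∈ T ∨ ∀ b ∈ T, Commute b (g * a * g⁻¹) := by
    intro g a ha
    by_cases hne : T ⊓ T.map (MulAut.conj g).toMonoidHom = ⊥
    · refine Or.inr fun b hb => ?_
      have hm : ∀ m ∈ M, ∀ c ∈ T.map (MulAut.conj g).toMonoidHom,
          m * c * m⁻¹ ∈ T.map (MulAut.conj g).toMonoidHom := by
        rintro m hm _ ⟨c, hc, rfl⟩
        refine ⟨(g⁻¹ * m * g) * c * (g⁻¹ * m * g)⁻¹, hTn _ (hMn.conj_mem' m hm g) c hc, ?_⟩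
        simp [mul_assoc]
      have hga : g * a * g⁻¹ ∈ T.map (MulAut.conj g).toMonoidHom := ⟨a, ha, rfl⟩
      have hgM : g * a * g⁻¹ ∈ M := hMn.conj_mem a (hTM ha) g
      have : b * (g * a * g⁻¹) * b⁻¹ * (g * a * g⁻¹)⁻¹ ∈ T ⊓ T.map (MulAut.conj g).toMonoidHom := by
        refine Subgroup.mem_inf.2 ⟨?_, Subgroup.mul_mem _ (hm b (hTM hb) _ hga) (Subgroup.inv_mem _ hga)⟩
        rw [show b * (g * a * g⁻¹) * b⁻¹ * (g * a * g⁻¹)⁻¹ =
          b * ((g * a * g⁻¹) * b⁻¹ * (g * a * g⁻¹)⁻¹) by group]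
        exact T.mul_mem hb (hTn _ hgM _ (inv_mem hb))
      rw [hne, Subgroup.mem_bot] at this
      exact mul_inv_eq_iff_eq_mul.1 (mul_inv_eq_one.1 this)
    · refine Or.inl ?_
      have hle : T ≤ T.map (MulAut.conj g).toMonoidHom := by
        refine (hTmin ?_ inf_le_left).trans inf_le_right
        refine ⟨inf_le_left.trans hTM, hne, fun m hm c hc => ⟨hTn m hm c hc.1, ?_⟩⟩
        obtain ⟨d, hd, rfl⟩ := hc.2
        refine ⟨(g⁻¹ * m * g) * d * (g⁻¹ * m * g)⁻¹, hTn _ (hMn.conj_mem' m hm g) d hd, ?_⟩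
        simp [mul_assoc]
      have he := Subgroup.eq_of_le_of_card_ge hle (le_of_eq
        (Nat.card_congr (Subgroup.equivMapOfInjective T _ (MulAut.conj g).injective).toEquiv.symm))
      rw [he]
      exact ⟨a, ha, rfl⟩
  -- generation by elements of each prime order
  have hgen : ∀ r : ℕ, r.Prime → r ∣ Nat.card T → T ≤ Subgroup.closure {a | a ∈ T ∧ a ^ r = 1} := by
    intro r hr hrd
    haveI := Fact.mk hr
    have hle : Subgroup.closure {a | a ∈ T ∧ a ^ r = 1} ≤ T := (Subgroup.closure_le _).2 fun a ha => ha.1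
    refine hTmin ⟨hle.trans hTM, ?_, fun m hm a ha => ?_⟩ hle
    · intro e
      obtain ⟨⟨a, haT⟩, hao⟩ := exists_prime_orderOf_dvd_card' (G := T) r hrd
      rw [Subgroup.orderOf_mk] at hao
      have : a ∈ Subgroup.closure {a | a ∈ T ∧ a ^ r = 1} :=
        Subgroup.subset_closure ⟨haT, orderOf_dvd_iff_pow_eq_one.1 (dvd_of_eq hao)⟩
      rw [e, Subgroup.mem_bot] at this
      exact ne_one_of_orderOf_prime hr hao this
    · have hmap : (Subgroup.closure {a | a ∈ T ∧ a ^ r = 1}).map (MulAut.conj m).toMonoidHom ≤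
          Subgroup.closure {a | a ∈ T ∧ a ^ r = 1} := by
        rw [MonoidHom.map_closure, Subgroup.closure_le]
        rintro _ ⟨c, hc, rfl⟩
        exact Subgroup.subset_closure ⟨hTn m hm c hc.1, by
          rw [MulEquiv.coe_toMonoidHom, MulAut.conj_apply, conj_pow, hc.2, mul_one, mul_inv_cancel]⟩
      exact hmap ⟨a, ha, rfl⟩
  -- the group is not nilpotent
  have hnnil : ¬ Group.IsNilpotent T := by
    intro hnil
    haveI : Nontrivial T := (Subgroup.nontrivial_iff_ne_bot _).2 hTb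
    haveI := hnil
    have hZb : (Subgroup.center T).map T.subtype ≠ ⊥ := by
      rw [ne_eq, Subgroup.map_eq_bot_iff_of_injective _ T.subtype_injective]
      intro e
      obtain ⟨r, hr, hrd⟩ := Nat.exists_prime_and_dvd (n := Nat.card T) (Finite.one_lt_card (α := T)).ne'
      haveI := Fact.mk hr
      obtain ⟨z, hzo, hzc⟩ := exists_central_of_nilpotent hnil hrd
      have hz : z ∈ Subgroup.center T := Subgroup.mem_center_iff.2 fun g => hzc g
      rw [e, Subgroup.mem_bot] at hz
      exact ne_one_of_orderOf_prime hr hzo hz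
    have hZle : (Subgroup.center T).map T.subtype ≤ T := Subgroup.map_subtype_le _
    have hTZ : T ≤ (Subgroup.center T).map T.subtype := by
      refine hTmin ⟨hZle.trans hTM, hZb, ?_⟩ hZle
      rintro m hm _ ⟨c, hc, rfl⟩
      refine ⟨⟨m * c * m⁻¹, hTn m hm c c.2⟩, Subgroup.mem_center_iff.2 fun d => Subtype.ext ?_, rfl⟩
      have hd : m⁻¹ * d * m ∈ T := by simpa using hTn m⁻¹ (inv_mem hm) d d.2
      have := congrArg Subtype.val (Subgroup.mem_center_iff.1 hc ⟨_, hd⟩)
      show (d : G) * (m * c * m⁻¹) = m * c * m⁻¹ * d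
      calc (d : G) * (m * c * m⁻¹) = m * ((m⁻¹ * d * m) * c) * m⁻¹ := by group
        _ = m * ((c : G) * (m⁻¹ * d * m)) * m⁻¹ := by rw [show (m⁻¹ * d * m) * (c : G) = c * (m⁻¹ * d * m) from this]
        _ = _ := by group
    have hTc : ∀ a ∈ T, ∀ b ∈ T, a * b = b * a := fun a ha b hb => by
      obtain ⟨c, hc, rfl⟩ := hTZ hb
      exact congrArg Subtype.val (Subgroup.mem_center_iff.1 hc ⟨a, ha⟩)
    have hAn : (Subgroup.normalClosure (T : Set G)) = ⊥ := by
      refine hno _ Subgroup.normalClosure_normal (closure_comm fun x hx y hy => ?_)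
      obtain ⟨a, ha, hxa⟩ := Group.mem_conjugatesOfSet_iff.1 hx
      obtain ⟨b, hb, hyb⟩ := Group.mem_conjugatesOfSet_iff.1 hy
      obtain ⟨g, rfl⟩ := isConj_iff.1 hxa
      obtain ⟨k, rfl⟩ := isConj_iff.1 hyb
      -- move to the conjugate containing the first element
      have key : Commute a ((g⁻¹ * k) * b * (g⁻¹ * k)⁻¹) := by
        rcases hdis (g⁻¹ * k) b hb with h' | h'
        · exact hTc a ha _ h'
        · exact h' a ha
      have := key.map (MulAut.conj g).toMonoidHom
      simpa [mul_assoc, Commute, SemiconjBy] using this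
    exact hTb (le_bot_iff.1 (fun a ha => hAn ▸ Subgroup.subset_normalClosure ha))
  -- it is normal
  have hTnormal : T.Normal := ⟨fun a ha g => by
    by_contra hga
    rcases hdis g a ha with h' | h'
    · exact hga h'
    have ha1 : g * a * g⁻¹ ≠ 1 := fun e => hga (e ▸ one_mem _)
    obtain ⟨r, hr, hrd⟩ := Nat.exists_prime_and_dvd (n := orderOf (g * a * g⁻¹))
      (fun e => ha1 (orderOf_eq_one_iff.1 e))
    exact hnnil (h.isNilpotent_of_commute T hgen (b := (g * a * g⁻¹) ^ (orderOf (g * a * g⁻¹) / r))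
      (by rw [exists_pow_orderOf_eq hr hrd]; exact hr) fun c hc => (h' c hc).pow_right _)⟩
  have hTM' : T = M := le_antisymm hTM (hMmin ⟨hTnormal, hTb⟩ hTM)
  refine ⟨T, hTnormal, ?_, hnnil, ?_⟩
  · haveI : Nontrivial T := (Subgroup.nontrivial_iff_ne_bot _).2 hTb
    refine ⟨fun U hU => ?_⟩
    by_cases hUb : U = ⊥
    · exact Or.inl hUb
    refine Or.inr (eq_top_iff.2 fun x _ => ?_)
    have hle : U.map T.subtype ≤ T := Subgroup.map_subtype_le _
    have := hTmin ⟨hle.trans hTM, by rwa [ne_eq, Subgroup.map_eq_bot_iff_of_injective _ T.subtype_injective],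
      by
        rintro m hm _ ⟨c, hc, rfl⟩
        exact ⟨⟨m, hTM' ▸ hm⟩ * c * ⟨m, hTM' ▸ hm⟩⁻¹, hU.conj_mem c hc _, rfl⟩⟩ hle x.2
    obtain ⟨y, hy, hyx⟩ := this
    exact (Subtype.ext hyx : y = x) ▸ hy
  · refine (Subgroup.eq_bot_iff_forall _).2 fun b hb => ?_
    by_contra hb1
    obtain ⟨r, hr, hrd⟩ := Nat.exists_prime_and_dvd (n := orderOf b) (fun e => hb1 (orderOf_eq_one_iff.1 e))
    exact hnnil (h.isNilpotent_of_commute T hgen (b := b ^ (orderOf b / r))
      (by rw [exists_pow_orderOf_eq hr hrd]; exact hr)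
      fun a ha => (show Commute a b from Subgroup.mem_centralizer_iff.1 hb a ha).pow_right _)

/-- the induced partition of a simple subgroup -/
theorem Std.subgroup (h : Std K) (T : Subgroup G) [hT : IsSimpleGroup T] (hnil : ¬ Group.IsNilpotent T) :
    Std fun x : T => (K x).subgroupOf T := by
  have P := h.toIsPartition
  have hne : ∀ {x : T}, x ≠ 1 → (x : G) ≠ 1 := fun hx e => hx (Subtype.ext e)
  have hP : IsPartition fun x : T => (K x).subgroupOf T := by
    refine ⟨fun x hx => P.mem x (hne hx), fun x y hx hy hy1 => ?_, fun g x y hx => ?_, fun x hx e => ?_⟩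
    · show (K (y : G)).subgroupOf T = (K (x : G)).subgroupOf T
      rw [P.eq_of_mem x y (hne hx) hy (hne hy1)]
    · exact P.mem_conj g x y (hne hx)
    · have hle : T ≤ K x := Subgroup.subgroupOf_eq_top.1 e
      haveI := h.isNilpotent x (hne hx)
      exact hnil ((Group.isNilpotent_congr (Subgroup.subgroupOfEquivOfLe hle)).1 inferInstance)
  refine ⟨hP, fun x hx => ?_⟩
  by_contra! hN
  have hH := hP.isFrobeniusComplement hx hN
  obtain ⟨U, -, hUn, hc⟩ := CfsgLib.Frobenius.exists_normal_kernel hH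
  rcases hUn.eq_bot_or_eq_top with e | e
  · rw [e, Subgroup.isComplement'_bot_left] at hc
    exact hH.2.1 hc
  · rw [e, Subgroup.isComplement'_top_left] at hc
    exact hH.1 hc

end CfsgLib.Partition
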