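import Mathlib
import Cfsg.Agent.Lib.Partition.Local
import Cfsg.Agent.Lib.Tech46.SymplecticRank
import Cfsg.Agent.Lib.PSL2.Involution
import Cfsg.Agent.S0508

/-!
# Simple partitioned groups with dihedral centralisers of involutions
-/

set_option autoImplicit false
set_option linter.style.haveILetI false

namespace CfsgLib.Partition

open CfsgLib.Involutions (mul_self_eq_one inv_eq_self_of_involution ne_one_of_involution)

universe u

variable {G : Type u} [Group G] [Finite G] {K : G → Subgroup G}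

/-- every involution has a second element of dihedral type, and the involutions commuting with it
lie outside its member -/
def DihedralType (K : G → Subgroup G) : Prop :=
  ∀ t : G, orderOf t = 2 →
    (∀ w, orderOf w = 2 → Commute w t → w ≠ t → w ∉ K t) ∧ ∃ y, Commute y t ∧ y ∈ K t ∧ y ^ 2 ≠ 1

theorem Dih.involution_eq [IsSimpleGroup G] {t s y : G} (h : IsPartition K) (d : Dih K t s y) {w : G}
    (hw : orderOf w = 2) (hwt : Commute w t) (hwK : w ∈ K t) : w = t := by
  by_contra hne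
  obtain ⟨N, hN, hN2, hsN⟩ := d.exists_index_two h hw hwt hwK hne
  rcases hN.eq_bot_or_eq_top with e | e
  · -- the whole group then has order two
    rw [e, Subgroup.index_bot] at hN2
    have h1 := ne_one_of_involution d.ht
    have h2 : ∀ x : G, x = 1 ∨ x = t := by
      intro x
      haveI := Fintype.ofFinite G
      classical
      by_contra! hx
      have : ({1, t, x} : Finset G).card ≤ Fintype.card G := Finset.card_le_univ _
      rw [← Nat.card_eq_fintype_card, hN2, Finset.card_insert_of_notMem, Finset.card_pair hx.2.symm] at this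
      · omega
      · simp [Ne.symm h1, Ne.symm hx.1]
    rcases h2 w with e' | e'
    · exact ne_one_of_involution hw e'
    · exact hne e'
  · exact hsN (e ▸ Subgroup.mem_top s)

/-- the dihedral case: a linear group over a field of odd order -/
theorem Std.psl_of_dih [IsSimpleGroup G] (h : Std K) (S : Sylow 2 G) {z s y : G} (d : Dih K z s y)
    (hzS : z ∈ (S : Subgroup G)) (hzc : ∀ x ∈ (S : Subgroup G), Commute x z) :
    DihedralType K ∧ ∃ (F : Type) (_ : Field F) (_ : Fintype F), Odd (Fintype.card F) ∧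
      Nonempty (G ≃* Matrix.ProjectiveSpecialLinearGroup (Fin 2) F) := by
  classical
  haveI : Fact (Nat.Prime 2) := ⟨Nat.prime_two⟩
  have P := h.toIsPartition
  have hz1 := ne_one_of_involution d.ht
  set C := Subgroup.centralizer ({z} : Set G) with hC
  have hCm : ∀ x, x ∈ C ↔ Commute x z := fun x => Subgroup.mem_centralizer_singleton_iff
  have huniq : ∀ {w}, orderOf w = 2 → Commute w z → w ∈ K z → w = z := fun hw hwt hwK =>
    d.involution_eq P hw hwt hwK
  -- the centre of the member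
  obtain ⟨z₀, hz₀, hz₀c⟩ := exists_central_of_nilpotent (h.isNilpotent z hz1) (p := 2)
    (d.ht ▸ Subgroup.orderOf_dvd_natCard _ (P.mem z hz1))
  have hz₀z : (z₀ : G) = z := huniq (by rw [Subgroup.orderOf_coe]; exact hz₀)
    (congrArg Subtype.val (hz₀c ⟨z, P.mem z hz1⟩).eq).symm z₀.2
  have hHC : ∀ a ∈ K z, Commute a z := fun a ha => hz₀z ▸ congrArg Subtype.val (hz₀c ⟨a, ha⟩).eq
  have hNC : ∀ g ∈ Subgroup.normalizer ((K z : Subgroup G) : Set G), Commute g z := by
    intro g hg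
    have hm : g * z * g⁻¹ ∈ K z := (Subgroup.mem_normalizer_iff.1 hg z).1 (P.mem z hz1)
    exact mul_inv_eq_iff_eq_mul.1 (huniq (by rw [CfsgLib.Involutions.orderOf_conj_eq, d.ht]) (hHC _ hm) hm)
  -- outside the member
  obtain ⟨x₀, hx₀S, hx₀⟩ : ∃ x ∈ (S : Subgroup G), x ∉ K z := by
    by_contra! hall
    -- a conjugate of `s` in the centraliser lies in the Sylow subgroup
    have hSC : (S : Subgroup G) ≤ C := fun x hx => (hCm x).2 (hzc x hx)
    have hp : IsPGroup 2 (Subgroup.zpowers (⟨s, (hCm s).2 d.hst⟩ : C)) := IsPGroup.of_card (n := 1)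
      (by rw [Nat.card_zpowers, Subgroup.orderOf_mk, d.orderOf_s P, pow_one])
    obtain ⟨W, hW⟩ := hp.exists_le_sylow
    obtain ⟨g, hg⟩ := MulAction.exists_smul_eq C W (S.subtype hSC)
    have : (g : C) * ⟨s, (hCm s).2 d.hst⟩ * g⁻¹ ∈ (S.subtype hSC : Subgroup C) := by
      rw [← hg]
      exact Subgroup.mem_map.2 ⟨_, hW (Subgroup.mem_zpowers _), rfl⟩
    have hm : (g : G) * s * (g : G)⁻¹ ∈ K z := hall _ this
    have hgn := P.mem_normalizer_of_commute hz1 ((hCm (g : G)).1 g.2)
    exact d.hs ((Subgroup.mem_normalizer_iff.1 hgn s).2 hm)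
  have hx₀t : Commute x₀ z := hzc x₀ hx₀S
  have hx₀2 : orderOf x₀ = 2 := P.orderOf_outside d.ht hx₀t hx₀
  set Q := K z ⊓ (S : Subgroup G) with hQ
  have hQc : ∀ {a b : G}, a ∈ Q → b ∈ Q → Commute a b := fun ha hb =>
    d.comm P (hzc _ ha.2) ha.1 (hzc _ hb.2) hb.1
  haveI hQcyc : IsCyclic Q := by
    letI : CommGroup Q := { mul_comm := fun a b => Subtype.ext (hQc a.2 b.2).eq }
    refine Cfsg.Tech46.Sympl.isCyclic_of_unique_involution (S.isPGroup'.to_le inf_le_right) fun a b ha hb => ?_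
    rw [← Subgroup.orderOf_coe] at ha hb
    exact Subtype.ext ((huniq ha (hzc _ a.2.2) a.2.1).trans (huniq hb (hzc _ b.2.2) b.2.1).symm)
  obtain ⟨⟨a, ha⟩, hgen⟩ := IsCyclic.exists_generator (α := Q)
  have hgen' : ∀ x ∈ Q, x ∈ Subgroup.zpowers a := fun x hx => by
    obtain ⟨i, hi⟩ := Subgroup.mem_zpowers_iff.1 (hgen ⟨x, hx⟩)
    exact ⟨i, congrArg Subtype.val hi⟩
  have hxa : x₀ * a ∉ K z := fun hm => hx₀ (by simpa using mul_mem hm (inv_mem ha.1))
  have hxa2 : orderOf (x₀ * a) = 2 := P.orderOf_outside d.ht (hx₀t.mul_left (hzc a ha.2)) hxa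
  have hSeq : Subgroup.closure ({x₀, x₀ * a} : Set G) = (S : Subgroup G) := by
    refine le_antisymm ((Subgroup.closure_le _).2 ?_) fun x hx => ?_
    · rintro b (rfl | rfl)
      · exact hx₀S
      · exact mul_mem hx₀S ha.2
    · have hacl : Subgroup.zpowers a ≤ Subgroup.closure ({x₀, x₀ * a} : Set G) := Subgroup.zpowers_le.2 (by
        have := mul_mem (inv_mem (Subgroup.subset_closure (Or.inl rfl) : x₀ ∈ Subgroup.closure ({x₀, x₀ * a} : Set G)))
          (Subgroup.subset_closure (Or.inr rfl) : x₀ * a ∈ Subgroup.closure ({x₀, x₀ * a} : Set G))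
        simpa using this)
      by_cases hxK : x ∈ K z
      · exact hacl (hgen' x ⟨hxK, hx⟩)
      · have hm : x₀ * x ∈ Q := ⟨d.mul_mem_inside P hx₀t hx₀ (hzc x hx) hxK, mul_mem hx₀S hx⟩
        have hxe : x = x₀⁻¹ * (x₀ * x) := by group
        rw [hxe]
        exact mul_mem (inv_mem (Subgroup.subset_closure (Or.inl rfl))) (hacl (hgen' _ hm))
  have hn : orderOf (x₀ * (x₀ * a)) = orderOf a := by rw [← mul_assoc, mul_self_eq_one hx₀2, one_mul]
  have hn2 : 2 ≤ orderOf a := by
    have hza := orderOf_dvd_of_mem_zpowers (hgen' z ⟨P.mem z hz1, hzS⟩)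
    rw [d.ht] at hza
    exact Nat.le_of_dvd (orderOf_pos a) hza
  obtain ⟨e⟩ := CfsgLib.Involutions.closure_pair_mulEquiv_dihedral hx₀2 hxa2
  rw [hn] at e
  -- the core of the centraliser
  set O := (Cfsg.oddCore C).map C.subtype with hO
  have hOodd : Odd (Nat.card O) := by
    rw [hO, Subgroup.card_map_of_injective C.subtype_injective]
    exact Nat.coprime_two_right.1 CfsgLib.PCore.pPrimeCore_coprime
  have hOC : ∀ o ∈ O, Commute o z := by
    rintro _ ⟨o, -, rfl⟩
    exact (hCm (o : G)).1 o.2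
  have hOK : ∀ o ∈ O, o ∈ K z := fun o ho => by
    by_contra hne
    exact (Nat.not_even_iff_odd.2 hOodd) (CfsgLib.Involutions.even_card_of_involution_mem ho
      (P.orderOf_outside d.ht (hOC o ho) hne))
  have hQO : ∀ x ∈ Q, x ∈ Subgroup.centralizer (O : Set G) := fun x hx =>
    Subgroup.mem_centralizer_iff.2 fun o ho => (d.comm P (hOC o ho) (hOK o ho) (hzc x hx.2) hx.1).eq
  obtain ⟨F, _, _, hF, ⟨eF⟩⟩ := Cfsg.Agent.S0508.result S (orderOf a) hn2
    ⟨(MulEquiv.subgroupCongr hSeq.symm).trans e⟩ z d.ht hzS (fun x hx => (hzc x hx).eq) O hO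
    (fun hOb => by
      obtain ⟨⟨o, ho⟩, ho1⟩ := Subgroup.ne_bot_iff_exists_ne_one.1 hOb
      have hSO : (S : Subgroup G) ⊓ Subgroup.centralizer (O : Set G) = Q := by
        refine le_antisymm (fun x hx => ⟨?_, hx.1⟩) fun x hx => ⟨hx.2, hQO x hx⟩
        by_contra hxK
        have e1 := d.inverts P (hzc x hx.1) hxK (hOC o ho) (hOK o ho)
        rw [← Subgroup.mem_centralizer_iff.1 hx.2 o ho, mul_inv_cancel_right] at e1
        have h1 : orderOf o ∣ 2 := orderOf_dvd_of_pow_eq_one (by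
          rw [sq]; exact mul_eq_one_iff_eq_inv.2 e1)
        have h2 := hOodd.of_dvd_nat (Subgroup.orderOf_dvd_natCard O ho)
        rcases (Nat.dvd_prime Nat.prime_two).1 h1 with h3 | h3
        · exact ho1 (Subtype.ext (orderOf_eq_one_iff.1 h3))
        · rw [h3] at h2
          exact absurd h2 (by decide)
      rw [hSO]
      refine ⟨hQcyc, Subgroup.index_eq_two_iff.2 ⟨⟨x₀, hx₀S⟩, fun b => ?_⟩⟩
      have hbt : Commute (b : G) z := hzc b b.2
      have hm : ∀ x : (S : Subgroup G), x ∈ Q.subgroupOf S ↔ (x : G) ∈ K z := fun x =>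
        ⟨fun hx => hx.1, fun hx => ⟨hx, x.2⟩⟩
      simp only [hm]
      show Xor' ((b : G) * x₀ ∈ K z) ((b : G) ∈ K z)
      by_cases hb : (b : G) ∈ K z
      · exact Or.inr ⟨hb, fun hm' => hx₀ (by simpa using mul_mem (inv_mem hb) hm')⟩
      · exact Or.inl ⟨d.mul_mem_inside P hbt hb hx₀t hx₀, hb⟩)
    (fun x hx hxO o ho => d.inverts P (hzc x hx) (fun hm => hxO (hQO x ⟨hm, hx⟩)) (hOC o ho) (hOK o ho))
    (fun Y hY hYb g hg => by
      obtain ⟨⟨o, ho⟩, ho1⟩ := Subgroup.ne_bot_iff_exists_ne_one.1 hYb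
      refine (hCm g).2 (hNC g (P.mem_normalizer_of_mem hz1 (y := o) (fun e => ho1 (Subtype.ext e))
        (hOK o (hY ho)) ?_))
      exact hOK _ (hY ((Subgroup.mem_normalizer_iff.1 hg o).1 ho)))
  refine ⟨fun t ht => ?_, F, _, _, hF, ⟨eF⟩⟩
  have h2 : (2 : F) ≠ 0 := fun e2 => by
    haveI : CharP F 2 := CharTwo.of_one_ne_zero_of_two_eq_zero one_ne_zero e2
    obtain ⟨k, hk, hc⟩ := FiniteField.card F 2
    rw [hc] at hF
    exact (Nat.not_even_iff_odd.2 hF) (Nat.even_pow.2 ⟨even_two, k.pos.ne'⟩)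
  obtain ⟨c, hc⟩ := isConj_iff.1 (CfsgLib.PSL2.isConj_of_orderOf_two h2
    (x := eF t) (y := eF z) (by rw [MulEquiv.orderOf_eq, ht]) (by rw [MulEquiv.orderOf_eq, d.ht]))
  set g := eF.symm c with hg
  have hgt : g * t * g⁻¹ = z := eF.injective (by simp [hg, hc])
  refine ⟨fun w hw hwt hne hwK => hne ?_, ?_⟩
  · have h1 : g * w * g⁻¹ ∈ K z := hgt ▸ (P.mem_conj g t w (ne_one_of_involution ht)).2 hwK
    have h2' : Commute (g * w * g⁻¹) z := hgt ▸ by simpa using hwt.map (MulAut.conj g).toMonoidHom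
    have h3 := huniq (by rw [CfsgLib.Involutions.orderOf_conj_eq, hw]) h2' h1
    rw [← hgt] at h3
    exact mul_left_cancel (mul_right_cancel h3)
  · refine ⟨g⁻¹ * y * g, ?_, ?_, ?_⟩
    · have := d.hyt.map (MulAut.conj g⁻¹).toMonoidHom
      rw [← hgt] at this
      simpa [mul_assoc] using this
    · refine (P.mem_conj g t (g⁻¹ * y * g) (ne_one_of_involution ht)).1 ?_
      rw [hgt, show g * (g⁻¹ * y * g) * g⁻¹ = y by group]
      exact d.hy
    · intro e'
      refine d.hy2 ?_
      calc y ^ 2 = g * (g⁻¹ * y * g) ^ 2 * g⁻¹ := by rw [sq, sq]; group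
        _ = 1 := by rw [e']; group

end CfsgLib.Partition
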