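import Mathlib
import Cfsg.Agent.Lib.Partition.Reduce
import Cfsg.Agent.Lib.Partition.Local
import Cfsg.Agent.Lib.Partition.SimpleDihedral

/-!
# Partitioned almost simple groups: the embedding into the automorphism group, and the main tools
-/

set_option autoImplicit false
set_option linter.style.haveILetI false

namespace CfsgLib.Partition

open CfsgLib.Involutions (ne_one_of_involution mul_self_eq_one inv_eq_self_of_involution)

universe u v

variable {G : Type u} [Group G] {X : Type v} [Group X]

/-- `θ` is the action of `G` on its subgroup `T`, read in `X` through `e` -/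
structure ActsVia (T : Subgroup G) (e : T ≃* X) (θ : G →* MulAut X) : Prop where
  inj : Function.Injective θ
  apply_eq : ∀ (g : G) (a : T), ∃ h : g * (a : G) * g⁻¹ ∈ T, θ g (e a) = e ⟨_, h⟩
  inner : ∀ a : T, θ a = MulAut.conj (e a)

theorem exists_actsVia (T : Subgroup G) [hT : T.Normal] (hC : Subgroup.centralizer (T : Set G) = ⊥)
    (e : T ≃* X) : ∃ θ : G →* MulAut X, ActsVia T e θ := by
  let θ : G →* MulAut X :=
    { toFun := fun g => e.symm.trans ((MulAut.conjNormal g : MulAut T).trans e)
      map_one' := MulEquiv.ext fun x => by simp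
      map_mul' := fun g h => MulEquiv.ext fun x => by simp [map_mul, MulAut.mul_apply] }
  have hap : ∀ (g : G) (a : T), θ g (e a) = e (MulAut.conjNormal g a) := fun g a => by simp [θ]
  refine ⟨θ, ?_, fun g a => ⟨hT.conj_mem a a.2 g, (hap g a).trans (congrArg e (Subtype.ext rfl))⟩,
    fun a => MulEquiv.ext fun x => ?_⟩
  · rw [← MonoidHom.ker_eq_bot_iff, eq_bot_iff, ← hC]
    intro g hg
    refine Subgroup.mem_centralizer_iff.2 fun a ha => ?_
    have h1 : θ g (e ⟨a, ha⟩) = e ⟨a, ha⟩ := by rw [MonoidHom.mem_ker.1 hg, MulAut.one_apply]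
    rw [hap] at h1
    have h2 : g * a * g⁻¹ = a := congrArg Subtype.val (e.injective h1)
    exact (mul_inv_eq_iff_eq_mul.1 h2).symm
  · obtain ⟨b, rfl⟩ := e.surjective x
    rw [hap, MulAut.conj_apply, ← map_inv, ← map_mul, ← map_mul]
    exact congrArg e (Subtype.ext rfl)

namespace ActsVia

variable {T : Subgroup G} {e : T ≃* X} {θ : G →* MulAut X} (hθ : ActsVia T e θ)
include hθ

theorem inn_le {φ : MulAut X} (x : X) (hφ : φ = MulAut.conj x) : φ ∈ θ.range :=
  ⟨(e.symm x : T), by rw [hθ.inner, MulEquiv.apply_symm_apply, hφ]⟩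

theorem mem_of_inner {g : G} {x : X} (hg : θ g = MulAut.conj x) : g ∈ T := by
  have : θ g = θ ((e.symm x : T) : G) := by rw [hθ.inner, MulEquiv.apply_symm_apply, hg]
  rw [hθ.inj this]
  exact (e.symm x).2

theorem commute_of_fixed {g : G} {x : X} (hx : θ g x = x) : Commute g ((e.symm x : T) : G) := by
  obtain ⟨h, hap⟩ := hθ.apply_eq g (e.symm x)
  rw [MulEquiv.apply_symm_apply, hx] at hap
  have h2 : g * ((e.symm x : T) : G) * g⁻¹ = ((e.symm x : T) : G) := by
    have := congrArg (fun z => ((e.symm z : T) : G)) hap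
    simpa using this.symm
  exact mul_inv_eq_iff_eq_mul.1 h2

end ActsVia

variable [Finite G] {K : G → Subgroup G}

/-- two involutions in one nilpotent member with product of odd order coincide -/
theorem eq_of_involutions_nilpotent {H : Subgroup G} (hH : Group.IsNilpotent H) {t w : G} (ht : t ∈ H)
    (hw : w ∈ H) (ht2 : orderOf t = 2) (hw2 : orderOf w = 2) {n : ℕ} (hn : Odd n)
    (htw : (t * w) ^ n = 1) : t = w := by
  haveI : Fact (Nat.Prime 2) := ⟨Nat.prime_two⟩
  obtain ⟨R⟩ : Nonempty (Sylow 2 H) := inferInstance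
  haveI : (R : Subgroup H).Normal :=
    ((Group.isNilpotent_of_finite_tfae (G := H)).out 0 3 : Group.IsNilpotent H ↔
      ∀ (p : ℕ) (_hp : Fact p.Prime) (P : Sylow p H), (P : Subgroup H).Normal).1 hH 2 inferInstance R
  haveI : Unique (Sylow 2 H) := Sylow.unique_of_normal R inferInstance
  have hmem : ∀ {a : G} (ha : a ∈ H), orderOf a = 2 → (⟨a, ha⟩ : H) ∈ (R : Subgroup H) := by
    intro a ha ha2
    have hp : IsPGroup 2 (Subgroup.zpowers (⟨a, ha⟩ : H)) := IsPGroup.of_card (n := 1)
      (by rw [Nat.card_zpowers, Subgroup.orderOf_mk, ha2, pow_one])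
    obtain ⟨S, hS⟩ := hp.exists_le_sylow
    rw [Subsingleton.elim S R] at hS
    exact hS (Subgroup.mem_zpowers _)
  obtain ⟨k, hk⟩ := R.isPGroup' ⟨_, mul_mem (hmem ht ht2) (hmem hw hw2)⟩
  have hk' : (t * w) ^ 2 ^ k = 1 := congrArg Subtype.val (congrArg Subtype.val hk)
  have h1 : (t * w) ^ 1 = 1 := by
    rw [← (hn.coprime_two_right.pow_right k).gcd_eq_one]
    exact pow_gcd_eq_one.2 ⟨htw, hk'⟩
  rw [pow_one] at h1
  rw [eq_inv_of_mul_eq_one_left h1, inv_eq_self_of_involution hw2]

/-- an element of odd prime order commutes with involutions inside its member only -/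
theorem IsPartition.involution_mem (h : IsPartition K) {x t : G} {r : ℕ} (hr : r.Prime) (hr2 : r ≠ 2)
    (hx : orderOf x = r) (ht : orderOf t = 2) (hc : Commute x t) : t ∈ K x :=
  h.mem_of_commute (ne_one_of_orderOf_prime hr hx) hc (by rw [hx, ht]; exact hr2)

/-- no element outside a simple normal subgroup of dihedral type centralises a four-group of it -/
theorem Std.false_of_dihedralType (h : Std K) (T : Subgroup G) [hTn : T.Normal] [IsSimpleGroup T]
    (hd : DihedralType fun x : T => (K x).subgroupOf T) {x : G} {r : ℕ} (hr : r.Prime)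
    (hx : orderOf x = r) (hxT : x ∉ T) {t w : T} (ht : orderOf t = 2) (hw : orderOf w = 2)
    (htw : Commute w t) (hne : w ≠ t) (hxt : Commute x (t : G)) (hxw : Commute x (w : G)) : False := by
  have P := h.toIsPartition
  have ht' : orderOf (t : G) = 2 := by rw [Subgroup.orderOf_coe]; exact ht
  have hw' : orderOf (w : G) = 2 := by rw [Subgroup.orderOf_coe]; exact hw
  obtain ⟨hout, y, hyt, hy, hy2⟩ := hd t ht
  have hwK : (w : G) ∉ K (t : G) := fun hm => hout w hw htw hne hm
  by_cases hr2 : r = 2
  · subst hr2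
    have hwt : Commute (w : G) t := htw.map T.subtype
    have d : Dih K (t : G) w y :=
      ⟨ht', hwt, hwK, hyt.map T.subtype, hy, fun e => hy2 (Subtype.ext e)⟩
    obtain ⟨u, hu, hut, huK, hune⟩ : ∃ u, orderOf u = 2 ∧ Commute u (t : G) ∧ u ∈ K (t : G) ∧ u ∉ T := by
      by_cases hxK : x ∈ K (t : G)
      · exact ⟨x, hx, hxt, hxK, hxT⟩
      refine ⟨x * w, orderOf_eq_prime ?_ fun e => hxT ?_, hxt.mul_left hwt,
        d.mul_mem_inside P hxt hxK hwt hwK, fun hm => hxT (by simpa using T.mul_mem hm (T.inv_mem w.2))⟩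
      · rw [hxw.mul_pow, sq, sq, mul_self_eq_one hx, mul_self_eq_one hw', mul_one]
      · rw [eq_inv_of_mul_eq_one_left e]; exact T.inv_mem w.2
    obtain ⟨N, hN, hN2, hsN⟩ := d.exists_index_two P hu hut huK fun e => hune (e ▸ t.2)
    haveI := hN
    rcases (inferInstance : (N.subgroupOf T).Normal).eq_bot_or_eq_top with e | e
    · -- then `T` has order at most two
      have h2 : Nat.card T ∣ 2 := by
        rw [← Subgroup.index_bot, ← e, ← hN2]
        exact N.relIndex_dvd_index_of_normal T
      have hle : Nat.card T ≤ 2 := Nat.le_of_dvd (by norm_num) h2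
      haveI := Fintype.ofFinite T
      classical
      have h3 : ({1, t, w} : Finset T).card ≤ Nat.card T := by
        rw [Nat.card_eq_fintype_card]; exact Finset.card_le_univ _
      rw [Finset.card_insert_of_notMem, Finset.card_pair hne.symm] at h3
      · omega
      · simp [(ne_one_of_involution ht).symm, (ne_one_of_involution hw).symm]
    · exact hsN (Subgroup.subgroupOf_eq_top.1 e w.2)
  · have ht1 := P.involution_mem hr hr2 hx ht' hxt
    have hw1 := P.involution_mem hr hr2 hx hw' hxw
    rw [← P.eq_of_mem x _ (ne_one_of_orderOf_prime hr hx) ht1 (ne_one_of_involution ht')] at hw1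
    exact hwK hw1

/-- no element of odd prime order outside centralises two involutions with product of odd order -/
theorem Std.false_of_odd_product (h : Std K) {x t w : G} {r n : ℕ} (hr : r.Prime) (hr2 : r ≠ 2)
    (hx : orderOf x = r) (ht : orderOf t = 2) (hw : orderOf w = 2) (hxt : Commute x t)
    (hxw : Commute x w) (hn : Odd n) (htw : (t * w) ^ n = 1) : t = w := by
  have P := h.toIsPartition
  have hx1 := ne_one_of_orderOf_prime hr hx
  exact eq_of_involutions_nilpotent (h.isNilpotent x hx1) (P.involution_mem hr hr2 hx ht hxt)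
    (P.involution_mem hr hr2 hx hw hxw) ht hw hn htw

end CfsgLib.Partition
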