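import Mathlib
import Cfsg.Agent.Lib.Partition.AlmostCommon
import Cfsg.Agent.Lib.AutPSL.OutPSL

/-!
# Field automorphisms in groups of automorphisms of `PSL₂` containing the inner ones
-/

set_option autoImplicit false
set_option linter.style.haveILetI false
set_option linter.unusedSectionVars false

namespace CfsgLib.Partition

open CfsgLib.AutPSL Matrix

variable {F : Type} [Field F] [Fintype F]

/-- the diagonal matrix with entries `d, 1` -/
def diagTwo (d : Fˣ) : GL (Fin 2) F :=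
  ⟨!![(d : F), 0; 0, 1], !![((d⁻¹ : Fˣ) : F), 0; 0, 1],
    by ext i j; fin_cases i <;> fin_cases j <;> simp [Matrix.mul_apply, Fin.sum_univ_two],
    by ext i j; fin_cases i <;> fin_cases j <;> simp [Matrix.mul_apply, Fin.sum_univ_two]⟩

theorem det_diagTwo (d : Fˣ) : (diagTwo d : Matrix (Fin 2) (Fin 2) F).det = d := by
  simp [diagTwo, Matrix.det_fin_two]

theorem det_ne_zero (a : GL (Fin 2) F) : (a : Matrix (Fin 2) (Fin 2) F).det ≠ 0 :=
  ((Matrix.isUnit_iff_isUnit_det _).1 a.isUnit).ne_zero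

theorem det_mul_inv (a b : GL (Fin 2) F) :
    ((a * b⁻¹ : GL (Fin 2) F) : Matrix (Fin 2) (Fin 2) F).det =
      (a : Matrix (Fin 2) (Fin 2) F).det / (b : Matrix (Fin 2) (Fin 2) F).det := by
  rw [Units.val_mul, Matrix.det_mul, Matrix.coe_units_inv, Matrix.det_nonsing_inv, Ring.inverse_eq_inv',
    div_eq_mul_inv]

theorem conjAut_center {z : GL (Fin 2) F} (hz : z ∈ Subgroup.center (GL (Fin 2) F)) :
    (conjAut z : MulAut (PSLG 2 F)) = 1 := by
  apply MulEquiv.ext
  intro x
  induction x using QuotientGroup.induction_on with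
  | H t =>
    rw [conjAut_mk, MulAut.one_apply]
    congr 1
    apply Subtype.ext
    rw [slConj_coe]
    have hzc : (z : Matrix (Fin 2) (Fin 2) F) * t.1 = t.1 * z :=
      (congrArg Units.val (Subgroup.mem_center_iff.1 hz (Matrix.SpecialLinearGroup.toGL t))).symm
    rw [hzc, Matrix.mul_assoc, ← Units.val_mul, mul_inv_cancel, Units.val_one, Matrix.mul_one]

theorem ker_conjAut : (conjAut : GL (Fin 2) F →* MulAut (PSLG 2 F)).ker = Subgroup.center (GL (Fin 2) F) := by
  ext z
  refine ⟨fun hz => (eq_one_of_conj_field (σ := 1) le_rfl ?_).1, fun hz => conjAut_center hz⟩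
  rw [map_one, mul_one]; exact hz

theorem conjAut_toGL (s : SLG 2 F) :
    (conjAut (Matrix.SpecialLinearGroup.toGL s) : MulAut (PSLG 2 F)) = MulAut.conj (QuotientGroup.mk s) := by
  apply MulEquiv.ext
  intro x
  induction x using QuotientGroup.induction_on with
  | H t =>
    rw [conjAut_mk, MulAut.conj_apply, ← QuotientGroup.mk_inv, ← QuotientGroup.mk_mul, ← QuotientGroup.mk_mul]
    rfl

/-- a matrix of square determinant acts as an inner automorphism -/
theorem exists_conj_eq_conjAut {a : GL (Fin 2) F} (ha : IsSquare (a : Matrix (Fin 2) (Fin 2) F).det) :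
    ∃ x : PSLG 2 F, (conjAut a : MulAut (PSLG 2 F)) = MulAut.conj x := by
  obtain ⟨c, hc⟩ := ha
  have hc0 : c ≠ 0 := fun e => det_ne_zero a (by rw [hc, e, mul_zero])
  let z : GL (Fin 2) F := diagGL fun _ => Units.mk0 c hc0
  have hzd : (z : Matrix (Fin 2) (Fin 2) F).det = c * c := by
    show (Matrix.diagonal fun _ : Fin 2 => c).det = _
    simp [sq]
  have hzc : z ∈ Subgroup.center (GL (Fin 2) F) :=
    Matrix.GeneralLinearGroup.mem_center_iff_val_mem_range_scalar.2 ⟨c, rfl⟩
  let s : SLG 2 F := ⟨((z⁻¹ * a : GL (Fin 2) F) : Matrix (Fin 2) (Fin 2) F), by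
    rw [Units.val_mul, Matrix.det_mul, Matrix.coe_units_inv, Matrix.det_nonsing_inv, hzd, hc,
      Ring.inverse_eq_inv', inv_mul_cancel₀ (mul_ne_zero hc0 hc0)]⟩
  refine ⟨QuotientGroup.mk s, ?_⟩
  rw [← conjAut_toGL, show Matrix.SpecialLinearGroup.toGL s = z⁻¹ * a from Units.ext rfl, map_mul, map_inv,
    conjAut_center hzc, inv_one, one_mul]

theorem aut_eq_conjAut_mul_field (β : MulAut (PSLG 2 F)) :
    ∃ (a : GL (Fin 2) F) (σ : F ≃+* F), β = conjAut a * fieldAut σ := by
  obtain ⟨a, σ, rfl | rfl⟩ := aut_psl_structure le_rfl β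
  · exact ⟨a, σ, rfl⟩
  · obtain ⟨b, hb⟩ := (iotaAut_two : (iotaAut : MulAut (PSLG 2 F)) ∈ (conjAut : GL (Fin 2) F →* _).range)
    exact ⟨a * glField σ b, σ, by rw [← hb, mul_assoc, fieldAut_mul_conjAut, map_mul, mul_assoc]⟩

theorem exists_pow_eq {a : GL (Fin 2) F} {σ : F ≃+* F} (j : ℕ) :
    ∃ b : GL (Fin 2) F, (conjAut a * fieldAut σ : MulAut (PSLG 2 F)) ^ j = conjAut b * fieldAut (σ ^ j) := by
  induction j with
  | zero => exact ⟨1, by simp⟩
  | succ j ih =>
    obtain ⟨b, hb⟩ := ih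
    refine ⟨b * glField (σ ^ j) a, ?_⟩
    rw [pow_succ, hb, pow_succ, map_mul, map_mul,
      show conjAut b * fieldAut (σ ^ j) * (conjAut a * fieldAut σ) =
        conjAut b * (fieldAut (σ ^ j) * conjAut a) * fieldAut σ by group, fieldAut_mul_conjAut]
    group

theorem mul_eq_conjAut (a b : GL (Fin 2) F) (σ τ : F ≃+* F) :
    (conjAut a * fieldAut σ) * (conjAut b * fieldAut τ) =
      (conjAut (a * glField σ b) * fieldAut (σ * τ) : MulAut (PSLG 2 F)) := by
  rw [map_mul, map_mul, show conjAut a * fieldAut σ * (conjAut b * fieldAut τ) =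
    (conjAut a * (fieldAut σ * conjAut b) * fieldAut τ : MulAut (PSLG 2 F)) by group, fieldAut_mul_conjAut]
  group

theorem det_glField (σ : F ≃+* F) (a : GL (Fin 2) F) :
    (glField σ a : Matrix (Fin 2) (Fin 2) F).det = σ (a : Matrix (Fin 2) (Fin 2) F).det := by
  rw [glField_coe, det_map_ringEquiv]

theorem ringChar_ne_two (hodd : Odd (Fintype.card F)) : ringChar F ≠ 2 := fun h =>
  (Nat.not_even_iff_odd.2 hodd) (Nat.even_iff.2 (FiniteField.even_card_of_char_two h))

theorem isSquare_mul_map (hodd : Odd (Fintype.card F)) (σ : F ≃+* F) {d : F} (hd : d ≠ 0) :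
    IsSquare (d * σ d) := by
  have h2 := ringChar_ne_two hodd
  have hσd : σ d ≠ 0 := by simpa using hd
  rw [FiniteField.isSquare_iff h2 (mul_ne_zero hd hσd), mul_pow, ← map_pow]
  rcases FiniteField.pow_dichotomy h2 hd with e | e <;> simp [e]

theorem isSquare_div (hodd : Odd (Fintype.card F)) {d d' : F} (hd : ¬ IsSquare d) (hd' : ¬ IsSquare d') :
    IsSquare (d / d') := by
  have h2 := ringChar_ne_two hodd
  have hd0 : d ≠ 0 := fun e => hd (e ▸ ⟨0, (mul_zero 0).symm⟩)
  have hd0' : d' ≠ 0 := fun e => hd' (e ▸ ⟨0, (mul_zero 0).symm⟩)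
  rw [FiniteField.isSquare_iff h2 hd0] at hd
  rw [FiniteField.isSquare_iff h2 hd0'] at hd'
  rw [FiniteField.isSquare_iff h2 (div_ne_zero hd0 hd0'), div_pow,
    (FiniteField.pow_dichotomy h2 hd0).resolve_left hd, (FiniteField.pow_dichotomy h2 hd0').resolve_left hd']
  norm_num

theorem isSquare_of_even (heven : ¬ Odd (Fintype.card F)) (d : F) : IsSquare d :=
  FiniteField.isSquare_of_char_two (by
    by_contra h
    exact heven (Nat.odd_iff.2 (FiniteField.odd_card_of_char_ne_two h))) d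

variable {G : Type*} [Group G] {T : Subgroup G} {e : T ≃* PSLG 2 F} {θ : G →* MulAut (PSLG 2 F)}

/-- no field automorphism of prime order, and no field automorphism of order two twisted by a
diagonal one, means only inner and diagonal automorphisms -/
theorem range_le (hθ : ActsVia T e θ)
    (hpure : ∀ σ : F ≃+* F, (orderOf σ).Prime → fieldAut σ ∉ θ.range)
    (htwist : Odd (Fintype.card F) → ∀ (σ : F ≃+* F) (ν : Fˣ), orderOf σ = 2 → ¬ IsSquare (ν : F) →
      conjAut (diagTwo ν) * fieldAut σ ∉ θ.range) :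
    θ.range ≤ (conjAut : GL (Fin 2) F →* MulAut (PSLG 2 F)).range := by
  have hinner : ∀ {a : GL (Fin 2) F}, IsSquare (a : Matrix (Fin 2) (Fin 2) F).det → conjAut a ∈ θ.range := by
    intro a ha
    obtain ⟨x, hx⟩ := exists_conj_eq_conjAut ha
    exact hθ.inn_le x hx
  intro β hβ
  obtain ⟨a, σ, rfl⟩ := aut_eq_conjAut_mul_field β
  by_cases hσ : σ = 1
  · exact ⟨a, by rw [hσ, map_one, mul_one]⟩
  exfalso
  haveI : Finite (F ≃+* F) := Finite.of_injective (fun σ : F ≃+* F => (σ : F → F)) DFunLike.coe_injective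
  obtain ⟨r, hr, hrd⟩ := Nat.exists_prime_and_dvd (n := orderOf σ) (fun h => hσ (orderOf_eq_one_iff.1 h))
  obtain ⟨b, hb⟩ := exists_pow_eq (a := a) (σ := σ) (orderOf σ / r)
  have hβ' : conjAut b * fieldAut (σ ^ (orderOf σ / r)) ∈ θ.range := hb ▸ pow_mem hβ _
  set τ := σ ^ (orderOf σ / r) with hτdef
  have hτ : orderOf τ = r := exists_pow_orderOf_eq hr hrd
  by_cases hsq : IsSquare (b : Matrix (Fin 2) (Fin 2) F).det
  · have := mul_mem (inv_mem (hinner hsq)) hβ'
    rw [inv_mul_cancel_left] at this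
    exact hpure τ (hτ ▸ hr) this
  have hodd : Odd (Fintype.card F) := by
    by_contra he
    exact hsq (isSquare_of_even he _)
  by_cases hr2 : r = 2
  · subst hr2
    obtain ⟨ν, hν⟩ : ∃ ν : Fˣ, ¬ IsSquare (ν : F) := ⟨Units.mk0 _ (det_ne_zero b), hsq⟩
    refine htwist hodd τ ν hτ hν ?_
    have hsq' : IsSquare ((diagTwo ν * b⁻¹ : GL (Fin 2) F) : Matrix (Fin 2) (Fin 2) F).det := by
      rw [det_mul_inv, det_diagTwo]
      exact isSquare_div hodd hν hsq
    have := mul_mem (hinner hsq') hβ'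
    rwa [← mul_assoc, ← map_mul, inv_mul_cancel_right] at this
  · -- the square is a pure field automorphism
    have h2 := mul_mem hβ' hβ'
    rw [mul_eq_conjAut] at h2
    have hsq' : IsSquare ((b * glField τ b : GL (Fin 2) F) : Matrix (Fin 2) (Fin 2) F).det := by
      rw [Units.val_mul, Matrix.det_mul, det_glField]
      exact isSquare_mul_map hodd τ (det_ne_zero b)
    have := mul_mem (inv_mem (hinner hsq')) h2
    rw [inv_mul_cancel_left] at this
    refine hpure (τ * τ) ?_ this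
    rw [← sq, Nat.Coprime.orderOf_pow (hτ ▸ (Nat.coprime_primes hr Nat.prime_two).2 hr2), hτ]
    exact hr

/-- a group of automorphisms strictly between `PSL₂` and `PGL₂` is `PGL₂` -/
theorem iso_pgl_of_range_le (hθ : ActsVia T e θ) (hT : T ≠ ⊤) (hodd : Odd (Fintype.card F))
    (hle : θ.range ≤ (conjAut : GL (Fin 2) F →* MulAut (PSLG 2 F)).range) :
    Nonempty (G ≃* (GL (Fin 2) F ⧸ Subgroup.center (GL (Fin 2) F))) := by
  obtain ⟨g, hgT⟩ : ∃ g, g ∉ T := by
    by_contra! hall
    exact hT ((Subgroup.eq_top_iff' T).2 hall)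
  obtain ⟨a, ha⟩ := hle ⟨g, rfl⟩
  have hnsq : ¬ IsSquare (a : Matrix (Fin 2) (Fin 2) F).det := fun hsq => by
    obtain ⟨x, hx⟩ := exists_conj_eq_conjAut hsq
    exact hgT (hθ.mem_of_inner (ha.symm.trans hx))
  have heq : θ.range = (conjAut : GL (Fin 2) F →* MulAut (PSLG 2 F)).range := by
    refine le_antisymm hle ?_
    rintro _ ⟨b, rfl⟩
    by_cases hb : IsSquare (b : Matrix (Fin 2) (Fin 2) F).det
    · obtain ⟨x, hx⟩ := exists_conj_eq_conjAut hb
      exact hθ.inn_le x hx
    · obtain ⟨x, hx⟩ := exists_conj_eq_conjAut (a := b * a⁻¹) (by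
        rw [det_mul_inv]; exact isSquare_div hodd hb hnsq)
      have := mul_mem (hθ.inn_le x hx) (⟨g, rfl⟩ : θ g ∈ θ.range)
      rwa [← ha, ← map_mul, inv_mul_cancel_right] at this
  exact ⟨(MonoidHom.ofInjective hθ.inj).trans ((MulEquiv.subgroupCongr heq).trans
    ((QuotientGroup.quotientKerEquivRange _).symm.trans (QuotientGroup.quotientMulEquivOfEq ker_conjAut)))⟩

end CfsgLib.Partition
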