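import Mathlib
import Cfsg.Agent.Lib.Partition.AlmostField
import Cfsg.Agent.S0251

/-!
# Partitioned almost simple groups over `PSL₂` of odd order
-/

set_option autoImplicit false
set_option linter.style.haveILetI false
set_option linter.unusedSectionVars false

namespace CfsgLib.Partition

open CfsgLib.AutPSL Matrix

variable {F : Type} [Field F] [Fintype F]

theorem mk_eq_mk_iff {M N : SLG 2 F} :
    (QuotientGroup.mk M : PSLG 2 F) = QuotientGroup.mk N ↔
      (N : Matrix (Fin 2) (Fin 2) F) = M.1 ∨ (N : Matrix (Fin 2) (Fin 2) F) = -M.1 := by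
  rw [QuotientGroup.eq, CfsgLib.SpecLin.SLTwo.mem_center_iff']
  have e : ((M⁻¹ * N : SLG 2 F) : Matrix (Fin 2) (Fin 2) F) = (M⁻¹ : SLG 2 F).1 * N.1 := rfl
  have hM : M.1 * (M⁻¹ : SLG 2 F).1 = 1 := by
    rw [← Matrix.SpecialLinearGroup.coe_mul, mul_inv_cancel]; rfl
  have hM' : (M⁻¹ : SLG 2 F).1 * M.1 = 1 := by
    rw [← Matrix.SpecialLinearGroup.coe_mul, inv_mul_cancel]; rfl
  rw [e]
  constructor
  · rintro (h | h) <;> have h1 := congrArg (M.1 * ·) h <;>
      simp only [← Matrix.mul_assoc, hM, Matrix.one_mul, Matrix.mul_one, Matrix.mul_neg] at h1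
    · exact Or.inl h1
    · exact Or.inr h1
  · rintro (h | h) <;> rw [h]
    · exact Or.inl hM'
    · exact Or.inr (by rw [Matrix.mul_neg, hM'])

theorem orderOf_mk_eq_two {M : SLG 2 F} (hsq : M.1 * M.1 = -1) (hne : M.1 ≠ 1 ∧ M.1 ≠ -1) :
    orderOf (QuotientGroup.mk M : PSLG 2 F) = 2 := by
  refine orderOf_eq_prime ?_ fun e => ?_
  · rw [sq, ← QuotientGroup.mk_mul, ← QuotientGroup.mk_one, mk_eq_mk_iff]
    right
    show (1 : Matrix (Fin 2) (Fin 2) F) = -(M.1 * M.1)
    rw [hsq, neg_neg]
  · rw [QuotientGroup.eq_one_iff, CfsgLib.SpecLin.SLTwo.mem_center_iff'] at e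
    exact e.elim hne.1 hne.2

/-- the standard involution -/
def slW : SLG 2 F := ⟨!![0, 1; -1, 0], by simp [Matrix.det_fin_two]⟩

theorem orderOf_mk_slW : orderOf (QuotientGroup.mk (slW (F := F)) : PSLG 2 F) = 2 := by
  refine orderOf_mk_eq_two ?_ ⟨fun e => ?_, fun e => ?_⟩
  · ext i j; fin_cases i <;> fin_cases j <;> simp [slW, Matrix.mul_apply, Fin.sum_univ_two]
  · have := congrFun (congrFun e 0) 1
    simp [slW] at this
  · have := congrFun (congrFun e 0) 1
    simp [slW] at this

/-- two commuting involutions with entries in the prime field -/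
theorem exists_fixed_four (h2 : (2 : F) ≠ 0) :
    ∃ w : PSLG 2 F, orderOf w = 2 ∧ Commute w (QuotientGroup.mk slW) ∧ w ≠ QuotientGroup.mk slW ∧
      (∀ σ : F ≃+* F, fieldAut σ w = w) ∧ ∀ σ : F ≃+* F, fieldAut σ (QuotientGroup.mk slW : PSLG 2 F) = QuotientGroup.mk slW := by
  obtain ⟨p, hp⟩ := CharP.exists F
  haveI := hp
  haveI : Fact p.Prime := ⟨(CharP.char_is_prime_or_zero F p).resolve_right fun e => by
    subst e
    haveI := CharP.charP_to_charZero F
    exact not_finite F⟩
  obtain ⟨a₀, b₀, hab⟩ := ZMod.sq_add_sq p (-1)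
  set φ := ZMod.castHom (dvd_refl p) F
  set a := φ a₀
  set b := φ b₀
  have hσ : ∀ (σ : F ≃+* F) (x : ZMod p), σ (φ x) = φ x := fun σ x =>
    RingHom.congr_fun (RingHom.ext_zmod (σ.toRingHom.comp φ) φ) x
  have hab' : a ^ 2 + b ^ 2 = -1 := by
    have := congrArg φ hab
    simpa using this
  let w : SLG 2 F := ⟨!![a, b; b, -a], by rw [Matrix.det_fin_two]; simp; linear_combination -hab'⟩
  have hw0 : a ≠ 0 ∨ b ≠ 0 := by
    by_contra! h
    rw [h.1, h.2] at hab'
    simp at hab'
  refine ⟨QuotientGroup.mk w, orderOf_mk_eq_two ?_ ⟨?_, ?_⟩, ?_, ?_, fun σ => ?_, fun σ => ?_⟩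
  · ext i j
    fin_cases i <;> fin_cases j <;> simp [w, Matrix.mul_apply, Fin.sum_univ_two] <;>
      first | linear_combination hab' | linear_combination -hab' | ring
  · intro e
    have e0 := congrFun (congrFun e 0) 0
    have e1 := congrFun (congrFun e 1) 1
    simp [w] at e0 e1
    exact h2 (by first | linear_combination -e0 - e1 | linear_combination -e0 + e1 | linear_combination e0 - e1 | linear_combination e0 + e1)
  · intro e
    have e0 := congrFun (congrFun e 0) 0
    have e1 := congrFun (congrFun e 1) 1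
    simp [w] at e0 e1
    exact h2 (by first | linear_combination -e0 - e1 | linear_combination -e0 + e1 | linear_combination e0 - e1 | linear_combination e0 + e1)
  · show _ * _ = _ * _
    rw [← QuotientGroup.mk_mul, ← QuotientGroup.mk_mul, mk_eq_mk_iff]
    right
    show (slW (F := F)).1 * w.1 = -(w.1 * (slW (F := F)).1)
    ext i j
    fin_cases i <;> fin_cases j <;> simp [w, slW, Matrix.SpecialLinearGroup.coe_mul, Matrix.mul_apply, Fin.sum_univ_two]
  · intro e
    rw [mk_eq_mk_iff] at e
    rcases e with e | e <;>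
    · have e0 := congrFun (congrFun e 0) 0
      have e01 := congrFun (congrFun e 0) 1
      have e10 := congrFun (congrFun e 1) 0
      simp [w, slW] at e0 e01 e10
      rcases hw0 with h | h
      · first | exact h e0 | exact h e0.symm
      · exact h2 (by first | linear_combination -e01 - e10 | linear_combination -e01 + e10 | linear_combination e01 - e10 | linear_combination e01 + e10)
  · rw [fieldAut_mk]
    congr 1
    apply Subtype.ext
    rw [slField_coe]
    ext i j
    fin_cases i <;> fin_cases j <;> simp [w, a, b, hσ]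
  · rw [fieldAut_mk]
    congr 1
    apply Subtype.ext
    rw [slField_coe]
    ext i j
    fin_cases i <;> fin_cases j <;> simp [slW]

theorem card_mod_four_of_involution (hodd : Odd (Fintype.card F)) {σ : F ≃+* F} (hσ : orderOf σ = 2) :
    Fintype.card F % 4 ≠ 3 := by
  obtain ⟨p, hp⟩ := CharP.exists F
  haveI := hp
  obtain ⟨f, hpp, hcard⟩ := FiniteField.card F p
  haveI : Fact p.Prime := ⟨hpp⟩
  obtain ⟨e⟩ := nonempty_ringAut_equiv hcard
  haveI : Finite (Multiplicative (ZMod f)) := Finite.of_equiv _ Multiplicative.ofAdd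
  have h1 : orderOf (e σ) ∣ Nat.card (Multiplicative (ZMod f)) := orderOf_dvd_natCard _
  rw [MulEquiv.orderOf_eq, hσ, Nat.card_congr Multiplicative.toAdd, Nat.card_zmod] at h1
  obtain ⟨k, hk⟩ := h1
  rw [hcard] at hodd ⊢
  rw [hk, pow_mul]
  have h2 : Odd p := (Nat.odd_pow_iff (by rw [hk]; intro e; simp [e] at hk)).1 hodd
  have h3 : p ^ 2 % 4 = 1 := by
    obtain ⟨j, rfl⟩ := h2
    ring_nf
    omega
  rw [Nat.pow_mod, h3, one_pow]
  omega

theorem four_le_card {T : Type*} [Group T] {e : T ≃* PSLG 2 F} {K : T → Subgroup T} (hodd : Odd (Fintype.card F))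
    (hd : DihedralType K) : 4 ≤ Fintype.card F := by
  by_contra hlt
  have h1 : 1 < Fintype.card F := Fintype.one_lt_card
  have h3 : Fintype.card F = 3 := by
    obtain ⟨k, hk⟩ := hodd
    omega
  obtain ⟨e3⟩ := Cfsg.Agent.S0251.result h3
  have key₀ : ∀ t y : Equiv.Perm (Fin 4), Equiv.Perm.sign t = 1 → Equiv.Perm.sign y = 1 →
      t * t = 1 → t ≠ 1 → y * t = t * y → y * y = 1 := by decide
  have key : ∀ t y : alternatingGroup (Fin 4), t * t = 1 → t ≠ 1 → y * t = t * y → y * y = 1 :=
    fun t y h1 h2 h3 => Subtype.ext (key₀ t y (Equiv.Perm.mem_alternatingGroup.1 t.2)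
      (Equiv.Perm.mem_alternatingGroup.1 y.2) (congrArg Subtype.val h1) (fun h4 => h2 (Subtype.ext h4))
      (congrArg Subtype.val h3))
  set f := e.trans e3
  have ht : orderOf (e.symm (QuotientGroup.mk slW) : T) = 2 := by
    rw [MulEquiv.orderOf_eq]; exact orderOf_mk_slW
  obtain ⟨-, y, hy, -, hy2⟩ := hd _ ht
  refine hy2 (f.injective ?_)
  rw [map_pow, map_one, sq]
  refine key (f (e.symm (QuotientGroup.mk slW))) _ ?_ (fun h => ?_) (by rw [← map_mul, ← map_mul, hy.eq])
  · rw [← map_mul, CfsgLib.Involutions.mul_self_eq_one ht, map_one]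
  · rw [MulEquiv.map_eq_one_iff] at h
    exact CfsgLib.Involutions.ne_one_of_involution ht h

variable {G : Type*} [Group G] [Finite G] {K : G → Subgroup G} {T : Subgroup G} [T.Normal] [IsSimpleGroup T]
  {e : T ≃* PSLG 2 F} {θ : G →* MulAut (PSLG 2 F)}

theorem Std.not_pure_field_odd (h : Std K) (hθ : ActsVia T e θ)
    (hd : DihedralType fun x : T => (K x).subgroupOf T) (h2 : (2 : F) ≠ 0) (σ : F ≃+* F)
    (hσ : (orderOf σ).Prime) : fieldAut σ ∉ θ.range := by
  rintro ⟨x, hx⟩
  obtain ⟨w, hw, hcw, hne, hwσ, htσ⟩ := exists_fixed_four (F := F) h2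
  have hinj : Function.Injective (fieldAut : (F ≃+* F) →* MulAut (PSLG 2 F)) := by
    refine (injective_iff_map_eq_one _).2 fun τ hτ => (eq_one_of_conj_field (g := 1) le_rfl ?_).2
    rw [map_one, one_mul, hτ]
  have hxo : orderOf x = orderOf σ := by
    rw [← orderOf_injective θ hθ.inj x, hx, orderOf_injective _ hinj]
  have hxT : x ∉ T := fun hm => by
    have hin := hθ.inner ⟨x, hm⟩
    rw [hx] at hin
    obtain ⟨s, hs⟩ := QuotientGroup.mk_surjective (e ⟨x, hm⟩)
    rw [← hs, ← conjAut_toGL] at hin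
    have h1 : (conjAut (Matrix.SpecialLinearGroup.toGL s)⁻¹ * fieldAut σ : MulAut (PSLG 2 F)) = 1 := by
      rw [map_inv, hin, inv_mul_cancel]
    have := (eq_one_of_conj_field le_rfl h1).2
    rw [this, orderOf_one] at hσ
    exact hσ.ne_one rfl
  refine h.false_of_dihedralType T hd hσ hxo hxT (t := e.symm (QuotientGroup.mk slW)) (w := e.symm w)
    (by rw [MulEquiv.orderOf_eq]; exact orderOf_mk_slW) (by rw [MulEquiv.orderOf_eq]; exact hw)
    (hcw.map e.symm) (fun e0 => hne (e.symm.injective e0))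
    (hθ.commute_of_fixed (by rw [hx]; exact htσ σ)) (hθ.commute_of_fixed (by rw [hx]; exact hwσ σ))

theorem Std.not_twisted_field_odd (h : Std K) (hθ : ActsVia T e θ)
    (hd : DihedralType fun x : T => (K x).subgroupOf T) (hodd : Odd (Fintype.card F)) (σ : F ≃+* F) (ν : Fˣ)
    (hσ : orderOf σ = 2) (hν : ¬ IsSquare (ν : F)) : conjAut (diagTwo ν) * fieldAut σ ∉ θ.range := by
  intro hmem
  have h2 : (2 : F) ≠ 0 := Ring.two_ne_zero (ringChar_ne_two hodd)
  have hσ1 : σ ≠ 1 := fun e0 => by rw [e0, orderOf_one] at hσ; omega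
  -- a generator in place of `ν`
  obtain ⟨η, hη⟩ := IsCyclic.exists_generator (α := Fˣ)
  have hηsq : ¬ IsSquare (η : F) := by
    rintro ⟨c, hc⟩
    obtain ⟨a, ha⟩ := FiniteField.exists_nonsquare (F := F) (ringChar_ne_two hodd)
    have ha0 : a ≠ 0 := fun e0 => ha (e0 ▸ ⟨0, (mul_zero 0).symm⟩)
    obtain ⟨i, hi⟩ := Subgroup.mem_zpowers_iff.1 (hη (Units.mk0 a ha0))
    refine ha ⟨c ^ i, ?_⟩
    rw [← mul_zpow, ← hc]
    have := congrArg Units.val hi
    simpa using this.symm
  have hfix : (σ (η : F) ≠ η) := by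
    intro e0
    refine hσ1 (RingEquiv.ext fun a => ?_)
    rcases eq_or_ne a 0 with rfl | ha
    · simp
    obtain ⟨i, hi⟩ := Subgroup.mem_zpowers_iff.1 (hη (Units.mk0 a ha))
    have e1 : a = (η : F) ^ i := by simpa using (congrArg Units.val hi).symm
    rw [RingAut.one_apply, e1, map_zpow₀, e0]
  have hnorm : (η : F) * σ η ≠ 1 := by
    intro e0
    have hσi : ∀ a : F, σ a = a⁻¹ := fun a => by
      rcases eq_or_ne a 0 with rfl | ha
      · simp
      obtain ⟨i, hi⟩ := Subgroup.mem_zpowers_iff.1 (hη (Units.mk0 a ha))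
      have e1 : a = (η : F) ^ i := by simpa using (congrArg Units.val hi).symm
      rw [e1, map_zpow₀, eq_inv_of_mul_eq_one_right e0, _root_.inv_zpow]
    -- inversion is not additive
    have hneg : ∀ a : F, a ≠ 0 → a + 1 ≠ 0 → a ^ 2 + a + 1 = 0 := fun a ha ha1 => by
      have := map_add σ a 1
      rw [map_one, hσi a, hσi (a + 1)] at this
      field_simp at this
      linear_combination -this
    rcases eq_or_ne ((2 : F) + 1) 0 with h3 | h3
    · -- characteristic three: every element is in the prime field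
      refine hσ1 (RingEquiv.ext fun a => ?_)
      rw [RingAut.one_apply, hσi a]
      rcases eq_or_ne a 0 with rfl | ha
      · simp
      rcases eq_or_ne (a + 1) 0 with ha1 | ha1
      · rw [eq_neg_of_add_eq_zero_left ha1, inv_neg, inv_one]
      · have hsq : (a - 1) * (a - 1) = 0 := by linear_combination hneg a ha ha1 - a * h3
        rcases mul_eq_zero.1 hsq with h4 | h4 <;> rw [sub_eq_zero] at h4 <;> rw [h4, inv_one]
    · refine h3 ?_
      have := hneg 1 one_ne_zero (by rwa [one_add_one_eq_two])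
      linear_combination this
  obtain ⟨u, hu⟩ := exists_conj_eq_conjAut (a := diagTwo η * (diagTwo ν)⁻¹) (by
    rw [det_mul_inv, det_diagTwo, det_diagTwo]; exact isSquare_div hodd hηsq hν)
  obtain ⟨z, hz⟩ : conjAut (diagTwo η) * fieldAut σ ∈ θ.range := by
    have := mul_mem (hθ.inn_le u hu) hmem
    rwa [← mul_assoc, ← map_mul, inv_mul_cancel_right] at this
  -- the two involutions
  obtain ⟨i, hi⟩ := (FiniteField.isSquare_neg_one_iff (F := F)).2 (card_mod_four_of_involution hodd hσ)
  let ti : SLG 2 F := ⟨!![i, 0; 0, -i], by rw [Matrix.det_fin_two]; simp; linear_combination hi⟩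
  have hti : orderOf (QuotientGroup.mk ti : PSLG 2 F) = 2 := by
    refine orderOf_mk_eq_two ?_ ⟨fun e0 => ?_, fun e0 => ?_⟩
    · ext a b
      fin_cases a <;> fin_cases b <;> simp [ti, Matrix.mul_apply, Fin.sum_univ_two] <;>
        linear_combination -hi
    · have e1 := congrFun (congrFun e0 0) 0
      have e2 := congrFun (congrFun e0 1) 1
      simp [ti] at e1 e2
      exact h2 (by first | linear_combination -e1 - e2 | linear_combination -e1 + e2 | linear_combination e1 - e2 | linear_combination e1 + e2)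
    · have e1 := congrFun (congrFun e0 0) 0
      have e2 := congrFun (congrFun e0 1) 1
      simp [ti] at e1 e2
      exact h2 (by first | linear_combination -e1 - e2 | linear_combination -e1 + e2 | linear_combination e1 - e2 | linear_combination e1 + e2)
  have hσi : σ i = i ∨ σ i = -i := by
    have : σ i * σ i = i * i := by rw [← map_mul, ← hi, map_neg, map_one]
    exact mul_self_eq_mul_self_iff.1 this
  have hzti : θ z (QuotientGroup.mk ti) = QuotientGroup.mk ti := by
    rw [hz, MulAut.mul_apply, fieldAut_mk, conjAut_mk, mk_eq_mk_iff, slConj_coe, slField_coe]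
    have hconj : (diagTwo η : Matrix (Fin 2) (Fin 2) F) * ti.1.map σ *
        ((diagTwo η)⁻¹ : GL (Fin 2) F).1 = ti.1.map σ := by
      have : (diagTwo η : Matrix (Fin 2) (Fin 2) F) * ti.1.map σ = ti.1.map σ * diagTwo η := by
        ext a b
        fin_cases a <;> fin_cases b <;> simp [ti, diagTwo, Matrix.mul_apply, Fin.sum_univ_two, mul_comm]
      rw [this, Matrix.mul_assoc, ← Units.val_mul, mul_inv_cancel, Units.val_one, Matrix.mul_one]
    rw [hconj]
    rcases hσi with e0 | e0
    · left
      ext a b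
      fin_cases a <;> fin_cases b <;> simp [ti, e0]
    · right
      ext a b
      fin_cases a <;> fin_cases b <;> simp [ti, e0]
  set t : T := e.symm (QuotientGroup.mk ti) with ht
  set w : T := e.symm (QuotientGroup.mk slW) with hw
  have hto : orderOf t = 2 := by rw [ht, MulEquiv.orderOf_eq]; exact hti
  have hwo : orderOf w = 2 := by rw [hw, MulEquiv.orderOf_eq]; exact orderOf_mk_slW
  have hne : w ≠ t := fun e0 => by
    have e1 := e.symm.injective e0
    rw [mk_eq_mk_iff] at e1
    have hi0 : i ≠ 0 := fun e2 => by rw [e2, mul_zero] at hi; simp at hi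
    rcases e1 with e1 | e1 <;>
    · have e2 := congrFun (congrFun e1 0) 0
      simp [ti, slW] at e2
      exact hi0 e2
  have hwt : Commute w t := by
    refine Commute.map ?_ e.symm
    show _ * _ = _ * _
    rw [← QuotientGroup.mk_mul, ← QuotientGroup.mk_mul, mk_eq_mk_iff]
    right
    show ti.1 * (slW (F := F)).1 = -((slW (F := F)).1 * ti.1)
    ext a b
    fin_cases a <;> fin_cases b <;> simp [ti, slW, Matrix.SpecialLinearGroup.coe_mul, Matrix.mul_apply, Fin.sum_univ_two]
  have hzt : Commute z (t : G) := hθ.commute_of_fixed hzti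
  have hwt' : Commute (w : G) (t : G) := hwt.map T.subtype
  have hwK : (w : G) ∉ K (t : G) := fun hm => (hd t hto).1 w hwo hwt hne hm
  have ht' : orderOf (t : G) = 2 := by rw [Subgroup.orderOf_coe]; exact hto
  have hσsq : σ * σ = 1 := by rw [← sq, ← hσ, pow_orderOf_eq_one]
  -- one of `z`, `z w` lies outside the member of `t`, so it is an involution
  by_cases hzK : z ∈ K (t : G)
  · have hzw : z * (w : G) ∉ K (t : G) := fun hm => hwK (by simpa using mul_mem (inv_mem hzK) hm)
    have hsq := CfsgLib.Involutions.mul_self_eq_one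
      (h.toIsPartition.orderOf_outside ht' (hzt.mul_left hwt') hzw)
    have hθw : θ (w : G) = conjAut (Matrix.SpecialLinearGroup.toGL slW) := by
      rw [hθ.inner, hw, MulEquiv.apply_symm_apply, conjAut_toGL]
    have hθzw : θ (z * w) = conjAut (diagTwo η * glField σ (Matrix.SpecialLinearGroup.toGL slW)) * fieldAut σ := by
      rw [map_mul, hz, hθw, map_mul, mul_assoc, fieldAut_mul_conjAut, ← mul_assoc]
    have := congrArg θ hsq
    rw [map_mul, hθzw, map_one, mul_eq_conjAut, hσsq, map_one, mul_one] at this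
    obtain ⟨c, hc⟩ := Matrix.GeneralLinearGroup.mem_center_iff_val_mem_range_scalar.1
      ((ker_conjAut (F := F)) ▸ MonoidHom.mem_ker.2 this)
    have hM : ((diagTwo η * glField σ (Matrix.SpecialLinearGroup.toGL slW) : GL (Fin 2) F) :
        Matrix (Fin 2) (Fin 2) F) = !![0, (η : F); -1, 0] := by
      rw [Units.val_mul, glField_coe]
      show (diagTwo η : Matrix (Fin 2) (Fin 2) F) * (slW (F := F)).1.map σ = _
      ext a b
      fin_cases a <;> fin_cases b <;> simp [diagTwo, slW, Matrix.mul_apply, Fin.sum_univ_two]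
    rw [Units.val_mul, glField_coe, hM] at hc
    have e0 := congrFun (congrFun hc 0) 0
    have e1 := congrFun (congrFun hc 1) 1
    simp [Matrix.mul_apply, Fin.sum_univ_two] at e0 e1
    exact hfix (by first | linear_combination e0 - e1 | linear_combination e1 - e0)
  · have hsq := CfsgLib.Involutions.mul_self_eq_one (h.toIsPartition.orderOf_outside ht' hzt hzK)
    have := congrArg θ hsq
    rw [map_mul, hz, map_one, mul_eq_conjAut, hσsq, map_one, mul_one] at this
    obtain ⟨c, hc⟩ := Matrix.GeneralLinearGroup.mem_center_iff_val_mem_range_scalar.1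
      ((ker_conjAut (F := F)) ▸ MonoidHom.mem_ker.2 this)
    have e0 := congrFun (congrFun hc 0) 0
    have e1 := congrFun (congrFun hc 1) 1
    simp [diagTwo, glField_coe, Matrix.mul_apply, Fin.sum_univ_two] at e0 e1
    exact hnorm (by first | linear_combination e1 - e0 | linear_combination e0 - e1)

/-- the almost simple groups over `PSL₂` of odd order with a partition -/
theorem Std.pgl_of_odd (h : Std K) (hC : Subgroup.centralizer (T : Set G) = ⊥) (hT : T ≠ ⊤)
    (e : T ≃* PSLG 2 F) (hodd : Odd (Fintype.card F)) (hd : DihedralType fun x : T => (K x).subgroupOf T) :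
    5 ≤ Fintype.card F ∧ Nonempty (G ≃* (GL (Fin 2) F ⧸ Subgroup.center (GL (Fin 2) F))) := by
  have h4 := four_le_card (e := e) hodd hd
  refine ⟨by obtain ⟨k, hk⟩ := hodd; omega, ?_⟩
  obtain ⟨θ, hθ⟩ := exists_actsVia T hC e
  exact iso_pgl_of_range_le hθ hT hodd (range_le hθ
    (fun σ hσ => h.not_pure_field_odd hθ hd (Ring.two_ne_zero (ringChar_ne_two hodd)) σ hσ)
    fun ho σ ν hσ hν => h.not_twisted_field_odd hθ hd ho σ ν hσ hν)

end CfsgLib.Partition
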