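import Mathlib
import Cfsg.Agent.Lib.Partition.Tools
import Cfsg.Agent.Lib.StrongEmbedding.Swap
import Cfsg.Agent.Lib.Frobenius.Conjugacy
import Cfsg.Agent.Lib.Suzuki.Recognition.Zassenhaus
import Cfsg.Agent.Lib.Zass29.Normal

/-!
# Simple groups with a nilpotent trivial-intersection subgroup of even order

The action on the cosets of its normalizer (following the treatment of Frobenius systems).
-/

set_option autoImplicit false
set_option linter.style.haveILetI false
set_option linter.unusedSectionVars false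

namespace CfsgLib.Partition

open scoped Pointwise
open CfsgLib.Involutions (orderOf_conj_eq)
open MulAction

universe u

variable {G : Type u} [Group G] [Finite G] {M H : Subgroup G}

/-- a nilpotent subgroup of even order with trivial intersections containing the centralisers of
its involutions; `M` is its normalizer -/
structure TIEven (M H : Subgroup G) : Prop where
  nil : Group.IsNilpotent H
  core_le : H ≤ M
  norm_mem : ∀ {m f : G}, m ∈ M → f ∈ H → m * f * m⁻¹ ∈ H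
  ti : ∀ {g f : G}, f ∈ H → f ≠ 1 → g * f * g⁻¹ ∈ H → g ∈ M
  involution_mem : ∀ {t : G}, t ∈ M → orderOf t = 2 → t ∈ H
  cent_inv : ∀ {t x : G}, t ∈ H → orderOf t = 2 → Commute x t → x ∈ H
  even : Even (Nat.card H)
  lt : H < M
  ne_top : M ≠ ⊤

/-- the base point -/
abbrev tiBase (M : Subgroup G) : G ⧸ M := ((1 : G) : G ⧸ M)

/-- the stabiliser of the base point and `y` -/
abbrev tiPair (M : Subgroup G) (y : G ⧸ M) : Subgroup G :=
  stabilizer G (tiBase M) ⊓ stabilizer G y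

omit [Finite G] in
theorem ti_mem_M_iff {g : G} : g ∈ M ↔ g • tiBase M = tiBase M := by
  rw [← mem_stabilizer_iff, stabilizer_quotient M]

namespace TIEven

variable (h : TIEven M H)
include h

theorem se : Cfsg.IsStronglyEmbedded M := by
  refine ⟨h.ne_top, ?_, fun g hg => ?_⟩
  · exact even_iff_two_dvd.2 (h.even.two_dvd.trans (Subgroup.card_dvd_of_le h.core_le))
  rw [← Nat.not_even_iff_odd]
  intro he
  obtain ⟨t, ⟨htM, ⟨t', ht', htt⟩⟩, ht⟩ := CfsgLib.Involutions.exists_involution_of_even_card _ he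
  rw [MulEquiv.coe_toMonoidHom, MulAut.conj_apply] at htt
  have ht'o : orderOf t' = 2 := by rw [← ht, ← htt, orderOf_conj_eq]
  refine hg (h.ti (h.involution_mem ht' ht'o) (fun e => ?_) (htt ▸ h.involution_mem htM ht))
  rw [e, orderOf_one] at ht'o
  omega

theorem exists_central_involution :
    ∃ s ∈ H, orderOf s = 2 ∧ ∀ f ∈ H, f * s = s * f := by
  haveI : Fact (Nat.Prime 2) := ⟨Nat.prime_two⟩
  haveI := h.nil
  obtain ⟨Q⟩ : Nonempty (Sylow 2 (H)) := inferInstance
  haveI : (Q : Subgroup (H)).Normal :=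
    (Group.isNilpotent_of_finite_tfae.out 0 3 rfl rfl |>.mp (h.nil)) 2 ⟨Nat.prime_two⟩ Q
  haveI : Nontrivial (Q : Subgroup (H)) := (Subgroup.nontrivial_iff_ne_bot _).2 fun e => by
    have := Q.dvd_card_of_dvd_card h.even.two_dvd
    rw [e, Subgroup.card_bot] at this
    omega
  haveI := Q.isPGroup'.center_nontrivial
  have hev : 2 ∣ Nat.card (Subgroup.center (Q : Subgroup (H))) := by
    obtain ⟨j, hj⟩ := (Q.isPGroup'.to_subgroup (Subgroup.center (Q : Subgroup (H)))).exists_card_eq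
    rcases j with _ | j
    · rw [pow_zero] at hj
      exact absurd hj (ne_of_gt Finite.one_lt_card)
    · exact hj ▸ dvd_pow_self 2 j.succ_ne_zero
  obtain ⟨z₀, hz⟩ := exists_prime_orderOf_dvd_card' 2 hev
  rw [← Subgroup.orderOf_coe, ← Subgroup.orderOf_coe] at hz
  set z : H := ((z₀ : (Q : Subgroup (H))) : H)
  set C := Subgroup.centralizer ({z} : Set (H)) with hC
  have htop : C = ⊤ := by
    rw [← Subgroup.index_eq_one]
    by_contra hne
    obtain ⟨r, hr, hri⟩ := Nat.exists_prime_and_dvd hne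
    haveI : Fact r.Prime := ⟨hr⟩
    obtain ⟨R⟩ : Nonempty (Sylow r (H)) := inferInstance
    refine R.not_dvd_index (hri.trans (Subgroup.index_dvd_of_le fun x hx => ?_))
    rw [hC, Subgroup.mem_centralizer_singleton_iff]
    by_cases hr2 : r = 2
    · subst hr2
      haveI : Unique (Sylow 2 (H)) := Sylow.unique_of_normal Q inferInstance
      rw [Subsingleton.elim R Q] at hx
      exact congrArg Subtype.val (Subgroup.mem_center_iff.1 z₀.2 ⟨x, hx⟩)
    · haveI : (R : Subgroup (H)).Normal :=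
        (Group.isNilpotent_of_finite_tfae.out 0 3 rfl rfl |>.mp (h.nil)) r ⟨hr⟩ R
      exact (Subgroup.commute_of_normal_of_disjoint _ _ inferInstance inferInstance
        (IsPGroup.disjoint_of_ne r 2 hr2 _ _ R.isPGroup' Q.isPGroup') x z hx (z₀ : (Q : Subgroup (H))).2).eq
  refine ⟨(z : G), z.2, by rw [Subgroup.orderOf_coe]; exact hz, fun f hf => ?_⟩
  have : (⟨f, hf⟩ : H) ∈ C := htop ▸ Subgroup.mem_top _
  exact congrArg Subtype.val (Subgroup.mem_centralizer_singleton_iff.1 this)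

theorem exists_swap {y : G ⧸ M} (hy : y ≠ tiBase M) : ∃ r : G, orderOf r = 2 ∧ r • tiBase M = y := by
  have hne : Nonempty {i : G // orderOf i = 2 ∧ i • tiBase M = y} := by
    rw [← not_isEmpty_iff]
    intro he
    obtain ⟨s, hsF, hs, -⟩ := h.exists_central_involution
    have := CfsgLib.StrongEmbedding.card_swapping h.se (Ne.symm hy)
    haveI : Nonempty {t : G // orderOf t = 2 ∧ t ∈ M} := ⟨⟨s, hs, h.core_le hsF⟩⟩
    have hc := CfsgLib.StrongEmbedding.card_swapping h.se (Ne.symm hy)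
    rw [Nat.card_of_isEmpty] at hc
    exact (Nat.card_pos (α := {t : G // orderOf t = 2 ∧ t ∈ M})).ne hc
  obtain ⟨r⟩ := hne
  exact ⟨r.1, r.2⟩

theorem inf_eq_bot {y : G ⧸ M} (hy : y ≠ tiBase M) {c : G} (hc : c ∈ tiPair M y) (hcH : c ∈ H) :
    c = 1 := by
  by_contra hc1
  have hodd : ¬ Even (orderOf c) := by
    intro he
    have ht := CfsgLib.Involutions.orderOf_pow_half he
    set t := c ^ (orderOf c / 2)
    have htp : t ∈ tiPair M y := pow_mem hc _
    obtain ⟨g, hg⟩ := QuotientGroup.mk_surjective y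
    subst hg
    have hty : g⁻¹ * t * g ∈ M := CfsgLib.Involutions.smul_coset_eq_iff.1 htp.2
    have hto : orderOf (g⁻¹ * t * g) = 2 := by simpa using (orderOf_conj_eq g⁻¹ t).trans ht
    refine hy (QuotientGroup.eq.2 ?_)
    rw [mul_one]
    exact inv_mem (h.ti (g := g) (h.involution_mem hty hto) (fun e => by rw [e, orderOf_one] at hto; omega)
      (by rw [show g * (g⁻¹ * t * g) * g⁻¹ = t by group]; exact pow_mem hcH _))
  obtain ⟨r, hr, hry⟩ := h.exists_swap hy
  have h2 : r * r = 1 := CfsgLib.Involutions.mul_self_eq_one hr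
  have hri : r⁻¹ = r := CfsgLib.Involutions.inv_eq_self_of_involution hr
  have hyr : r • y = tiBase M := by rw [← hry, smul_smul, h2, one_smul]
  have hrM : r ∉ M := fun hm => hy (hry.symm.trans (ti_mem_M_iff.1 hm))
  set c' := r * c * r with hc'
  have hc'M : c' ∈ M := ti_mem_M_iff.2 (by rw [hc', mul_smul, mul_smul, hry, hc.2, hyr])
  have hdis : ∀ f ∈ H, r * f * r ∈ H → f = 1 := fun f hf hf' => by
    by_contra hf1
    exact hrM (h.ti hf hf1 (by rwa [hri]))
  have hrcM : r * c' * r = c := by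
    rw [hc', show r * (r * c * r) * r = (r * r) * c * (r * r) by group, h2]; group
  have hcc : Commute c c' := by
    have e1 : c * c' * c⁻¹ * c'⁻¹ ∈ H := by
      rw [show c * c' * c⁻¹ * c'⁻¹ = c * (c' * c⁻¹ * c'⁻¹) by group]
      exact H.mul_mem hcH (h.norm_mem hc'M (H.inv_mem hcH))
    have e2 : r * (c * c' * c⁻¹ * c'⁻¹) * r ∈ H := by
      rw [show r * (c * c' * c⁻¹ * c'⁻¹) * r = (r * c * r⁻¹) * (r * c' * r⁻¹) * (r * c * r⁻¹)⁻¹ *
        (r * c' * r⁻¹)⁻¹ * (r * r) by group, h2, mul_one, hri, hrcM, ← hc']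
      exact H.mul_mem (h.norm_mem hc'M hcH) (H.inv_mem hcH)
    exact mul_inv_eq_iff_eq_mul.1 (mul_inv_eq_one.1 (hdis _ e1 e2))
  set w := c * c' with hw
  have hwr : Commute w r := by
    show c * c' * r = r * (c * c')
    rw [hcc.eq, hc']
    calc r * c * r * c * r = r * (c * (r * c * r)) := by group
      _ = r * (r * c * r * c) := by rw [show c * (r * c * r) = r * c * r * c from hcc.eq]
  -- the member containing the involution
  obtain ⟨x, hx⟩ := CfsgLib.StrongEmbedding.exists_fixed h.se hr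
  obtain ⟨k, rfl⟩ := QuotientGroup.mk_surjective x
  have hrk : k⁻¹ * r * k ∈ M := CfsgLib.Involutions.smul_coset_eq_iff.1 hx
  have hrko : orderOf (k⁻¹ * r * k) = 2 := by simpa using (orderOf_conj_eq k⁻¹ r).trans hr
  have hrkH := h.involution_mem hrk hrko
  have hwH : k⁻¹ * w * k ∈ H := h.cent_inv hrkH hrko (by
    show k⁻¹ * w * k * (k⁻¹ * r * k) = k⁻¹ * r * k * (k⁻¹ * w * k)
    rw [show k⁻¹ * w * k * (k⁻¹ * r * k) = k⁻¹ * (w * r) * k by group, hwr.eq]
    group)
  have hw1 : k⁻¹ * w * k ≠ 1 := fun e => by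
    have e1 : w = 1 := by
      calc w = k * (k⁻¹ * w * k) * k⁻¹ := by group
        _ = 1 := by rw [e]; group
    have e2 : c' ∈ H := by rw [eq_inv_of_mul_eq_one_right e1]; exact H.inv_mem hcH
    exact hc1 (hdis c hcH e2)
  have hckM : k⁻¹ * c * k ∈ M := h.ti hwH hw1 (by
    rw [show k⁻¹ * c * k * (k⁻¹ * w * k) * (k⁻¹ * c * k)⁻¹ = k⁻¹ * (c * w * c⁻¹) * k by group,
      ((Commute.refl c).mul_right hcc).eq, mul_inv_cancel_right]
    exact hwH)
  have hcom : k⁻¹ * (c * c'⁻¹) * k ∈ H := by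
    have e : k⁻¹ * (c * c'⁻¹) * k = k⁻¹ * c * k * (k⁻¹ * r * k) * (k⁻¹ * c * k)⁻¹ * (k⁻¹ * r * k) := by
      rw [hc', mul_inv_rev, mul_inv_rev, hri]; group
    rw [e]
    exact H.mul_mem (h.norm_mem hckM hrkH) hrkH
  have hc2 : (k⁻¹ * c * k) ^ 2 ∈ H := by
    have := H.mul_mem hwH hcom
    rw [show k⁻¹ * w * k * (k⁻¹ * (c * c'⁻¹) * k) = k⁻¹ * (c * c' * c * c'⁻¹) * k by rw [hw]; group,
      mul_assoc c c' c, ← hcc.eq] at this
    rw [sq, show k⁻¹ * c * k * (k⁻¹ * c * k) = k⁻¹ * (c * (c * c') * c'⁻¹) * k by group]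
    exact this
  have hck : k⁻¹ * c * k ∈ H := by
    obtain ⟨m, hm⟩ := Nat.not_even_iff_odd.1 hodd
    have e : (k⁻¹ * c * k) ^ (2 * (m + 1)) = k⁻¹ * c * k := by
      rw [show k⁻¹ * c * k = k⁻¹ * c * k⁻¹⁻¹ by rw [inv_inv], conj_pow,
        show 2 * (m + 1) = orderOf c + 1 by omega, pow_succ, pow_orderOf_eq_one, one_mul]
    rw [← e, pow_mul]
    exact H.pow_mem hc2 _
  have hk : k ∈ M := by
    have := h.ti (g := k⁻¹) hcH hc1 (by rwa [inv_inv])
    exact inv_mem_iff.1 this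
  refine hrM ?_
  have := M.mul_mem (M.mul_mem hk hrk) (M.inv_mem hk)
  rwa [show k * (k⁻¹ * r * k) * k⁻¹ = r by group] at this

theorem exists_conj {y : G ⧸ M} (hy : y ≠ tiBase M) {s t : G} (hs : orderOf s = 2) (hsM : s ∈ M)
    (ht : orderOf t = 2) (htM : t ∈ M) : ∃ d ∈ tiPair M y, d * s * d⁻¹ = t := by
  obtain ⟨d, h1, h2, h3⟩ := CfsgLib.StrongEmbedding.two_point_transitive h.se (Ne.symm hy) hs
    (ti_mem_M_iff.1 hsM) ht (ti_mem_M_iff.1 htM)
  exact ⟨d, ⟨h1, h2⟩, h3⟩

theorem conj_inj {y : G ⧸ M} (hy : y ≠ tiBase M) {s d d' : G} (hs : orderOf s = 2) (hsM : s ∈ M)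
    (hd : d ∈ tiPair M y) (hd' : d' ∈ tiPair M y) (e : d * s * d⁻¹ = d' * s * d'⁻¹) : d = d' := by
  have hsF := h.involution_mem hsM hs
  have hc : d⁻¹ * d' ∈ H := h.cent_inv hsF hs (show _ * s = s * _ from (by
      calc d⁻¹ * d' * s = d⁻¹ * (d' * s * d'⁻¹) * d' := by group
        _ = s * (d⁻¹ * d') := by rw [← e]; group))
  exact inv_mul_eq_one.1 (h.inf_eq_bot hy (mul_mem (inv_mem hd) hd') hc)

theorem card_twoPt {y : G ⧸ M} (hy : y ≠ tiBase M) :
    Nat.card (tiPair M y) = Nat.card {t : G // orderOf t = 2 ∧ t ∈ M} := by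
  obtain ⟨s, hsF, hs, -⟩ := h.exists_central_involution
  have hsM : s ∈ M := h.core_le hsF
  refine Nat.card_eq_of_bijective (fun d => ⟨(d : G) * s * (d : G)⁻¹,
    by rw [orderOf_conj_eq, hs], M.mul_mem (M.mul_mem (ti_mem_M_iff.2 d.2.1) hsM)
      (M.inv_mem (ti_mem_M_iff.2 d.2.1))⟩) ⟨?_, ?_⟩
  · intro d d' e
    exact Subtype.ext (h.conj_inj hy hs hsM d.2 d'.2 (congrArg Subtype.val e))
  · rintro ⟨t, ht, htM⟩
    obtain ⟨d, hd, e⟩ := h.exists_conj hy hs hsM ht htM
    exact ⟨⟨d, hd⟩, Subtype.ext e⟩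

theorem decomp {y : G ⧸ M} (hy : y ≠ tiBase M) {m : G} (hm : m ∈ M) :
    ∃ f ∈ H, ∃ d ∈ tiPair M y, m = f * d := by
  obtain ⟨s, hsF, hs, hsc⟩ := h.exists_central_involution
  have hsM : s ∈ M := h.core_le hsF
  obtain ⟨d, hd, e⟩ := h.exists_conj hy hs hsM (t := m * s * m⁻¹) (by rw [orderOf_conj_eq, hs])
    (M.mul_mem (M.mul_mem hm hsM) (M.inv_mem hm))
  have hdM : d ∈ M := ti_mem_M_iff.2 hd.1
  have hc : d⁻¹ * m ∈ H := h.cent_inv hsF hs (show _ * s = s * _ from (by
      calc d⁻¹ * m * s = d⁻¹ * (m * s * m⁻¹) * m := by group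
        _ = s * (d⁻¹ * m) := by rw [← e]; group))
  exact ⟨d * (d⁻¹ * m) * d⁻¹, h.norm_mem hdM hc, d, hd, by group⟩

theorem odd_twoPt {y : G ⧸ M} (hy : y ≠ tiBase M) : Odd (Nat.card (tiPair M y)) := by
  rw [← Nat.not_even_iff_odd]
  intro he
  obtain ⟨t, ht, ht2⟩ := CfsgLib.Involutions.exists_involution_of_even_card _ he
  have := h.inf_eq_bot hy ht (h.involution_mem (ti_mem_M_iff.2 ht.1) ht2)
  rw [this, orderOf_one] at ht2
  omega

theorem twoPt_ne_bot {y : G ⧸ M} (hy : y ≠ tiBase M) : ∃ d ∈ tiPair M y, d ≠ 1 := by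
  obtain ⟨x, hxM, hxF⟩ := SetLike.exists_of_lt h.lt
  obtain ⟨f, hf, d, hd, rfl⟩ := h.decomp hy hxM
  exact ⟨d, hd, fun e => hxF (by rw [e, mul_one]; exact hf)⟩

theorem not_mem_core {y : G ⧸ M} (hy : y ≠ tiBase M) {d : G} (hd : d ∈ tiPair M y) (hd1 : d ≠ 1) :
    d ∉ H := fun hF' => hd1 (h.inf_eq_bot hy hd hF')

/-- an involution exchanging the base point and `y` inverts the two-point stabiliser -/
theorem swap_inverts {y : G ⧸ M} (hy : y ≠ tiBase M) {r : G} (hr : orderOf r = 2) (hry : r • tiBase M = y)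
    {d : G} (hd : d ∈ tiPair M y) : r * d * r⁻¹ = d⁻¹ := by
  have h2 : r * r = 1 := by rw [← sq, ← hr, pow_orderOf_eq_one]
  have hyr : r • y = tiBase M := by rw [← hry, smul_smul, h2, one_smul]
  have hmem : ∀ i : {i : G // orderOf i = 2 ∧ i • tiBase M = y}, r * i.1 ∈ tiPair M y := fun i => by
    refine ⟨?_, ?_⟩
    · show (r * i.1) • tiBase M = tiBase M
      rw [mul_smul, i.2.2, hyr]
    · show (r * i.1) • y = y
      have hi : i.1 • y = tiBase M :=
        (congrArg (i.1 • ·) i.2.2).symm.trans (CfsgLib.StrongEmbedding.smul_self_of_involution i.2.1 _)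
      rw [mul_smul, hi, hry]
  have hbij : Function.Bijective fun i : {i : G // orderOf i = 2 ∧ i • tiBase M = y} =>
      (⟨r * i.1, hmem i⟩ : tiPair M y) :=
    Function.Injective.bijective_of_nat_card_le
      (fun i j e => Subtype.ext (mul_left_cancel (congrArg Subtype.val e)))
      (le_of_eq (by rw [h.card_twoPt hy, CfsgLib.StrongEmbedding.card_swapping h.se (Ne.symm hy)]))
  obtain ⟨i, hi⟩ := hbij.2 ⟨d, hd⟩
  have hi' : r * i.1 = d := congrArg Subtype.val hi
  have hii : i.1 * i.1 = 1 := by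
    have := pow_orderOf_eq_one i.1
    rwa [i.2.1, sq] at this
  refine eq_inv_of_mul_eq_one_left ?_
  rw [← hi', inv_eq_of_mul_eq_one_right h2]
  calc r * (r * i.1) * r * (r * i.1) = (r * r) * i.1 * (r * r) * i.1 := by group
    _ = 1 := by rw [h2]; simp [hii]

theorem comm_twoPt {y : G ⧸ M} (hy : y ≠ tiBase M) {d e : G} (hd : d ∈ tiPair M y) (he : e ∈ tiPair M y) :
    d * e = e * d := by
  obtain ⟨r, hr, hry⟩ := h.exists_swap hy
  have e1 := h.swap_inverts hy hr hry (mul_mem hd he)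
  have e2 : r * (d * e) * r⁻¹ = d⁻¹ * e⁻¹ := by
    rw [← h.swap_inverts hy hr hry hd, ← h.swap_inverts hy hr hry he]
    group
  rw [e2, mul_inv_rev] at e1
  calc d * e = (e⁻¹ * d⁻¹)⁻¹ := by group
    _ = (d⁻¹ * e⁻¹)⁻¹ := by rw [e1]
    _ = e * d := by group

theorem exists_ne_base : ∃ y : G ⧸ M, y ≠ tiBase M := by
  obtain ⟨g, hg⟩ : ∃ g, g ∉ M := by
    by_contra! hall
    exact h.se.1 ((Subgroup.eq_top_iff' M).2 hall)
  exact ⟨((g : G) : G ⧸ M), fun e => hg (ti_mem_M_iff.2 (by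
    rw [MulAction.Quotient.smul_mk, smul_eq_mul, mul_one]; exact e))⟩

/-- `M` has abelian quotient over `H` -/
theorem comm_mod {y : G ⧸ M} (hy : y ≠ tiBase M) {a b : G} (ha : a ∈ M) (hb : b ∈ M) :
    a * b * a⁻¹ * b⁻¹ ∈ H := by
  obtain ⟨f, hf, d, hd, rfl⟩ := h.decomp hy ha
  obtain ⟨f', hf', e, he, rfl⟩ := h.decomp hy hb
  have hdM := ti_mem_M_iff.2 hd.1
  have heM := ti_mem_M_iff.2 he.1
  have hde := h.comm_twoPt hy hd he
  have e1 : f * d * (f' * e) * (f * d)⁻¹ * (f' * e)⁻¹ =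
      f * (d * f' * d⁻¹) * (e * f⁻¹ * e⁻¹) * f'⁻¹ := by
    calc f * d * (f' * e) * (f * d)⁻¹ * (f' * e)⁻¹
        = f * (d * f' * d⁻¹) * (d * e) * d⁻¹ * f⁻¹ * e⁻¹ * f'⁻¹ := by group
      _ = f * (d * f' * d⁻¹) * (e * d) * d⁻¹ * f⁻¹ * e⁻¹ * f'⁻¹ := by rw [hde]
      _ = _ := by group
  rw [e1]
  exact H.mul_mem (H.mul_mem (H.mul_mem hf (h.norm_mem hdM hf')) (h.norm_mem heM (H.inv_mem hf)))
    (H.inv_mem hf')

variable {K : G → Subgroup G}

/-- elements outside `H` centralise nothing inside, by transfer -/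
theorem commute_free [IsSimpleGroup G] (hK : IsPartition K) (hKH : ∀ x ∈ H, x ≠ 1 → K x = H)
    {a f : G} (ha : a ∈ M) (haH : a ∉ H) (hf : f ∈ H) (hc : f * a = a * f) : f = 1 := by
  classical
  by_contra hf1
  have ha1 : a ≠ 1 := fun e => haH (by rw [e]; exact H.one_mem)
  have hafK : a ∉ K f := by rw [hKH f hf hf1]; exact haH
  have hp : (orderOf f).Prime := hK.prime_of_commute hf1 ha1 hc hafK
  set p := orderOf f with hpdef
  haveI := Fact.mk hp
  have hap : orderOf a = p := (hK.orderOf_eq_of_commute hf1 ha1 hc hafK).symm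
  obtain ⟨y₀, hy₀⟩ := h.exists_ne_base
  haveI hn : (H.subgroupOf M).Normal := ⟨fun x hx m => h.norm_mem m.2 hx⟩
  letI : CommGroup (M ⧸ H.subgroupOf M) :=
    { mul_comm := fun u v => by
        induction u using QuotientGroup.induction_on with
        | H u =>
          induction v using QuotientGroup.induction_on with
          | H v =>
            rw [← QuotientGroup.mk_mul, ← QuotientGroup.mk_mul, QuotientGroup.eq]
            show (((u : G) * v)⁻¹ * (v * u)) ∈ H
            rw [show ((u : G) * v)⁻¹ * (v * u) = (v : G)⁻¹ * (u : G)⁻¹ * (v : G)⁻¹⁻¹ * (u : G)⁻¹⁻¹ by group]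
            exact h.comm_mod hy₀ (M.inv_mem v.2) (M.inv_mem u.2) }
  let φ : M →* M ⧸ H.subgroupOf M := QuotientGroup.mk' _
  set α := φ ⟨a, ha⟩ with hα
  have hα1 : α ≠ 1 := fun e => haH ((QuotientGroup.eq_one_iff (⟨a, ha⟩ : M)).1 e)
  have hαp : α ^ p = 1 := by
    rw [hα, ← map_pow, show (⟨a, ha⟩ : M) ^ p = 1 from Subtype.ext (by
      rw [SubmonoidClass.coe_pow, ← hap, pow_orderOf_eq_one]; rfl), map_one]
  -- the transfer
  haveI : Fintype (G ⧸ M) := Fintype.ofFinite _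
  haveI : Fintype (Quotient (MulAction.orbitRel (Subgroup.zpowers a) (G ⧸ M))) := Fintype.ofFinite _
  set F := Finset.univ.filter (fun z : G ⧸ M => a • z = z) with hF
  let mkq : G ⧸ M → Quotient (MulAction.orbitRel (Subgroup.zpowers a) (G ⧸ M)) := fun z => Quotient.mk'' z
  have hfixpow : ∀ z : G ⧸ M, a • z = z → ∀ g : Subgroup.zpowers a, g • z = z := fun z hz g => by
    obtain ⟨i, hi⟩ := Subgroup.mem_zpowers_iff.1 g.2
    have : (g : G) ∈ stabilizer G z := hi ▸ zpow_mem (mem_stabilizer_iff.2 hz) i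
    exact this
  have hout : ∀ z, a • z = z → (mkq z).out = z := fun z hz => by
    have h1 : (MulAction.orbitRel (Subgroup.zpowers a) (G ⧸ M)) (mkq z).out z := Quotient.mk_out' z
    obtain ⟨g, hg⟩ := MulAction.orbitRel_apply.1 h1
    rw [← hg]; exact hfixpow z hz g
  have hval : φ.transfer a = ∏ z ∈ F, if z = tiBase M then α else α⁻¹ := by
    rw [MonoidHom.transfer_eq_prod_quotient_orbitRel_zpowers_quot]
    have hinj : Set.InjOn mkq F := fun z hz z' hz' e => by
      rw [← hout z (Finset.mem_filter.1 hz).2, ← hout z' (Finset.mem_filter.1 hz').2, e]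
    rw [← Finset.prod_subset (Finset.subset_univ (F.image mkq)) ?_, Finset.prod_image hinj]
    · refine Finset.prod_congr rfl fun z hz => ?_
      have hz' := (Finset.mem_filter.1 hz).2
      have hper : Function.minimalPeriod (a • ·) (mkq z).out = 1 :=
        Function.minimalPeriod_eq_one_iff_isFixedPt.2 (by rw [hout z hz']; exact hz')
      set g := (mkq z).out.out with hg
      have hgz : ((g : G) : G ⧸ M) = z := by rw [hg, QuotientGroup.out_eq', hout z hz']
      have key : ∀ (m : ℕ) (hm : g⁻¹ * a ^ m * g ∈ M), m = 1 →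
          φ ⟨g⁻¹ * a ^ m * g, hm⟩ = if z = tiBase M then α else α⁻¹ := by
        rintro m hm rfl
        split_ifs with hzb
        · have hgM : g ∈ M := by
            rw [ti_mem_M_iff, MulAction.Quotient.smul_mk, smul_eq_mul, mul_one, hgz, hzb]
          have e : (⟨g⁻¹ * a ^ 1 * g, hm⟩ : M) = ⟨g, hgM⟩⁻¹ * ⟨a, ha⟩ * ⟨g, hgM⟩ := Subtype.ext (by
            show g⁻¹ * a ^ 1 * g = g⁻¹ * a * g
            rw [pow_one])
          rw [e, map_mul, map_mul, map_inv, mul_comm, mul_inv_cancel_left]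
        · obtain ⟨r, hr, hrz⟩ := h.exists_swap hzb
          have had : a ∈ tiPair M z := ⟨ti_mem_M_iff.1 ha, hz'⟩
          have hinv := h.swap_inverts hzb hr hrz had
          have hmM : r⁻¹ * g ∈ M := by
            rw [ti_mem_M_iff, mul_smul]
            have : g • tiBase M = z := by rw [MulAction.Quotient.smul_mk, smul_eq_mul, mul_one, hgz]
            rw [this, ← hrz, inv_smul_smul]
          have hri := CfsgLib.Involutions.inv_eq_self_of_involution hr
          have e : (⟨g⁻¹ * a ^ 1 * g, hm⟩ : M) = ⟨r⁻¹ * g, hmM⟩⁻¹ * ⟨a, ha⟩⁻¹ * ⟨r⁻¹ * g, hmM⟩ := Subtype.ext (by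
            have e3 : r * a⁻¹ * r⁻¹ = a := by
              have := congrArg (·⁻¹) hinv
              simpa [mul_assoc] using this
            show g⁻¹ * a ^ 1 * g = (r⁻¹ * g)⁻¹ * a⁻¹ * (r⁻¹ * g)
            rw [show (r⁻¹ * g)⁻¹ * a⁻¹ * (r⁻¹ * g) = g⁻¹ * (r * a⁻¹ * r⁻¹) * g by group, e3, pow_one])
          rw [e, map_mul, map_mul, map_inv, map_inv, mul_comm, mul_inv_cancel_left]
      exact key _ _ hper
    · intro q _ hq
      have hne : a • q.out ≠ q.out := fun e => hq (Finset.mem_image.2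
        ⟨q.out, Finset.mem_filter.2 ⟨Finset.mem_univ _, e⟩, Quotient.out_eq' q⟩)
      have hdvd : Function.minimalPeriod (a • ·) q.out ∣ p := by
        refine Function.IsPeriodicPt.minimalPeriod_dvd ?_
        show (a • ·)^[p] q.out = q.out
        rw [smul_iterate_apply, ← hap, pow_orderOf_eq_one, one_smul]
      have key : ∀ (m : ℕ) (hm : q.out.out⁻¹ * a ^ m * q.out.out ∈ M), m = p →
          φ ⟨q.out.out⁻¹ * a ^ m * q.out.out, hm⟩ = 1 := by
        rintro m hm rfl
        rw [show (⟨q.out.out⁻¹ * a ^ p * q.out.out, hm⟩ : M) = 1 from Subtype.ext (by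
          show q.out.out⁻¹ * a ^ p * q.out.out = 1
          rw [← hap, pow_orderOf_eq_one]; group), map_one]
      refine key _ _ (((Nat.dvd_prime hp).1 hdvd).resolve_left fun e => hne ?_)
      exact Function.minimalPeriod_eq_one_iff_isFixedPt.1 e
  have hbF : tiBase M ∈ F := Finset.mem_filter.2 ⟨Finset.mem_univ _, ti_mem_M_iff.1 ha⟩
  -- the other fixed points fall into orbits of `f`
  have hcount : p ∣ (F.erase (tiBase M)).card := by
    let Ω := {z : G ⧸ M // z ≠ tiBase M ∧ a • z = z}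
    have hfM : f • tiBase M = tiBase M := ti_mem_M_iff.1 (h.core_le hf)
    have hmem : ∀ g : Subgroup.zpowers f, ∀ z : Ω, (g : G) • z.1 ≠ tiBase M ∧ a • ((g : G) • z.1) = (g : G) • z.1 := by
      intro g z
      obtain ⟨i, hi⟩ := Subgroup.mem_zpowers_iff.1 g.2
      have hgb : (g : G) ∈ stabilizer G (tiBase M) := hi ▸ zpow_mem (mem_stabilizer_iff.2 hfM) i
      refine ⟨fun e => z.2.1 (MulAction.injective (g : G) (e.trans hgb.symm)), ?_⟩
      have hga : a * (g : G) = (g : G) * a := hi ▸ ((show Commute f a from hc).symm.zpow_right i).eq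
      rw [smul_smul, hga, mul_smul, z.2.2]
    letI : MulAction (Subgroup.zpowers f) Ω :=
      { smul := fun g z => ⟨(g : G) • z.1, hmem g z⟩
        one_smul := fun z => Subtype.ext (one_smul G z.1)
        mul_smul := fun g g' z => Subtype.ext (mul_smul (g : G) (g' : G) z.1) }
    have hP : IsPGroup p (Subgroup.zpowers f) := IsPGroup.of_card (n := 1) (by rw [Nat.card_zpowers, pow_one])
    have h0 := hP.card_modEq_card_fixedPoints (α := Ω)
    haveI : IsEmpty (MulAction.fixedPoints (Subgroup.zpowers f) Ω) := ⟨fun z => by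
      have hfz : f • z.1.1 = z.1.1 := congrArg Subtype.val (z.2 ⟨f, Subgroup.mem_zpowers f⟩)
      exact hf1 (h.inf_eq_bot z.1.2.1 ⟨hfM, hfz⟩ hf)⟩
    rw [Nat.card_of_isEmpty (α := MulAction.fixedPoints (Subgroup.zpowers f) Ω),
      Nat.modEq_zero_iff_dvd] at h0
    refine h0.trans (dvd_of_eq ?_)
    rw [Nat.card_eq_fintype_card, Fintype.card_subtype]
    congr 1
    ext z
    simp [hF]
  have hV : φ.transfer a = α := by
    rw [hval, ← Finset.mul_prod_erase F _ hbF, if_pos rfl,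
      Finset.prod_congr rfl (fun z hz => if_neg (Finset.mem_erase.1 hz).1), Finset.prod_const]
    obtain ⟨j, hj⟩ := hcount
    rw [hj, pow_mul, inv_pow, hαp, inv_one, one_pow, mul_one]
  rcases (MonoidHom.normal_ker φ.transfer).eq_bot_or_eq_top with e | e
  · -- a simple group with an injective map to an abelian group is abelian
    have hcomm : ∀ u v : G, u * v = v * u := fun u v =>
      (MonoidHom.ker_eq_bot_iff _).1 e (by rw [map_mul, map_mul, mul_comm])
    obtain ⟨y, hy⟩ := h.exists_ne_base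
    obtain ⟨r, hr, hry⟩ := h.exists_swap hy
    obtain ⟨t, htH, ht, -⟩ := h.exists_central_involution
    exact hy (hry.symm.trans (ti_mem_M_iff.1 (h.core_le (h.cent_inv htH ht (hcomm r t)))))
  · exact hα1 (hV ▸ MonoidHom.mem_ker.1 (e ▸ Subgroup.mem_top a))

variable [IsSimpleGroup G] (hK : IsPartition K) (hKH : ∀ x ∈ H, x ≠ 1 → K x = H)
include hK hKH

theorem centralizer_inf {y : G ⧸ M} (hy : y ≠ tiBase M) {d m : G} (hd : d ∈ tiPair M y) (hd1 : d ≠ 1)
    (hm : m ∈ M) (hc : m * d = d * m) : m ∈ tiPair M y := by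
  obtain ⟨f, hf, d', hd', rfl⟩ := h.decomp hy hm
  have hfd : f * d = d * f := by
    have := h.comm_twoPt hy hd hd'
    apply mul_right_cancel (b := d')
    calc f * d * d' = f * (d' * d) := by rw [mul_assoc, this]
      _ = d * (f * d') := by rw [← mul_assoc, hc]
      _ = d * f * d' := by group
  rw [h.commute_free hK hKH (ti_mem_M_iff.2 hd.1) (h.not_mem_core hy hd hd1) hf hfd, one_mul]
  exact hd'

theorem twoPt_eq_of_fix {y z : G ⧸ M} (hy : y ≠ tiBase M) (hz : z ≠ tiBase M) {d : G}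
    (hd : d ∈ tiPair M y) (hd1 : d ≠ 1) (hdz : d • z = z) : tiPair M z = tiPair M y := by
  refine Subgroup.eq_of_le_of_card_ge (fun e he => ?_) (le_of_eq (by rw [h.card_twoPt hy, h.card_twoPt hz]))
  exact h.centralizer_inf hK hKH hy hd hd1 (ti_mem_M_iff.2 he.1) (h.comm_twoPt hz he ⟨hd.1, hdz⟩)

/-- a non-trivial element of a two-point stabiliser fixes only two points -/
theorem fix_two {y z : G ⧸ M} (hy : y ≠ tiBase M) {d : G} (hd : d ∈ tiPair M y) (hd1 : d ≠ 1)
    (hdz : d • z = z) : z = tiBase M ∨ z = y := by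
  by_contra! hc
  obtain ⟨hz, hzy⟩ := hc
  have hD := h.twoPt_eq_of_fix hK hKH hy hz hd hd1 hdz
  obtain ⟨ry, hry2, hry⟩ := h.exists_swap hy
  obtain ⟨rz, hrz2, hrz⟩ := h.exists_swap hz
  have sw : ∀ {r : G} {x : G ⧸ M}, orderOf r = 2 → r • tiBase M = x → r • x = tiBase M := fun hr e => by
    rw [← e]; exact CfsgLib.StrongEmbedding.smul_self_of_involution hr _
  set w := rz • y with hw
  have hrz' : ∀ e ∈ tiPair M y, rz * e * rz⁻¹ = e⁻¹ := fun e he =>
    h.swap_inverts hz hrz2 hrz (hD ▸ he)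
  have hwb : w ≠ tiBase M := fun e => hzy (by
    have := MulAction.injective rz (e.trans (sw hrz2 hrz).symm)
    exact this.symm)
  have hdw : d • w = w := by
    have e1 := hrz' d⁻¹ (inv_mem hd)
    rw [inv_inv] at e1
    rw [hw, ← e1, mul_smul, mul_smul, inv_smul_smul]
    congr 1
    exact inv_smul_eq_iff.2 hd.2.symm
  have hDw := h.twoPt_eq_of_fix hK hKH hy hwb hd hd1 hdw
  obtain ⟨rw', hrw2, hrw⟩ := h.exists_swap hwb
  -- the product maps the base point to `y` and centralises the two-point stabiliser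
  set c := ry * rw' * (rz * ry) with hc
  have hcb : c • tiBase M = y := by
    rw [hc, mul_smul, mul_smul, mul_smul, hry, ← hw, sw hrw2 hrw, hry]
  have hcd : c * d = d * c := by
    have conj_mem : ∀ {r : G} {x : G ⧸ M}, x ≠ tiBase M → orderOf r = 2 → r • tiBase M = x →
        tiPair M x = tiPair M y → r * d * r⁻¹ = d⁻¹ ∧ r * d⁻¹ * r⁻¹ = d := fun hx hr e hxy =>
      ⟨h.swap_inverts hx hr e (hxy ▸ hd), by
        have := h.swap_inverts hx hr e (hxy ▸ inv_mem hd)
        rwa [inv_inv] at this⟩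
    have a1 := conj_mem hy hry2 hry rfl
    have a2 := conj_mem hz hrz2 hrz hD
    have a3 := conj_mem hwb hrw2 hrw hDw
    have : c * d * c⁻¹ = d := by
      calc c * d * c⁻¹ = ry * (rw' * (rz * (ry * d * ry⁻¹) * rz⁻¹) * rw'⁻¹) * ry⁻¹ := by
            rw [hc]; group
        _ = d := by rw [a1.1, a2.2, a3.1, a1.2]
    exact mul_inv_eq_iff_eq_mul.1 this
  -- `c⁻¹ ry` fixes the base point and inverts `d`
  set m := c⁻¹ * ry with hm
  have hmM : m ∈ M := ti_mem_M_iff.2 (by
    rw [hm, mul_smul, hry, inv_smul_eq_iff, hcb])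
  have hmd : m * d * m⁻¹ = d⁻¹ := by
    have e1 := h.swap_inverts hy hry2 hry hd
    have e2 : c⁻¹ * d⁻¹ * c = d⁻¹ := by
      rw [mul_assoc, ← (show Commute c d from hcd).inv_right.eq, inv_mul_cancel_left]
    calc m * d * m⁻¹ = c⁻¹ * (ry * d * ry⁻¹) * c := by rw [hm]; group
      _ = d⁻¹ := by rw [e1, e2]
  obtain ⟨f, hf, d', hd', hmfd⟩ := h.decomp hy hmM
  have hfd : f * d * f⁻¹ = d⁻¹ := by
    rw [← hmd, hmfd]
    calc f * d * f⁻¹ = f * (d * d' * d'⁻¹) * f⁻¹ := by group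
      _ = f * d' * d * (f * d')⁻¹ := by rw [h.comm_twoPt hy hd hd']; group
  -- hence `d² ∈ H`
  have hF2 : d⁻¹ * d⁻¹ ∈ H := by
    have e1 : f * (d * f⁻¹ * d⁻¹) = d⁻¹ * d⁻¹ := by
      calc f * (d * f⁻¹ * d⁻¹) = (f * d * f⁻¹) * d⁻¹ := by group
        _ = _ := by rw [hfd]
    rw [← e1]
    exact mul_mem hf (h.norm_mem (ti_mem_M_iff.2 hd.1) (inv_mem hf))
  have hdd : d * d = 1 := by
    have := h.inf_eq_bot hy (mul_mem (inv_mem hd) (inv_mem hd)) hF2
    rwa [← mul_inv_rev, inv_eq_one] at this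
  have hord : orderOf d = 2 := orderOf_eq_prime (by rw [sq, hdd]) hd1
  have := h.odd_twoPt hy
  exact (Nat.not_even_iff_odd.2 this) (CfsgLib.Involutions.even_card_of_involution_mem hd hord)

/-- the two-point stabilisers are complements of `H` in `M` -/
theorem isFrobeniusComplement_twoPt {y : G ⧸ M} (hy : y ≠ tiBase M) :
    Cfsg.IsFrobeniusComplement ((tiPair M y).subgroupOf M) := by
  haveI : (H.subgroupOf M).Normal := ⟨fun x hx m => h.norm_mem m.2 hx⟩
  have hc : ((H).subgroupOf M).IsComplement' ((tiPair M y).subgroupOf M) := by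
    refine Subgroup.isComplement'_of_disjoint_and_mul_eq_univ ?_ ?_
    · rw [Subgroup.disjoint_def]
      intro x hx hx'
      exact Subtype.ext (h.inf_eq_bot hy hx' hx)
    · refine Set.eq_univ_of_forall fun x => ?_
      obtain ⟨f, hf, d, hd, e⟩ := h.decomp hy x.2
      exact ⟨⟨f, h.core_le hf⟩, hf, ⟨d, ti_mem_M_iff.2 hd.1⟩, hd, Subtype.ext e.symm⟩
  refine CfsgLib.Frobenius.isFrobeniusComplement_of_normal_complement hc ?_ ?_ fun d hd hd1 k hk e => ?_
  · intro e
    obtain ⟨s, hsF, hs, -⟩ := h.exists_central_involution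
    have hm : (⟨s, h.core_le hsF⟩ : M) ∈ H.subgroupOf M := hsF
    rw [e, Subgroup.mem_bot] at hm
    have := hm
    rw [show s = 1 from congrArg Subtype.val this, orderOf_one] at hs
    omega
  · intro e
    obtain ⟨d, hd, hd1⟩ := h.twoPt_ne_bot hy
    have hm : (⟨d, ti_mem_M_iff.2 hd.1⟩ : M) ∈ (tiPair M y).subgroupOf M := hd
    rw [e, Subgroup.mem_bot] at hm
    exact hd1 (congrArg Subtype.val hm)
  · exact Subtype.ext (h.commute_free hK hKH d.2 (h.not_mem_core hy hd fun e1 => hd1 (Subtype.ext e1)) hk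
      (congrArg Subtype.val e).symm)

/-- `H` is regular on the other points -/
theorem regular {y z : G ⧸ M} (hy : y ≠ tiBase M) (hz : z ≠ tiBase M) :
    ∃! f : H, (f : G) • y = z := by
  obtain ⟨m, hm⟩ := CfsgLib.Frobenius.exists_conj_eq (h.isFrobeniusComplement_twoPt hK hKH hz)
    (h.isFrobeniusComplement_twoPt hK hKH hy)
  obtain ⟨f, hf, d₀, hd₀, hfd⟩ := h.decomp hy m.2
  have hfM : f • tiBase M = tiBase M := ti_mem_M_iff.1 (h.core_le hf)
  obtain ⟨d, hd, hd1⟩ := h.twoPt_ne_bot hy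
  have hdm : d ∈ M := ti_mem_M_iff.2 hd.1
  have hmem : f * d * f⁻¹ ∈ tiPair M z := by
    have h1 : m * ⟨d, hdm⟩ * m⁻¹ ∈ (tiPair M z).subgroupOf M := by
      rw [← hm]
      refine CfsgLib.Frobenius.mem_conj_smul_iff.2 ?_
      show ((m⁻¹ * (m * ⟨d, hdm⟩ * m⁻¹) * m : M) : G) ∈ tiPair M y
      rw [show m⁻¹ * (m * ⟨d, hdm⟩ * m⁻¹) * m = (⟨d, hdm⟩ : M) by group]
      exact hd
    have h2 : (m : G) * d * (m : G)⁻¹ ∈ tiPair M z := h1
    rwa [hfd, show f * d₀ * d * (f * d₀)⁻¹ = f * (d₀ * d * d₀⁻¹) * f⁻¹ by group,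
      h.comm_twoPt hy hd₀ hd, mul_inv_cancel_right] at h2
  have hne : f * d * f⁻¹ ≠ 1 := fun e => hd1 (conj_eq_one_iff.1 e)
  have hfix : (f * d * f⁻¹) • (f • y) = f • y := by
    rw [mul_smul, mul_smul, inv_smul_smul, hd.2]
  have hex : f • y = z := by
    rcases h.fix_two hK hKH hz hmem hne hfix with e | e
    · exact absurd (MulAction.injective f (e.trans hfM.symm)) hy
    · exact e
  refine ⟨⟨f, hf⟩, hex, fun f' hf' => ?_⟩
  have h1 : f⁻¹ * f' ∈ tiPair M y := ⟨ti_mem_M_iff.1 (M.mul_mem (M.inv_mem (h.core_le hf)) (h.core_le f'.2)),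
    by
      show (f⁻¹ * (f' : G)) • y = y
      rw [mul_smul, hf', ← hex, inv_smul_smul]⟩
  exact Subtype.ext (inv_mul_eq_one.1 (h.inf_eq_bot hy h1 (mul_mem (inv_mem hf) f'.2))).symm

theorem card_quotient : Nat.card (H) + 1 = Nat.card (G ⧸ M) := by
  classical
  obtain ⟨y, hy⟩ := h.exists_ne_base
  haveI := Fintype.ofFinite (G ⧸ M)
  have hb : Function.Bijective fun f : H => (⟨(f : G) • y, fun e => hy (MulAction.injective (f : G)
      (e.trans (ti_mem_M_iff.1 (h.core_le f.2)).symm))⟩ : {z : G ⧸ M // ¬ z = tiBase M}) := by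
    constructor
    · intro f f' e
      obtain ⟨x, -, hx⟩ := h.regular hK hKH hy (fun e0 => hy (MulAction.injective (f : G)
        (e0.trans (ti_mem_M_iff.1 (h.core_le f.2)).symm)) : (f : G) • y ≠ tiBase M)
      exact (hx f rfl).trans (hx f' (congrArg Subtype.val e).symm).symm
    · rintro ⟨z, hz⟩
      obtain ⟨f, hf, -⟩ := h.regular hK hKH hy hz
      exact ⟨f, Subtype.ext hf⟩
  rw [Nat.card_eq_of_bijective _ hb, Nat.card_eq_fintype_card, Fintype.card_subtype_compl,
    Fintype.card_subtype_eq, Nat.card_eq_fintype_card]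
  have := Fintype.card_pos_iff.2 ⟨tiBase M⟩
  omega

theorem faithful : FaithfulSMul G (G ⧸ M) := by
  refine ⟨fun {g₁ g₂} (e : ∀ z : G ⧸ M, g₁ • z = g₂ • z) => inv_mul_eq_one.1 ?_⟩
  have hall : ∀ z : G ⧸ M, (g₁⁻¹ * g₂) • z = z := fun z => by
    rw [mul_smul, ← e z, inv_smul_smul]
  obtain ⟨y, hy⟩ := h.exists_ne_base
  by_contra hne
  obtain ⟨f, hf, hf1⟩ : ∃ f : H, (f : G) • y ≠ tiBase M ∧ (f : G) • y ≠ y := by
    obtain ⟨s, hsF, hs, -⟩ := h.exists_central_involution
    refine ⟨⟨s, hsF⟩, fun e0 => hy (MulAction.injective s (e0.trans (ti_mem_M_iff.1 (h.core_le hsF)).symm)),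
      fun e0 => ?_⟩
    have := h.inf_eq_bot hy ⟨ti_mem_M_iff.1 (h.core_le hsF), e0⟩ hsF
    rw [this, orderOf_one] at hs
    omega
  rcases h.fix_two hK hKH hy ⟨hall _, hall _⟩ hne (hall ((f : G) • y)) with e | e
  · exact hf e
  · exact hf1 e

theorem two_transitive : IsMultiplyPretransitive G (G ⧸ M) 2 := by
  rw [is_two_pretransitive_iff]
  intro a b c d hab hcd
  obtain ⟨g, hg⟩ := MulAction.exists_smul_eq G a (tiBase M)
  obtain ⟨g', hg'⟩ := MulAction.exists_smul_eq G (tiBase M) c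
  have h1 : g • b ≠ tiBase M := fun e => hab (MulAction.injective g (hg.trans e.symm))
  have h2 : g'⁻¹ • d ≠ tiBase M := fun e => hcd (by rw [← hg', ← e, smul_inv_smul])
  obtain ⟨f, hf, -⟩ := h.regular hK hKH h1 h2
  refine ⟨g' * f * g, ?_, ?_⟩
  · rw [mul_smul, mul_smul, hg, ti_mem_M_iff.1 (h.core_le f.2), hg']
  · rw [mul_smul, mul_smul, hf, smul_inv_smul]

theorem zassenhaus : Cfsg.IsZassenhausGroup G (G ⧸ M) := by
  haveI := h.faithful hK hKH
  haveI := h.two_transitive hK hKH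
  refine ⟨inferInstance, inferInstance, fun g a b c hab hbc hac ha hb hc => ?_, ?_, fun N hN hNt => ?_⟩
  · by_contra hg
    obtain ⟨k, hk⟩ := MulAction.exists_smul_eq G a (tiBase M)
    have e : ∀ z : G ⧸ M, g • z = z → (k * g * k⁻¹) • (k • z) = k • z := fun z hz => by
      rw [mul_smul, mul_smul, inv_smul_smul, hz]
    have hy : k • b ≠ tiBase M := fun e0 => hab (MulAction.injective k (hk.trans e0.symm))
    have hd : k * g * k⁻¹ ∈ tiPair M (k • b) := ⟨by
      have := e a ha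
      rwa [hk] at this, e b hb⟩
    rcases h.fix_two hK hKH hy hd (fun e0 => hg (conj_eq_one_iff.1 e0))
      (e c hc) with e1 | e1
    · exact hac (MulAction.injective k (hk.trans e1.symm))
    · exact hbc (MulAction.injective k e1.symm)
  · obtain ⟨y, hy⟩ := h.exists_ne_base
    obtain ⟨d, hd, hd1⟩ := h.twoPt_ne_bot hy
    exact ⟨d, hd1, tiBase M, y, Ne.symm hy, hd.1, hd.2⟩
  · by_contra! hall
    have hcard : Nat.card N = Nat.card (G ⧸ M) := by
      haveI := hNt
      rw [← Subgroup.index_bot, ← hall (tiBase M), index_stabilizer_of_transitive]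
    have hodd : Odd (Nat.card N) := by
      rw [hcard, ← h.card_quotient hK hKH]
      exact h.even.add_one
    haveI := hN
    haveI := hN
    rcases hN.eq_bot_or_eq_top with e | e
    · subst e
      obtain ⟨y, hy⟩ := h.exists_ne_base
      obtain ⟨⟨n, hn⟩, hny⟩ := (hNt).exists_smul_eq (tiBase M) y
      rw [Subgroup.mem_bot] at hn
      subst hn
      exact hy (by simpa [Subgroup.smul_def] using hny.symm)
    · rw [e, Subgroup.card_top] at hodd
      exact (Nat.not_even_iff_odd.2 hodd) (even_iff_two_dvd.2 (h.even.two_dvd.trans H.card_subgroup_dvd_card))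

end TIEven

end CfsgLib.Partition
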