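import Mathlib
import Cfsg.Agent.Lib.Partition.SimpleDihedral
import Cfsg.Agent.Lib.Partition.TIAction
import Cfsg.Agent.Lib.StrongEmbedding.PSLTwo
import Cfsg.Agent.Lib.Involutions.Transfer
import Cfsg.Agent.Lib.PF.OddOrder
import Cfsg.Agent.S0738

/-!
# Simple groups with a partition
-/

set_option autoImplicit false
set_option linter.style.haveILetI false

namespace CfsgLib.Partition

open MulAction
open CfsgLib.Involutions (ne_one_of_involution mul_self_eq_one inv_eq_self_of_involution)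

universe u

variable {G : Type u} [Group G] [Finite G] {K : G → Subgroup G}

/-- `G` is isomorphic to `PSL₂` over a field of even order at least four -/
def IsPSLTwoEven (G : Type u) [Group G] : Prop :=
  ∃ (F : Type) (_ : Field F) (_ : Fintype F), (∃ n : ℕ, 2 ≤ n ∧ Fintype.card F = 2 ^ n) ∧
    Nonempty (G ≃* Matrix.ProjectiveSpecialLinearGroup (Fin 2) F)

theorem not_comm_of_not_nilpotent (hnil : ¬ Group.IsNilpotent G) : ¬ ∀ a b : G, a * b = b * a := fun h => by
  letI : CommGroup G := { mul_comm := h }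
  exact hnil inferInstance

/-- in a nonabelian simple group with elementary centralisers of involutions -/
theorem psl_of_elementary [IsSimpleGroup G] (hnil : ¬ Group.IsNilpotent G) (S : Sylow 2 G)
    (heven : Even (Nat.card G))
    (hC : ∀ t : G, orderOf t = 2 → IsMulCommutative (Subgroup.centralizer ({t} : Set G)) ∧
      ∀ c ∈ Subgroup.centralizer ({t} : Set G), c ^ 2 = 1) : IsPSLTwoEven G := by
  haveI : Fact (Nat.Prime 2) := ⟨Nat.prime_two⟩
  have hnt : ∀ N : Subgroup G, N.Normal → N.index ≠ 2 := fun N hN hN2 => by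
    rcases hN.eq_bot_or_eq_top with e | e
    · rw [e, Subgroup.index_bot] at hN2
      exact hnil (IsPGroup.isNilpotent (IsPGroup.of_card (p := 2) (n := 1) (by rw [hN2, pow_one])))
    · rw [e, Subgroup.index_top] at hN2
      omega
  have hnc : ¬ IsCyclic (S : Subgroup G) := fun hc => by
    obtain ⟨N, hN⟩ := CfsgLib.Involutions.exists_index_two_of_cyclic_sylow heven S hc
    exact hnt N (Subgroup.normal_of_index_eq_two hN) hN
  have hnn : ¬ (S : Subgroup G).Normal := fun hn => by
    rcases hn.eq_bot_or_eq_top with e | e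
    · have := S.dvd_card_of_dvd_card heven.two_dvd
      rw [e, Subgroup.card_bot] at this
      omega
    · haveI := S.isPGroup'.isNilpotent
      exact hnil (Group.nilpotent_of_mulEquiv ((MulEquiv.subgroupCongr e).trans Subgroup.topEquiv))
  obtain ⟨F, iF, fF, hF, he⟩ := CfsgLib.StrongEmbedding.PSLTwo.exists_psl (T := S) ⟨hnc, hnn, hC⟩
  obtain ⟨n, hn⟩ := S.isPGroup'.exists_card_eq
  refine ⟨F, iF, fF, ⟨n, ?_, hF.trans hn⟩, he⟩
  by_contra hlt
  interval_cases n
  · rw [pow_zero] at hn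
    have := S.dvd_card_of_dvd_card heven.two_dvd
    omega
  · exact hnc (isCyclic_of_prime_card (p := 2) (by rw [hn, pow_one]))

/-- the trivial intersection case -/
theorem classify_ti [IsSimpleGroup G] {M H : Subgroup G} (h : TIEven M H) (hK : IsPartition K)
    (hKH : ∀ x ∈ H, x ≠ 1 → K x = H) (hnil : ¬ Group.IsNilpotent G) (hidx : ¬ 2 ∣ H.index) :
    IsPSLTwoEven G ∨ Cfsg.Lie.IsoSuzuki G := by
  classical
  haveI : Fact (Nat.Prime 2) := ⟨Nat.prime_two⟩
  haveI := Fintype.ofFinite (G ⧸ M)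
  haveI := Fintype.ofFinite G
  have hZ := h.zassenhaus hK hKH
  obtain ⟨y, hy⟩ := h.exists_ne_base
  have hxy : tiBase M ≠ y := Ne.symm hy
  have hodd : Odd (Nat.card (CfsgLib.PermSmall.Zassenhaus.pairStab G (tiBase M) y)) := h.odd_twoPt hy
  have hcard : Nat.card H + 1 = Fintype.card (G ⧸ M) := by
    rw [h.card_quotient hK hKH, Nat.card_eq_fintype_card]
  have hle : H ≤ stabilizer G (tiBase M) := by rw [stabilizer_quotient]; exact h.core_le
  have hfix : ∀ f ∈ H, f ≠ 1 → ∀ c : G ⧸ M, f • c = c → c = tiBase M := fun f hf hf1 c hc => by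
    by_contra hcb
    exact hf1 (h.inf_eq_bot hcb ⟨ti_mem_M_iff.1 (h.core_le hf), hc⟩ hf)
  rcases CfsgLib.Zass29.FeitThm.feit hZ hxy hodd H hle hcard hfix with hd | ⟨h2, hna, -⟩
  swap
  · exact Or.inr (CfsgLib.Suzuki.Recognition.isoSuzuki_of_translations hZ hxy hodd H hle hcard hfix h2 hna)
  left
  have hn : (H.subgroupOf (stabilizer G (tiBase M))).Normal :=
    ⟨fun x hx m => h.norm_mem (ti_mem_M_iff.2 m.2) hx⟩
  obtain ⟨hab, p, f, hp, hexp, hΩ⟩ := Cfsg.Agent.S0738.result hZ hxy hd H hle hn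
    (fun a b ha hb => h.regular hK hKH ha hb)
  have hcF : Nat.card H = p ^ f := by omega
  obtain rfl : p = 2 := by
    have h2 : 2 ∣ p ^ f := hcF ▸ h.even.two_dvd
    exact ((Nat.prime_dvd_prime_iff_eq Nat.prime_two hp).1 (Nat.prime_two.dvd_of_dvd_pow h2)).symm
  let T : Sylow 2 G := (IsPGroup.of_card (p := 2) (n := f) hcF).toSylow hidx
  refine psl_of_elementary hnil T (even_iff_two_dvd.2 (h.even.two_dvd.trans H.card_subgroup_dvd_card))
    fun t ht => ?_
  obtain ⟨x, hx⟩ := CfsgLib.StrongEmbedding.exists_fixed h.se ht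
  obtain ⟨g, rfl⟩ := QuotientGroup.mk_surjective x
  have htM : g⁻¹ * t * g ∈ M := CfsgLib.Involutions.smul_coset_eq_iff.1 hx
  have ht' : orderOf (g⁻¹ * t * g) = 2 := by
    simpa using (CfsgLib.Involutions.orderOf_conj_eq g⁻¹ t).trans ht
  have hmem : ∀ c ∈ Subgroup.centralizer ({t} : Set G), g⁻¹ * c * g ∈ H := fun c hc =>
    h.cent_inv (h.involution_mem htM ht') ht' (by
      have hct : c * t = t * c := Subgroup.mem_centralizer_singleton_iff.1 hc
      show g⁻¹ * c * g * (g⁻¹ * t * g) = g⁻¹ * t * g * (g⁻¹ * c * g)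
      rw [show g⁻¹ * c * g * (g⁻¹ * t * g) = g⁻¹ * (c * t) * g by group, hct]
      group)
  refine ⟨⟨⟨fun c d => Subtype.ext ?_⟩⟩, fun c hc => ?_⟩
  · have e := congrArg (fun x : H => g * (x : G) * g⁻¹)
      (hab.is_comm.comm ⟨_, hmem c c.2⟩ ⟨_, hmem d d.2⟩)
    simp only [Subgroup.coe_mul] at e
    calc (c : G) * d = g * (g⁻¹ * c * g * (g⁻¹ * d * g)) * g⁻¹ := by group
      _ = _ := e
      _ = (d : G) * c := by group
  · have e := hexp _ (hmem c hc)
    rw [show g⁻¹ * c * g = g⁻¹ * c * g⁻¹⁻¹ by rw [inv_inv], conj_pow] at e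
    exact conj_eq_one_iff.1 e

omit [Finite G] in
theorem comm_of_exponent_two {C : Subgroup G} (h : ∀ c ∈ C, c ^ 2 = 1) : IsMulCommutative C := by
  refine ⟨⟨fun a b => Subtype.ext ?_⟩⟩
  have hi : ∀ x ∈ C, x⁻¹ = x := fun x hx => inv_eq_of_mul_eq_one_right (by rw [← sq]; exact h x hx)
  have := hi _ (C.mul_mem a.2 b.2)
  rw [mul_inv_rev, hi a a.2, hi b b.2] at this
  exact this.symm

/-- Simple groups with a partition. -/
theorem Std.simple_type [IsSimpleGroup G] (h : Std K) (hnil : ¬ Group.IsNilpotent G) :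
    (DihedralType K ∧ ∃ (F : Type) (_ : Field F) (_ : Fintype F), Odd (Fintype.card F) ∧
      Nonempty (G ≃* Matrix.ProjectiveSpecialLinearGroup (Fin 2) F)) ∨
    IsPSLTwoEven G ∨ Cfsg.Lie.IsoSuzuki G := by
  classical
  haveI : Fact (Nat.Prime 2) := ⟨Nat.prime_two⟩
  have P := h.toIsPartition
  have heven : Even (Nat.card G) := by
    rw [← Nat.not_odd_iff_even]
    intro ho
    haveI := CfsgLib.PF.oddSolvable G ho
    exact not_comm_of_not_nilpotent hnil (IsSimpleGroup.comm_iff_isSolvable.2 inferInstance)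
  obtain ⟨S⟩ : Nonempty (Sylow 2 G) := inferInstance
  by_cases hA : ∃ z s y, Dih K z s y ∧ z ∈ (S : Subgroup G) ∧ ∀ x ∈ (S : Subgroup G), Commute x z
  · obtain ⟨z, s, y, d, hzS, hzc⟩ := hA
    exact Or.inl (h.psl_of_dih S d hzS hzc)
  refine Or.inr ?_
  by_cases hB : ∃ z, orderOf z = 2 ∧ z ∈ (S : Subgroup G) ∧ (∀ x ∈ (S : Subgroup G), Commute x z) ∧
      ∀ c, Commute c z → c ∈ K z
  · obtain ⟨z, hz, hzS, hzc, hzK⟩ := hB
    have hz1 := ne_one_of_involution hz
    have hSH : (S : Subgroup G) ≤ K z := fun x hx => hzK x (hzc x hx)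
    haveI hnilH := h.isNilpotent z hz1
    have hidx : ¬ 2 ∣ (K z).index := fun hd => S.not_dvd_index (hd.trans (Subgroup.index_dvd_of_le hSH))
    set M := Subgroup.normalizer ((K z : Subgroup G) : Set G) with hM
    -- involutions inside the member lie in the Sylow subgroup
    have hinvS : ∀ u ∈ K z, orderOf u = 2 → u ∈ (S : Subgroup G) := by
      intro u hu hu2
      have hn : ((S.subtype hSH : Sylow 2 (K z)) : Subgroup (K z)).Normal :=
        CfsgLib.Solvable.EigenChain.sylow_normal hnilH _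
      haveI : Unique (Sylow 2 (K z)) := Sylow.unique_of_normal _ hn
      have hp : IsPGroup 2 (Subgroup.zpowers (⟨u, hu⟩ : K z)) := IsPGroup.of_card (n := 1)
        (by rw [Nat.card_zpowers, Subgroup.orderOf_mk, hu2, pow_one])
      obtain ⟨T, hT⟩ := hp.exists_le_sylow
      rw [Subsingleton.elim T (S.subtype hSH)] at hT
      exact hT (Subgroup.mem_zpowers _)
    have hti : TIEven M (K z) := by
      refine ⟨hnilH, Subgroup.le_normalizer, fun hm hf => (Subgroup.mem_normalizer_iff.1 hm _).1 hf,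
        fun hf hf1 hgf => P.mem_normalizer_of_mem hz1 hf1 hf hgf, fun {t} htM ht => ?_,
        fun {t x} htH ht hxt => ?_, ?_, ?_, ?_⟩
      · -- the quotient has odd order
        haveI : ((K z).subgroupOf M).Normal := Subgroup.normal_in_normalizer
        by_contra htH
        have h1 : orderOf (QuotientGroup.mk' ((K z).subgroupOf M) ⟨t, htM⟩) = 2 := by
          refine orderOf_eq_prime ?_ fun e => htH ((QuotientGroup.eq_one_iff (⟨t, htM⟩ : M)).1 e)
          rw [← map_pow, show (⟨t, htM⟩ : M) ^ 2 = 1 from Subtype.ext (by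
            rw [SubmonoidClass.coe_pow, sq, mul_self_eq_one ht]; rfl), map_one]
        refine hidx (Dvd.dvd.trans ?_ (Subgroup.relIndex_dvd_index_of_le (K := M) Subgroup.le_normalizer))
        rw [← h1]
        exact orderOf_dvd_natCard _
      · by_contra hxH
        have hKt : K t = K z := P.eq_of_mem z t hz1 htH (ne_one_of_involution ht)
        have hzt : Commute z t := (hzc t (hinvS t htH ht)).symm
        have := P.inverts_inside ht hxt (hKt ▸ hxH) hzt (hKt ▸ P.mem z hz1)
        rw [inv_eq_self_of_involution hz] at this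
        exact hxH (hzK x (mul_inv_eq_iff_eq_mul.1 this))
      · exact even_iff_two_dvd.2 (hz ▸ Subgroup.orderOf_dvd_natCard _ (P.mem z hz1))
      · obtain ⟨g, hg, hg'⟩ := h.notSelf z hz1
        exact lt_of_le_of_ne Subgroup.le_normalizer fun e => hg' (e ▸ hg)
      · intro e
        rcases (Subgroup.normalizer_eq_top_iff.1 e).eq_bot_or_eq_top with e' | e'
        · exact P.ne_bot hz1 e'
        · exact P.proper z hz1 e'
    exact classify_ti hti P (fun x hx hx1 => P.eq_of_mem z x hz1 hx hx1) hnil hidx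
  refine Or.inl (psl_of_elementary hnil S heven ?_)
  have hcen : ∀ z, orderOf z = 2 → z ∈ (S : Subgroup G) → (∀ x ∈ (S : Subgroup G), Commute x z) →
      ∀ c ∈ Subgroup.centralizer ({z} : Set G), c ^ 2 = 1 := by
    intro z hz hzS hzc c hc
    push Not at hB hA
    obtain ⟨s, hst, hs⟩ := hB z hz hzS hzc
    have hy2 : ∀ y, Commute y z → y ∈ K z → y ^ 2 = 1 := fun y hyt hy => by
      by_contra hne
      obtain ⟨x, hx, hxz⟩ := hA z s y ⟨hz, hst, hs, hyt, hy, hne⟩ hzS
      exact hxz (hzc x hx)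
    have hct : Commute c z := Subgroup.mem_centralizer_singleton_iff.1 hc
    by_cases hcK : c ∈ K z
    · exact hy2 c hct hcK
    · rw [sq, mul_self_eq_one (P.orderOf_outside hz hct hcK)]
  -- the Sylow subgroup is elementary abelian
  obtain ⟨z₀, hz₀, hz₀c⟩ := exists_central_of_nilpotent S.isPGroup'.isNilpotent (p := 2)
    (S.dvd_card_of_dvd_card heven.two_dvd)
  rw [← Subgroup.orderOf_coe] at hz₀
  have hz₀c' : ∀ x ∈ (S : Subgroup G), Commute x z₀ := fun x hx =>
    congrArg Subtype.val (hz₀c ⟨x, hx⟩).eq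
  have hScomm := comm_of_exponent_two (C := (S : Subgroup G)) fun x hx =>
    hcen z₀ hz₀ z₀.2 hz₀c' x (Subgroup.mem_centralizer_singleton_iff.2 (hz₀c' x hx).eq)
  intro t ht
  have hp : IsPGroup 2 (Subgroup.zpowers t) := IsPGroup.of_card (n := 1) (by rw [Nat.card_zpowers, ht, pow_one])
  obtain ⟨T, hT⟩ := hp.exists_le_sylow
  obtain ⟨g, hg⟩ := MulAction.exists_smul_eq G T S
  have hgt : g * t * g⁻¹ ∈ (S : Subgroup G) := by
    rw [← hg]
    exact Subgroup.mem_map.2 ⟨t, hT (Subgroup.mem_zpowers t), rfl⟩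
  have hexp : ∀ c ∈ Subgroup.centralizer ({t} : Set G), c ^ 2 = 1 := fun c hc => by
    have := hcen (g * t * g⁻¹) (by rw [CfsgLib.Involutions.orderOf_conj_eq, ht]) hgt
      (fun x hx => congrArg Subtype.val (hScomm.is_comm.comm ⟨x, hx⟩ ⟨_, hgt⟩)) (g * c * g⁻¹)
      (Subgroup.mem_centralizer_singleton_iff.2 (by
        have hct : c * t = t * c := Subgroup.mem_centralizer_singleton_iff.1 hc
        rw [show g * c * g⁻¹ * (g * t * g⁻¹) = g * (c * t) * g⁻¹ by group, hct]; group))
    rw [conj_pow] at this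
    exact conj_eq_one_iff.1 this
  exact ⟨comm_of_exponent_two hexp, hexp⟩

end CfsgLib.Partition
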