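import Mathlib
import Cfsg.Agent.Lib.Partition.AlmostOdd
import Cfsg.Agent.Lib.Partition.Simple
import Cfsg.Agent.Lib.Solvable.EigenChain
import Cfsg.Agent.S0252
import Cfsg.Agent.S0253

/-!
# Partitioned almost simple groups over `PSL₂` of even order
-/

set_option autoImplicit false
set_option linter.style.haveILetI false
set_option linter.unusedSectionVars false

namespace CfsgLib.Partition

open CfsgLib.AutPSL Matrix

variable {F : Type} [Field F] [Fintype F]

/-- upper unitriangular element -/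
def slUp (c : F) : SLG 2 F := ⟨!![1, c; 0, 1], by simp [Matrix.det_fin_two]⟩

/-- lower unitriangular element -/
def slLow (c : F) : SLG 2 F := ⟨!![1, 0; c, 1], by simp [Matrix.det_fin_two]⟩

/-- diagonal element -/
def slDiag (c : Fˣ) : SLG 2 F := ⟨!![(c : F), 0; 0, ((c⁻¹ : Fˣ) : F)], by simp [Matrix.det_fin_two]⟩

theorem fieldAut_slUp (σ : F ≃+* F) (c : F) :
    fieldAut σ (QuotientGroup.mk (slUp c) : PSLG 2 F) = QuotientGroup.mk (slUp (σ c)) := by
  rw [fieldAut_mk]
  congr 1
  apply Subtype.ext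
  rw [slField_coe]
  ext i j
  fin_cases i <;> fin_cases j <;> simp [slUp]

theorem fieldAut_slLow (σ : F ≃+* F) (c : F) :
    fieldAut σ (QuotientGroup.mk (slLow c) : PSLG 2 F) = QuotientGroup.mk (slLow (σ c)) := by
  rw [fieldAut_mk]
  congr 1
  apply Subtype.ext
  rw [slField_coe]
  ext i j
  fin_cases i <;> fin_cases j <;> simp [slLow]

theorem fieldAut_slDiag (σ : F ≃+* F) (c : Fˣ) :
    fieldAut σ (QuotientGroup.mk (slDiag c) : PSLG 2 F) = QuotientGroup.mk (slDiag (Units.map σ.toMonoidHom c)) := by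
  rw [fieldAut_mk]
  congr 1
  apply Subtype.ext
  rw [slField_coe]
  ext i j
  fin_cases i <;> fin_cases j <;> simp [slDiag]

section CharTwo

variable [CharP F 2]

theorem mk_eq_mk_iff_two {M N : SLG 2 F} :
    (QuotientGroup.mk M : PSLG 2 F) = QuotientGroup.mk N ↔ M.1 = N.1 := by
  haveI : CharP (Matrix (Fin 2) (Fin 2) F) 2 := inferInstance
  rw [mk_eq_mk_iff, CharTwo.neg_eq, or_self, eq_comm]

theorem mk_eq_one_iff_two {M : SLG 2 F} : (QuotientGroup.mk M : PSLG 2 F) = 1 ↔ M.1 = 1 := by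
  rw [← QuotientGroup.mk_one, mk_eq_mk_iff_two]
  rfl

theorem orderOf_slUp {c : F} (hc : c ≠ 0) : orderOf (QuotientGroup.mk (slUp c) : PSLG 2 F) = 2 := by
  refine orderOf_eq_prime ?_ fun h => hc ?_
  · rw [sq, ← QuotientGroup.mk_mul, mk_eq_one_iff_two]
    show (slUp c).1 * (slUp c).1 = 1
    ext i j
    fin_cases i <;> fin_cases j <;> simp [slUp, Matrix.mul_apply, Fin.sum_univ_two, CharTwo.add_self_eq_zero]
  · have := congrFun (congrFun (mk_eq_one_iff_two.1 h) 0) 1
    simpa [slUp] using this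

theorem orderOf_slLow {c : F} (hc : c ≠ 0) : orderOf (QuotientGroup.mk (slLow c) : PSLG 2 F) = 2 := by
  refine orderOf_eq_prime ?_ fun h => hc ?_
  · rw [sq, ← QuotientGroup.mk_mul, mk_eq_one_iff_two]
    show (slLow c).1 * (slLow c).1 = 1
    ext i j
    fin_cases i <;> fin_cases j <;> simp [slLow, Matrix.mul_apply, Fin.sum_univ_two, CharTwo.add_self_eq_zero]
  · have := congrFun (congrFun (mk_eq_one_iff_two.1 h) 1) 0
    simpa [slLow] using this

theorem up_mul_low_pow_three : ((QuotientGroup.mk (slUp (1 : F)) : PSLG 2 F) * QuotientGroup.mk (slLow 1)) ^ 3 = 1 := by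
  rw [← QuotientGroup.mk_mul, ← QuotientGroup.mk_pow, mk_eq_one_iff_two]
  show ((slUp (1 : F)).1 * (slLow (1 : F)).1) ^ 3 = 1
  ext i j
  fin_cases i <;> fin_cases j <;>
    simp [slUp, slLow, pow_succ, Matrix.mul_apply, Fin.sum_univ_two, CharTwo.add_self_eq_zero]

theorem exists_fixed_ne {σ : F ≃+* F} (hσ : σ * σ = 1) (hσ1 : σ ≠ 1) (hq : 4 < Fintype.card F) :
    ∃ c : F, σ c = c ∧ c ≠ 0 ∧ c ≠ 1 := by
  classical
  by_contra! hno
  obtain ⟨ν, hν⟩ : ∃ ν, σ ν ≠ ν := by
    by_contra! hall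
    exact hσ1 (RingEquiv.ext fun a => by rw [RingAut.one_apply]; exact hall a)
  have hc : ∀ a : F, a + σ a = 0 ∨ a + σ a = 1 := fun a => by
    by_cases h0 : a + σ a = 0
    · exact Or.inl h0
    have h1 : σ (σ a) = a := RingEquiv.congr_fun hσ a
    exact Or.inr (hno _ (by rw [map_add, h1, add_comm]) h0)
  have hfix : ∀ a : F, a + σ a = 0 → a = 0 ∨ a = 1 := fun a ha => by
    by_cases h0 : a = 0
    · exact Or.inl h0
    exact Or.inr (hno a (CharTwo.add_eq_zero.1 ha).symm h0)
  have hν1 : ν + σ ν = 1 := (hc ν).resolve_left fun h => hν (CharTwo.add_eq_zero.1 h).symm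
  have hsub : (Finset.univ : Finset F) ⊆ ({0, 1, ν, ν + 1} : Finset F) := by
    intro a _
    simp only [Finset.mem_insert, Finset.mem_singleton]
    rcases hc a with ha | ha
    · rcases hfix a ha with h | h <;> simp [h]
    · have h2 : a + ν + σ (a + ν) = 0 := by
        rw [map_add, show a + ν + (σ a + σ ν) = (a + σ a) + (ν + σ ν) by ring, ha, hν1, CharTwo.add_self_eq_zero]
      rcases hfix _ h2 with h | h
      · exact Or.inr (Or.inr (Or.inl (CharTwo.add_eq_zero.1 h)))
      · refine Or.inr (Or.inr (Or.inr ?_))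
        rw [← h, add_comm a ν, ← add_assoc, CharTwo.add_self_eq_zero, zero_add]
  have h4 := (Finset.card_le_card hsub).trans Finset.card_le_four
  rw [Finset.card_univ] at h4
  omega

variable {G : Type*} [Group G] [Finite G] {K : G → Subgroup G} {T : Subgroup G}
  {e : T ≃* PSLG 2 F} {θ : G →* MulAut (PSLG 2 F)}

theorem Std.not_pure_field_even (h : Std K) (hθ : ActsVia T e θ) (hq : 4 < Fintype.card F) (σ : F ≃+* F)
    (hσ : (orderOf σ).Prime) : fieldAut σ ∉ θ.range := by
  rintro ⟨x, hx⟩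
  have hinj : Function.Injective (fieldAut : (F ≃+* F) →* MulAut (PSLG 2 F)) := by
    refine (injective_iff_map_eq_one _).2 fun τ hτ => (eq_one_of_conj_field (g := 1) le_rfl ?_).2
    rw [map_one, one_mul, hτ]
  set r := orderOf σ with hr
  have hxo : orderOf x = r := by
    rw [← orderOf_injective θ hθ.inj x, hx, orderOf_injective _ hinj]
  -- elements of `T`
  let f : PSLG 2 F →* G := T.subtype.comp e.symm.toMonoidHom
  have hf : Function.Injective f := T.subtype_injective.comp e.symm.injective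
  have hfc : ∀ {y : PSLG 2 F}, fieldAut σ y = y → Commute x (f y) := fun hy =>
    hθ.commute_of_fixed (by rw [hx]; exact hy)
  set t₀ : PSLG 2 F := QuotientGroup.mk (slUp 1)
  have ht₀ : orderOf (f t₀) = 2 := by rw [orderOf_injective f hf]; exact orderOf_slUp one_ne_zero
  have hxt₀ : Commute x (f t₀) := hfc (by rw [fieldAut_slUp, map_one])
  by_cases hr2 : r = 2
  · have hσσ : σ * σ = 1 := by rw [← sq, ← hr2, hr, pow_orderOf_eq_one]
    have hσ1 : σ ≠ 1 := ne_one_of_orderOf_prime hσ rfl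
    obtain ⟨c, hc, hc0, hc1⟩ := exists_fixed_ne hσσ hσ1 hq
    set cu := Units.mk0 c hc0
    obtain ⟨l, hl, hld⟩ := Nat.exists_prime_and_dvd (n := orderOf cu) fun h1 => hc1
      (congrArg Units.val (orderOf_eq_one_iff.1 h1))
    set μ := cu ^ (orderOf cu / l)
    have hμo : orderOf μ = l := exists_pow_orderOf_eq hl hld
    have hσμ : Units.map σ.toMonoidHom μ = μ := by
      ext
      show σ ((cu ^ (orderOf cu / l) : Fˣ) : F) = _
      rw [Units.val_pow_eq_pow_val, map_pow]
      show σ c ^ _ = _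
      rw [hc]; simp [μ, cu]
    have hl2 : l ≠ 2 := fun h2 => by
      have h3 : ((μ : Fˣ) : F) ^ 2 = 1 := by
        rw [← Units.val_pow_eq_pow_val, ← h2, ← hμo, pow_orderOf_eq_one, Units.val_one]
      have h4 : ((μ : Fˣ) : F) = 1 := by
        have : (((μ : Fˣ) : F) - 1) ^ 2 = 0 := by rw [CharTwo.sub_eq_add, CharTwo.add_sq, h3, one_pow, CharTwo.add_self_eq_zero]
        exact sub_eq_zero.1 (pow_eq_zero_iff (two_ne_zero) |>.1 this)
      rw [Units.val_eq_one] at h4
      rw [h4, orderOf_one] at hμo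
      exact hl.ne_one hμo.symm
    set d : PSLG 2 F := QuotientGroup.mk (slDiag μ)
    have hdpow : d ^ l = 1 := by
      rw [← QuotientGroup.mk_pow, mk_eq_one_iff_two]
      have hp : ∀ k : ℕ, ((slDiag μ) ^ k).1 = !![((μ ^ k : Fˣ) : F), 0; 0, (((μ ^ k)⁻¹ : Fˣ) : F)] := by
        intro k
        induction k with
        | zero => ext i j; fin_cases i <;> fin_cases j <;> simp
        | succ k ih =>
          rw [pow_succ, Matrix.SpecialLinearGroup.coe_mul, ih]
          ext i j
          fin_cases i <;> fin_cases j <;>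
            simp [slDiag, Matrix.mul_apply, Fin.sum_univ_two, pow_succ, mul_comm]
      rw [hp, ← hμo, pow_orderOf_eq_one]
      ext i j
      fin_cases i <;> fin_cases j <;> simp
    haveI := Fact.mk hl
    have hdo : orderOf d = l := orderOf_eq_prime hdpow fun h1 => by
      have := congrFun (congrFun (mk_eq_one_iff_two.1 h1) 0) 0
      simp [slDiag] at this
      rw [this, orderOf_one] at hμo
      exact hl.ne_one hμo.symm
    have hxd : Commute x (f d) := hfc (by rw [fieldAut_slDiag, hσμ])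
    have hx1 : x ≠ 1 := ne_one_of_orderOf_prime hσ hxo
    have P := h.toIsPartition
    have hdK : f d ∈ K x := P.mem_of_commute hx1 hxd (by
      rw [hxo, hr2, orderOf_injective f hf, hdo]; exact Ne.symm hl2)
    have hdK' : f (t₀ * d * t₀⁻¹) ∈ K x := by
      refine P.mem_of_commute hx1 ?_ (by
        rw [hxo, hr2, orderOf_injective f hf, CfsgLib.Involutions.orderOf_conj_eq, hdo]; exact Ne.symm hl2)
      rw [map_mul, map_mul, map_inv]
      exact (hxt₀.mul_right hxd).mul_right hxt₀.inv_right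
    set v := d⁻¹ * (t₀ * d * t₀⁻¹) with hv
    set b : F := ((μ⁻¹ : Fˣ) : F) * ((μ⁻¹ : Fˣ) : F) + 1 with hb
    have hveq : v = QuotientGroup.mk (slUp b) := by
      rw [hv, ← QuotientGroup.mk_inv, ← QuotientGroup.mk_inv, ← QuotientGroup.mk_mul, ← QuotientGroup.mk_mul,
        ← QuotientGroup.mk_mul, mk_eq_mk_iff_two]
      simp only [Matrix.SpecialLinearGroup.coe_mul, Matrix.SpecialLinearGroup.coe_inv, Matrix.adjugate_fin_two]
      ext i j
      fin_cases i <;> fin_cases j <;>
        simp [slDiag, slUp, hb, Matrix.mul_apply, Fin.sum_univ_two, CharTwo.neg_eq, CharTwo.add_self_eq_zero,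
          mul_add, add_comm]
    have hb0 : b ≠ 0 := by
      intro h0
      have h1 := CharTwo.add_eq_zero.1 h0
      have h2 : μ⁻¹ * μ⁻¹ = 1 := Units.ext h1
      rw [← _root_.mul_inv_rev, inv_eq_one, ← sq] at h2
      exact hl2 ((Nat.prime_dvd_prime_iff_eq hl Nat.prime_two).1 (hμo ▸ orderOf_dvd_of_pow_eq_one h2))
    have hvo : orderOf (f v) = 2 := by rw [orderOf_injective f hf, hveq]; exact orderOf_slUp hb0
    have hvK : f v ∈ K x := by
      rw [hv, map_mul, map_inv]; exact (K x).mul_mem ((K x).inv_mem hdK) hdK'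
    have hcom := CfsgLib.Solvable.EigenChain.commute_of_coprime (h.isNilpotent x hx1) hdK hvK hl Nat.prime_two hl2
      ⟨1, by rw [pow_one, ← map_pow, hdpow, map_one]⟩ ⟨1, by rw [pow_one]; exact orderOf_dvd_iff_pow_eq_one.1 (dvd_of_eq hvo)⟩
    have hcom' : d * v = v * d := hf ((map_mul f d v).trans (hcom.eq.trans (map_mul f v d).symm))
    rw [hveq, ← QuotientGroup.mk_mul, ← QuotientGroup.mk_mul, mk_eq_mk_iff_two] at hcom'
    simp only [Matrix.SpecialLinearGroup.coe_mul] at hcom'
    have h01 := congrFun (congrFun hcom' 0) 1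
    simp [slDiag, slUp, Matrix.mul_apply, Fin.sum_univ_two] at h01
    have h1 : ((μ : Fˣ) : F) * ((μ : Fˣ) : F) = 1 := by
      have h2 : ((μ : Fˣ) : F) = ((μ : Fˣ) : F)⁻¹ := by
        refine mul_left_cancel₀ hb0 ?_
        linear_combination h01
      nth_rw 2 [h2]
      exact mul_inv_cancel₀ μ.ne_zero
    refine hl2 ((Nat.prime_dvd_prime_iff_eq hl Nat.prime_two).1 (hμo ▸ orderOf_dvd_of_pow_eq_one (Units.ext ?_)))
    rw [Units.val_pow_eq_pow_val, sq, h1, Units.val_one]
  · have ht₁ : orderOf (f (QuotientGroup.mk (slLow 1))) = 2 := by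
      rw [orderOf_injective f hf]; exact orderOf_slLow one_ne_zero
    have hxt₁ : Commute x (f (QuotientGroup.mk (slLow 1))) := hfc (by rw [fieldAut_slLow, map_one])
    have := h.false_of_odd_product (n := 3) hσ hr2 hxo ht₀ ht₁ hxt₀ hxt₁ (by decide)
      (by rw [← map_mul, ← map_pow, up_mul_low_pow_three, map_one])
    have h2 := mk_eq_mk_iff_two.1 (hf this)
    have := congrFun (congrFun h2 0) 1
    simp [slUp, slLow] at this

end CharTwo

theorem ringAut_zmod_five (σ : ZMod 5 ≃+* ZMod 5) : σ = 1 :=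
  RingEquiv.ext fun x => RingHom.congr_fun (RingHom.ext_zmod σ.toRingHom (RingHom.id _)) x

variable {G : Type*} [Group G] [Finite G] {K : G → Subgroup G} {T : Subgroup G} [T.Normal]

/-- over a field of order four: the symmetric group of degree five -/
theorem pgl_five (hC : Subgroup.centralizer (T : Set G) = ⊥) (hT : T ≠ ⊤) (e : T ≃* PSLG 2 F)
    (h4 : Fintype.card F = 4) :
    Nonempty (G ≃* (GL (Fin 2) (ZMod 5) ⧸ Subgroup.center (GL (Fin 2) (ZMod 5)))) := by
  haveI : Fact (Nat.Prime 5) := ⟨by norm_num⟩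
  obtain ⟨e4⟩ := Cfsg.Agent.S0252.result h4
  obtain ⟨e5⟩ := Cfsg.Agent.S0253.result (F := ZMod 5) (ZMod.card 5)
  obtain ⟨θ, hθ⟩ := exists_actsVia T hC ((e.trans e4).trans e5.symm)
  refine iso_pgl_of_range_le hθ hT (by rw [ZMod.card]; decide) (range_le hθ (fun σ hσ => ?_) fun _ σ _ hσ _ => ?_)
  · rw [ringAut_zmod_five σ, orderOf_one] at hσ
    exact absurd hσ Nat.not_prime_one
  · rw [ringAut_zmod_five σ, orderOf_one] at hσ
    omega

/-- the almost simple groups over `PSL₂` of even order with a partition -/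
theorem Std.pgl_of_even (h : Std K) (hC : Subgroup.centralizer (T : Set G) = ⊥) (hT : T ≠ ⊤)
    (hE : IsPSLTwoEven T) :
    ∃ (F : Type) (_ : Field F) (_ : Fintype F), 5 ≤ Fintype.card F ∧ Odd (Fintype.card F) ∧
      Nonempty (G ≃* (GL (Fin 2) F ⧸ Subgroup.center (GL (Fin 2) F))) := by
  obtain ⟨F, iF, fF, ⟨n, hn, hcard⟩, ⟨e⟩⟩ := hE
  by_cases h2 : n = 2
  · subst h2
    haveI : Fact (Nat.Prime 5) := ⟨by norm_num⟩
    exact ⟨ZMod 5, inferInstance, inferInstance, by rw [ZMod.card], by rw [ZMod.card]; decide,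
      pgl_five hC hT e (by rw [hcard]; norm_num)⟩
  exfalso
  haveI : CharP F 2 := charP_of_card_eq_prime_pow (f := n) hcard
  have hq : 4 < Fintype.card F := by
    rw [hcard]
    have : 2 ^ 3 ≤ 2 ^ n := Nat.pow_le_pow_right (by norm_num) (by omega)
    omega
  have hne : ¬ Odd (Fintype.card F) := by
    rw [hcard, Nat.not_odd_iff_even]
    exact Nat.even_pow.2 ⟨even_two, by omega⟩
  obtain ⟨θ, hθ⟩ := exists_actsVia T hC e
  have hle := range_le hθ (fun σ hσ => h.not_pure_field_even hθ hq σ hσ) fun ho => absurd ho hne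
  refine hT ((Subgroup.eq_top_iff' T).2 fun g => ?_)
  obtain ⟨a, ha⟩ := hle ⟨g, rfl⟩
  obtain ⟨x, hx⟩ := exists_conj_eq_conjAut (a := a) (isSquare_of_even hne _)
  exact hθ.mem_of_inner (ha.symm.trans hx)

end CfsgLib.Partition
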