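import Mathlib
import Cfsg.Agent.Lib.Partition.AlmostCommon
import Cfsg.Agent.Lib.SuzukiGroup.Automorphisms
import Cfsg.Agent.Lib.AutPSL.OutPSL

/-!
# Partitioned almost simple groups over a Suzuki group
-/

set_option autoImplicit false
set_option linter.style.haveILetI false
set_option linter.unusedSectionVars false

namespace CfsgLib.Partition

open CfsgLib.SuzukiGroup Cfsg.Lie

variable {F : Type} [Field F] [Fintype F] [CharP F 2]

/-- the product of the two standard involutions has order dividing five -/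
theorem suz_five {e : ℕ} (P : Params F e) : (uEl P (0 : F) 1 * jEl P) ^ 5 = 1 := by
  let φ := ZMod.castHom (dvd_refl 2) F
  let A : Matrix (Fin 4) (Fin 4) (ZMod 2) := !![1, 0, 1, 1; 0, 1, 0, 1; 0, 0, 1, 0; 0, 0, 0, 1]
  let J : Matrix (Fin 4) (Fin 4) (ZMod 2) := !![0, 0, 0, 1; 0, 0, 1, 0; 0, 1, 0, 0; 1, 0, 0, 0]
  have h : (A * J) ^ 5 = 1 := by
    simp only [pow_succ, pow_zero, one_mul]
    decide
  have h' := congrArg φ.mapMatrix h
  rw [map_pow, map_mul, map_one] at h'
  have hA : φ.mapMatrix A = mat (uEl P (0 : F) 1) := by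
    rw [mat_uEl]
    ext i j
    fin_cases i <;> fin_cases j <;> simp [A, uMat]
  have hJ : φ.mapMatrix J = mat (jEl P) := by
    rw [mat_jEl]
    ext i j
    fin_cases i <;> fin_cases j <;> simp [J, jMat]
  rw [hA, hJ] at h'
  exact mat_ext h'

variable {G : Type*} [Group G] [Finite G] {K : G → Subgroup G}

/-- a group with a partition over a Suzuki group is that Suzuki group -/
theorem Std.eq_top_of_suzuki (h : Std K) (T : Subgroup G) [T.Normal]
    (hC : Subgroup.centralizer (T : Set G) = ⊥) (hS : IsoSuzuki T) : T = ⊤ := by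
  obtain ⟨F, iF, fF, m, hm, hF, ⟨e⟩⟩ := hS
  obtain ⟨hchar, ⟨P⟩⟩ := exists_params hF
  haveI := hchar
  obtain ⟨θ, hθ⟩ := exists_actsVia T hC e
  rw [Subgroup.eq_top_iff']
  intro g
  by_contra hg
  obtain ⟨a, ha⟩ := exists_normalised hm hF P (θ g)
  obtain ⟨σ, hσ⟩ := normalised_eq_fieldAut hm hF P ha
  have hpure : fieldAut P σ ∈ θ.range := hσ ▸ mul_mem (hθ.inn_le a rfl) ⟨g, rfl⟩
  have hσ1 : σ ≠ 1 := fun h1 => hg (hθ.mem_of_inner (g := g) (x := a⁻¹) (by
    rw [map_inv]
    refine eq_inv_of_mul_eq_one_right ?_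
    rw [hσ, h1, map_one]))
  haveI : Fact (Nat.Prime 2) := ⟨Nat.prime_two⟩
  haveI : Finite (F ≃+* F) := Finite.of_injective (fun σ : F ≃+* F => (σ : F → F)) DFunLike.coe_injective
  obtain ⟨r, hr, hrd⟩ := Nat.exists_prime_and_dvd (n := orderOf σ) (fun h' => hσ1 (orderOf_eq_one_iff.1 h'))
  have hr2 : r ≠ 2 := by
    obtain ⟨eq'⟩ := CfsgLib.AutPSL.nonempty_ringAut_equiv (p := 2) (f := 2 * m + 1) hF
    intro h2
    have h1 : orderOf σ ∣ Nat.card (F ≃+* F) := orderOf_dvd_natCard _
    rw [Nat.card_congr (eq'.toEquiv.trans Multiplicative.toAdd), Nat.card_zmod] at h1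
    have h3 := hrd.trans h1
    rw [h2] at h3
    omega
  set τ := σ ^ (orderOf σ / r)
  have hτ : orderOf τ = r := exists_pow_orderOf_eq hr hrd
  obtain ⟨x, hx⟩ : fieldAut P τ ∈ θ.range := by rw [map_pow]; exact pow_mem hpure _
  have hxo : orderOf x = r := by
    have hinj : Function.Injective (fieldAut P) := by
      refine (injective_iff_map_eq_one _).2 fun τ hτ => eq_one_of_fieldAut_inner hm hF P (g := 1) ?_
      rw [hτ, map_one]
    rw [← orderOf_injective θ hθ.inj x, hx, orderOf_injective _ hinj, hτ]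
  let f : ↥(Sz F (2 ^ (m + 1))) →* G := T.subtype.comp e.symm.toMonoidHom
  have hf : Function.Injective f := T.subtype_injective.comp e.symm.injective
  have hu : orderOf (uEl P (0 : F) 1) = 2 := by
    refine orderOf_eq_prime ?_ fun h1 => one_ne_zero ((uEl_eq_one P).1 h1).2
    rw [uEl_sq, zero_mul, uEl_zero]
  have hj : orderOf (jEl P) = 2 := by
    refine orderOf_eq_prime (by rw [sq, jEl_mul_self]) fun h1 => ?_
    have := congrFun (congrFun (congrArg mat h1) 0) 0
    simp [jMat] at this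
  have hc : ∀ {y}, fieldAut P τ y = y → Commute x (f y) := fun hy => hθ.commute_of_fixed (by rw [hx]; exact hy)
  have := h.false_of_odd_product (n := 5) hr hr2 hxo
    (by rw [orderOf_injective f hf]; exact hu) (by rw [orderOf_injective f hf]; exact hj)
    (hc (by rw [fieldAut_uEl, map_zero, map_one])) (hc (Subtype.ext (glMap_jEl P τ))) (by decide)
    (by rw [← map_mul, ← map_pow, suz_five, map_one])
  have h2 := congrFun (congrFun (congrArg mat (hf this)) 0) 0
  simp [uMat, jMat] at h2

end CfsgLib.Partition
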