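import Mathlib
import Cfsg.Agent.Lib.Structure.HughesThompson
import Cfsg.Agent.Lib.Involutions.BaerSuzuki
import Cfsg.Agent.Lib.Involutions.Basic
import Cfsg.Agent.Lib.Involutions.Counting
import Cfsg.Agent.Lib.PCore.Basic

/-!
# Elements of prime order acting on subgroups of coprime order

The norm of the elements in a coset, and the criterion for a normal Sylow subgroup.
-/

set_option autoImplicit false
set_option linter.style.haveILetI false

namespace CfsgLib.Partition

open scoped IsMulCommutative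

universe u

section Norm

theorem eq_of_pow_eq_pow {X : Type*} [Group X] {a b : X} {i s : ℕ} (hs : 1 < s) (hi : i.Coprime s)
    (ha : a ^ s = 1) (hb : b ^ s = 1) (e : a ^ i = b ^ i) : a = b := by
  obtain ⟨m, -, hm⟩ := Nat.exists_mul_mod_eq_one_of_coprime hi hs
  have key : ∀ c : X, c ^ s = 1 → c ^ (i * m) = c := fun c hc => by
    rw [← Nat.div_add_mod (i * m) s, pow_add, pow_mul, hc, one_pow, one_mul, hm, pow_one]
  rw [← key a ha, ← key b hb, pow_mul, pow_mul, e]

/-- If every element of the coset `u Q` has order dividing the prime `s` and norm `0`, and the sum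
over `Q` is `0`, then the order of `Q` is `0`. -/
theorem natCast_card_eq_zero {R : Type*} [Ring R] {X : Type*} [Group X] (ρ : X →* R)
    (Q : Subgroup X) [Fintype Q] {u : X} {s : ℕ} (hs : s.Prime)
    (hu : u ∈ Subgroup.normalizer (Q : Set X)) (hord : ∀ w ∈ Q, (u * w) ^ s = 1)
    (hnorm : ∀ w ∈ Q, ∑ i ∈ Finset.range s, ρ (u * w) ^ i = 0) (hQ : ∑ w : Q, ρ (w : X) = 0) :
    (Fintype.card Q : R) = 0 := by
  classical
  have hmem : ∀ (i : ℕ) (w : Q), (u ^ i)⁻¹ * (u * (w : X)) ^ i ∈ Q := by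
    intro i w
    induction i with
    | zero => simp
    | succ i ih =>
      have e : (u ^ (i + 1))⁻¹ * (u * (w : X)) ^ (i + 1) =
          u⁻¹ * ((u ^ i)⁻¹ * (u * (w : X)) ^ i) * u * w := by
        rw [pow_succ (u * (w : X)), pow_succ u]; group
      rw [e]
      refine Q.mul_mem ?_ w.2
      have h1 := (Subgroup.mem_normalizer_iff.1 (inv_mem hu) _).1 ih
      simpa using h1
  have hsum : ∀ i ∈ Finset.range s, ∑ w : Q, ρ (u * (w : X)) ^ i = if i = 0 then (Fintype.card Q : R) else 0 := by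
    intro i hi
    split_ifs with h0
    · subst h0; simp
    have hinj : Function.Injective fun w : Q => (⟨_, hmem i w⟩ : Q) := fun w w' e => by
      have e1 : (u ^ i)⁻¹ * (u * (w : X)) ^ i = (u ^ i)⁻¹ * (u * (w' : X)) ^ i :=
        congrArg Subtype.val e
      have hcop : i.Coprime s := ((hs.coprime_iff_not_dvd).2
        (Nat.not_dvd_of_pos_of_lt (Nat.pos_of_ne_zero h0) (Finset.mem_range.1 hi))).symm
      exact Subtype.ext (mul_left_cancel (eq_of_pow_eq_pow hs.one_lt hcop (hord _ w.2) (hord _ w'.2)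
        (mul_left_cancel e1)))
    have hbij := Finite.injective_iff_bijective.1 hinj
    have e2 : ∀ w : Q, ρ (u * (w : X)) ^ i = ρ (u ^ i) * ρ ((u ^ i)⁻¹ * (u * (w : X)) ^ i) :=
      fun w => by rw [← map_pow, ← map_mul, mul_inv_cancel_left]
    rw [Finset.sum_congr rfl fun w _ => e2 w, ← Finset.mul_sum,
      hbij.sum_comp (fun w : Q => ρ (w : X)), hQ, mul_zero]
  have h0 : ∑ w : Q, ∑ i ∈ Finset.range s, ρ (u * (w : X)) ^ i = 0 :=
    Finset.sum_eq_zero fun w _ => hnorm w w.2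
  rwa [Finset.sum_comm, Finset.sum_congr rfl hsum, Finset.sum_ite_eq',
    if_pos (Finset.mem_range.2 hs.pos)] at h0

variable {G : Type u} [Group G] [Finite G] {X : Type u} [Group X] [Finite X]

/-- A group fixed-point-free on an abelian normal subgroup of coprime order is not normalised by an
element whose coset consists of elements of prime order with trivial norm. -/
theorem eq_bot_of_norm (V : Subgroup G) [V.Normal] [IsMulCommutative V] (π : G →* X)
    (hπ : Function.Surjective π) (hker : ∀ k : G, π k = 1 → ∀ v ∈ V, k * v = v * k)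
    (Q : Subgroup X) {u : X} {s : ℕ} (hs : s.Prime) (hu : u ∈ Subgroup.normalizer (Q : Set X))
    (hord : ∀ w ∈ Q, (u * w) ^ s = 1)
    (hnorm : ∀ w ∈ Q, ∃ g : G, π g = u * w ∧ ∀ v ∈ V, (v * g) ^ s = 1)
    (hfix : ∀ v ∈ V, (∀ g : G, π g ∈ Q → g * v = v * g) → v = 1)
    (hcop : (Nat.card Q).Coprime (Nat.card V)) : V = ⊥ := by
  classical
  haveI := Fintype.ofFinite Q
  let ρ₀ := CfsgLib.HughesThompson.conjEnd V
  have hk : π.ker ≤ ρ₀.toHomUnits.ker := fun k hk => by
    rw [MonoidHom.mem_ker] at hk ⊢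
    refine Units.ext (AddMonoidHom.ext fun v => Additive.toMul.injective (Subtype.ext ?_))
    show k * ((v.toMul : V) : G) * k⁻¹ = ((v.toMul : V) : G)
    rw [hker k hk _ v.toMul.2, mul_inv_cancel_right]
  let ρ₁ : X →* (AddMonoid.End (Additive V))ˣ := π.liftOfSurjective hπ ⟨ρ₀.toHomUnits, hk⟩
  let ρ : X →* AddMonoid.End (Additive V) := (Units.coeHom _).comp ρ₁
  have hρ : ∀ g, ρ (π g) = ρ₀ g := fun g =>
    congrArg Units.val (MonoidHom.liftOfRightInverse_comp_apply π (Function.surjInv hπ)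
      (Function.rightInverse_surjInv hπ) ⟨ρ₀.toHomUnits, hk⟩ g)
  have h1 : (Fintype.card Q : AddMonoid.End (Additive V)) = 0 := by
    refine natCast_card_eq_zero ρ Q hs hu hord (fun w hw => ?_) ?_
    · obtain ⟨g, hg, hgv⟩ := hnorm w hw
      rw [← hg, hρ]
      refine AddMonoidHom.ext fun v => Additive.toMul.injective (Subtype.ext ?_)
      refine (CfsgLib.HughesThompson.sum_conj_eq V g v s).trans ?_
      rw [hgv _ v.toMul.2]
      have := hgv 1 (one_mem _)
      rw [one_mul] at this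
      rw [this]
      show (1 : G) * 1⁻¹ = 1
      simp
    · refine AddMonoidHom.ext fun v => ?_
      set m := (∑ w : Q, ρ (w : X)) v with hm
      have hfixed : ∀ w : Q, ρ (w : X) m = m := fun w => by
        show (ρ (w : X) * ∑ w' : Q, ρ (w' : X)) v = (∑ w' : Q, ρ (w' : X)) v
        congr 1
        rw [Finset.mul_sum]
        refine (Finset.sum_congr rfl fun w' _ => ?_).trans
          ((Group.mulLeft_bijective w).sum_comp fun w' : Q => ρ (w' : X))
        rw [← map_mul]; rfl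
      apply Additive.toMul.injective
      apply Subtype.ext
      refine hfix _ (Additive.toMul m).2 fun g hg => ?_
      have h2 := hfixed ⟨π g, hg⟩
      rw [hρ] at h2
      have h3 : g * ((Additive.toMul m : V) : G) * g⁻¹ = ((Additive.toMul m : V) : G) :=
        congrArg (fun z : Additive V => ((Additive.toMul z : V) : G)) h2
      exact mul_inv_eq_iff_eq_mul.1 h3
  refine (Subgroup.eq_bot_iff_forall _).2 fun v hv => ?_
  have h2 := DFunLike.congr_fun h1 (Additive.ofMul (⟨v, hv⟩ : V))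
  rw [AddMonoid.End.natCast_apply, ← Nat.card_eq_fintype_card] at h2
  have h3 : (⟨v, hv⟩ : V) ^ Nat.card Q = 1 := congrArg Additive.toMul h2
  have h4 : (⟨v, hv⟩ : V) ^ 1 = 1 := by
    rw [← hcop.gcd_eq_one]
    exact pow_gcd_eq_one.2 ⟨h3, pow_card_eq_one' (G := V)⟩
  rw [pow_one] at h4
  exact congrArg Subtype.val h4

end Norm

section Criterion

variable {G : Type u} [Group G] [Finite G] {q : ℕ} [hq : Fact q.Prime]

/-- an element of order `q` normalises a nontrivial subgroup of order prime to `q` -/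
def HasPair (G : Type u) [Group G] (q : ℕ) : Prop :=
  ∃ (u : G) (Q : Subgroup G), orderOf u = q ∧ Q ≠ ⊥ ∧ ¬ q ∣ Nat.card Q ∧
    u ∈ Subgroup.normalizer (Q : Set G)

theorem hasPair_of_normalizer (H : Subgroup G) {x : G} (hx : x ∈ Subgroup.normalizer (H : Set G))
    (hxH : x ∉ H) (hxq : ∃ k, x ^ q ^ k = 1) {r : ℕ} (hr : r.Prime) (hrq : r ≠ q)
    (hrH : r ∣ Nat.card H) : HasPair G q := by
  haveI := Fact.mk hr
  set N := Subgroup.normalizer (H : Set G)
  set H' := H.subgroupOf N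
  haveI : H'.Normal := Subgroup.normal_in_normalizer
  have hrH' : r ∣ Nat.card H' := by
    rwa [Nat.card_congr (Subgroup.subgroupOfEquivOfLe (Subgroup.le_normalizer)).toEquiv]
  obtain ⟨R⟩ : Nonempty (Sylow r H') := inferInstance
  have htop := Sylow.normalizer_sup_eq_top (N := H') R
  have hxm : (⟨x, hx⟩ : N) ∈ Subgroup.normalizer ((((R : Subgroup H').map H'.subtype) : Subgroup N) : Set N) ⊔ H' :=
    htop ▸ Subgroup.mem_top _
  obtain ⟨n, hn, h, hh, hnh⟩ := Subgroup.mem_sup_of_normal_right.1 hxm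
  have hqn : q ∣ orderOf n := by
    have e : (QuotientGroup.mk' H') n = (QuotientGroup.mk' H') ⟨x, hx⟩ := by
      rw [← hnh, map_mul, (QuotientGroup.eq_one_iff h).2 hh |> fun e => (show (QuotientGroup.mk' H') h = 1 from e), mul_one]
    refine dvd_trans ?_ (orderOf_map_dvd (QuotientGroup.mk' H') n)
    rw [e]
    obtain ⟨k, hk⟩ := hxq
    have h1 : orderOf ((QuotientGroup.mk' H') ⟨x, hx⟩) ∣ q ^ k := orderOf_dvd_of_pow_eq_one (by
      rw [← map_pow, show (⟨x, hx⟩ : N) ^ q ^ k = 1 from Subtype.ext hk, map_one])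
    obtain ⟨j, -, hj⟩ := (Nat.dvd_prime_pow hq.out).1 h1
    rw [hj]
    rcases j with _ | j
    · rw [pow_zero, orderOf_eq_one_iff] at hj
      exact absurd ((QuotientGroup.eq_one_iff _).1 hj) hxH
    · exact dvd_pow_self q j.succ_ne_zero
  set Q : Subgroup N := (R : Subgroup H').map H'.subtype
  have hQcard : Nat.card (Q.map N.subtype) = Nat.card (R : Subgroup H') := by
    rw [Nat.card_congr (Subgroup.equivMapOfInjective Q N.subtype N.subtype_injective).toEquiv.symm,
      Nat.card_congr (Subgroup.equivMapOfInjective _ H'.subtype H'.subtype_injective).toEquiv.symm]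
  obtain ⟨j, hj⟩ := R.isPGroup'.exists_card_eq
  refine ⟨((n ^ (orderOf n / q) : N) : G), Q.map N.subtype, ?_, ?_, ?_, ?_⟩
  · rw [Subgroup.orderOf_coe]
    have hpos := (isOfFinOrder_of_finite n).orderOf_pos
    rw [orderOf_pow_of_dvd (Nat.div_ne_zero_iff.2 ⟨hq.out.ne_zero, Nat.le_of_dvd hpos hqn⟩)
      (Nat.div_dvd_of_dvd hqn), Nat.div_div_self hqn hpos.ne']
  · intro e
    rw [e, Subgroup.card_bot] at hQcard
    have := R.dvd_card_of_dvd_card hrH'
    rw [← hQcard] at this
    exact hr.ne_one (Nat.dvd_one.1 this)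
  · rw [hQcard, hj]
    exact fun hd => hrq ((Nat.prime_dvd_prime_iff_eq hq.out hr).1 (hq.out.dvd_of_dvd_pow hd)).symm
  · refine Subgroup.le_normalizer_map N.subtype ?_
    exact ⟨_, pow_mem hn _, rfl⟩

omit hq in
theorem exists_prime_ne_of_dvd {n : ℕ} (h1 : n ≠ 1) (hn : ¬ q ∣ n) : ∃ r, r.Prime ∧ r ≠ q ∧ r ∣ n := by
  obtain ⟨r, hr, hrn⟩ := Nat.exists_prime_and_dvd h1
  exact ⟨r, hr, fun e => hn (e ▸ hrn), hrn⟩

/-- shared part: a `q'`-subgroup modulo the `q`-core normalised by a `q`-element outside gives a pair -/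
theorem hasPair_of_quotient (R : Subgroup (G ⧸ Cfsg.pCore q G)) (hR : R ≠ ⊥)
    (hRq : ¬ q ∣ Nat.card R) {x : G} (hxq : ∃ k, x ^ q ^ k = 1) (hx1 : x ∉ Cfsg.pCore q G)
    (hx : QuotientGroup.mk' (Cfsg.pCore q G) x ∈ Subgroup.normalizer (R : Set (G ⧸ Cfsg.pCore q G))) :
    HasPair G q := by
  set f := QuotientGroup.mk' (Cfsg.pCore q G)
  obtain ⟨r, hr, hrq, hrd⟩ := exists_prime_ne_of_dvd (q := q)
    (fun e => hR (Subgroup.card_eq_one.1 e)) hRq
  refine hasPair_of_normalizer (R.comap f) (x := x) ?_ ?_ hxq hr hrq (hrd.trans ?_)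
  · refine Subgroup.mem_normalizer_iff.2 fun g => ?_
    simp only [Subgroup.mem_comap, map_mul, map_inv]
    exact Subgroup.mem_normalizer_iff.1 hx (f g)
  · intro hm
    obtain ⟨k, hk⟩ := hxq
    have h1 : orderOf (f x) ∣ q ^ k := orderOf_dvd_of_pow_eq_one (by rw [← map_pow, hk, map_one])
    have h2 : orderOf (f x) ∣ Nat.card R := Subgroup.orderOf_dvd_natCard R hm
    obtain ⟨j, -, hj⟩ := (Nat.dvd_prime_pow hq.out).1 h1
    rcases j with _ | j
    · rw [pow_zero, orderOf_eq_one_iff] at hj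
      exact hx1 ((QuotientGroup.eq_one_iff x).1 hj)
    · exact hRq ((dvd_pow_self q j.succ_ne_zero).trans (hj ▸ h2))
  · have := Subgroup.card_map_dvd (R.comap f) f
    rwa [Subgroup.map_comap_eq_self_of_surjective (QuotientGroup.mk'_surjective _)] at this

theorem pCore_quotient_eq_bot {N : Subgroup (G ⧸ Cfsg.pCore q G)} (hn : N.Normal) (hp : IsPGroup q N) :
    N = ⊥ := by
  set f := QuotientGroup.mk' (Cfsg.pCore q G)
  have h1 : IsPGroup q (N.comap f) := hp.comap_of_ker_isPGroup f (by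
    rw [QuotientGroup.ker_mk']; exact CfsgLib.PCore.pCore_isPGroup)
  have h2 := CfsgLib.PCore.le_pCore (hn.comap f) h1
  refine (Subgroup.eq_bot_iff_forall _).2 fun y hy => ?_
  obtain ⟨g, rfl⟩ := QuotientGroup.mk'_surjective _ y
  exact (QuotientGroup.eq_one_iff g).2 (h2 hy)

theorem sylow_le_pCore_of_solvable (hG : Group.IsSolvable G) (hno : ¬ HasPair G q) (S : Sylow q G) :
    (S : Subgroup G) = Cfsg.pCore q G := by
  refine le_antisymm ?_ (CfsgLib.PCore.pCore_le_sylow S)
  intro x hx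
  by_contra hxP
  set f := QuotientGroup.mk' (Cfsg.pCore q G)
  haveI := hG
  haveI : Nontrivial (G ⧸ Cfsg.pCore q G) :=
    nontrivial_of_ne (f x) 1 fun e => hxP ((QuotientGroup.eq_one_iff x).1 e)
  -- a nontrivial abelian normal subgroup
  obtain ⟨A, hAn, hAb, hAc⟩ : ∃ A : Subgroup (G ⧸ Cfsg.pCore q G), A.Normal ∧ A ≠ ⊥ ∧
      ∀ a ∈ A, ∀ b ∈ A, a * b = b * a := by
    classical
    haveI : Group.IsSolvable (G ⧸ Cfsg.pCore q G) :=
      Group.isSolvable_of_surjective (f := f) (QuotientGroup.mk'_surjective _)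
    have hex : ∃ n, derivedSeries (G ⧸ Cfsg.pCore q G) n = ⊥ := Group.IsSolvable.solvable
    set n := Nat.find hex with hn
    have hn0 : n ≠ 0 := fun e => by
      have := Nat.find_spec hex
      rw [← hn, e, derivedSeries_zero] at this
      exact top_ne_bot this
    refine ⟨derivedSeries _ (n - 1), derivedSeries_normal _ _,
      Nat.find_min hex (by omega), fun a ha b hb => ?_⟩
    have := Subgroup.commutator_mem_commutator ha hb
    rw [← derivedSeries_succ, Nat.sub_add_cancel (Nat.pos_of_ne_zero hn0), Nat.find_spec hex,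
      Subgroup.mem_bot, commutatorElement_eq_one_iff_mul_comm] at this
    exact this
  have hAq : ¬ q ∣ Nat.card A := fun hd => by
    obtain ⟨⟨a, ha⟩, hao⟩ := exists_prime_orderOf_dvd_card' (G := A) q hd
    rw [Subgroup.orderOf_mk] at hao
    let B : Subgroup (G ⧸ Cfsg.pCore q G) :=
      { carrier := {b | b ∈ A ∧ b ^ q = 1}
        one_mem' := ⟨one_mem _, one_pow _⟩
        mul_mem' := fun {a b} ha hb => ⟨mul_mem ha.1 hb.1, by
          rw [(show Commute a b from hAc a ha.1 b hb.1).mul_pow, ha.2, hb.2, mul_one]⟩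
        inv_mem' := fun {a} ha => ⟨inv_mem ha.1, by rw [inv_pow, ha.2, inv_one]⟩ }
    have hBn : B.Normal := ⟨fun b hb g => ⟨hAn.conj_mem b hb.1 g, by
      rw [conj_pow, hb.2, mul_one, mul_inv_cancel]⟩⟩
    have hBp : IsPGroup q B := fun b => ⟨1, Subtype.ext (by
      rw [pow_one, SubmonoidClass.coe_pow]; exact b.2.2)⟩
    have : a ∈ B := ⟨ha, orderOf_dvd_iff_pow_eq_one.1 (dvd_of_eq hao)⟩
    rw [pCore_quotient_eq_bot hBn hBp, Subgroup.mem_bot] at this
    rw [this, orderOf_one] at hao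
    exact hq.out.ne_one hao.symm
  refine hno (hasPair_of_quotient A hAb hAq (x := x) ?_ hxP ?_)
  · obtain ⟨k, hk⟩ := S.isPGroup' ⟨x, hx⟩
    exact ⟨k, congrArg Subtype.val hk⟩
  · haveI := hAn
    rw [Subgroup.normalizer_eq_top]; exact Subgroup.mem_top _

theorem sylow_le_pCore_two (hno : ¬ HasPair G 2) (S : Sylow 2 G) :
    (S : Subgroup G) = Cfsg.pCore 2 G := by
  haveI : Fact (Nat.Prime 2) := ⟨Nat.prime_two⟩
  refine le_antisymm ?_ (CfsgLib.PCore.pCore_le_sylow S)
  intro x hx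
  by_contra hxP
  set f := QuotientGroup.mk' (Cfsg.pCore 2 G)
  obtain ⟨k, hk⟩ := S.isPGroup' ⟨x, hx⟩
  have hxk : x ^ 2 ^ k = 1 := congrArg Subtype.val hk
  -- an element of the Sylow subgroup which is an involution modulo the core
  obtain ⟨x', hx'S, hx'o⟩ : ∃ y ∈ (S : Subgroup G), orderOf (f y) = 2 := by
    have h1 : orderOf (f x) ∣ 2 ^ k := orderOf_dvd_of_pow_eq_one (by rw [← map_pow, hxk, map_one])
    obtain ⟨j, -, hj⟩ := (Nat.dvd_prime_pow Nat.prime_two).1 h1
    rcases j with _ | j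
    · rw [pow_zero, orderOf_eq_one_iff] at hj
      exact absurd ((QuotientGroup.eq_one_iff x).1 hj) hxP
    refine ⟨x ^ 2 ^ j, pow_mem hx _, ?_⟩
    rw [map_pow, orderOf_pow_of_dvd (by positivity) (hj ▸ pow_dvd_pow 2 j.le_succ), hj, pow_succ,
      Nat.mul_div_cancel_left _ (by positivity)]
  have hx'P : x' ∉ Cfsg.pCore 2 G := fun hm => by
    rw [show f x' = 1 from (QuotientGroup.eq_one_iff x').2 hm, orderOf_one] at hx'o
    omega
  obtain ⟨c, hc⟩ : ∃ c, ¬ IsPGroup 2 (Subgroup.closure ({f x', c * f x' * c⁻¹} : Set (G ⧸ Cfsg.pCore 2 G))) := by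
    by_contra! hall
    obtain ⟨N, hNn, hNp, hxN⟩ := CfsgLib.Involutions.exists_normal_isPGroup_of_mem hall
    rw [pCore_quotient_eq_bot hNn hNp, Subgroup.mem_bot] at hxN
    rw [hxN, orderOf_one] at hx'o
    omega
  have hy : orderOf (c * f x' * c⁻¹) = 2 := by rw [CfsgLib.Involutions.orderOf_conj_eq, hx'o]
  set a := f x' * (c * f x' * c⁻¹) with ha
  obtain ⟨e, m, hm, hem⟩ := Nat.exists_eq_two_pow_mul_odd (isOfFinOrder_of_finite a).orderOf_pos.ne'
  have hao : orderOf (a ^ 2 ^ e) = m := by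
    rw [orderOf_pow_of_dvd (by positivity) (hem ▸ dvd_mul_right _ _), hem,
      Nat.mul_div_cancel_left _ (by positivity)]
  have hm1 : m ≠ 1 := fun e1 => hc (CfsgLib.Involutions.isPGroup_two_closure_pair hx'o hy
    (k := e) (by rw [← ha, hem, e1, mul_one]))
  refine hno (hasPair_of_quotient (Subgroup.zpowers (a ^ 2 ^ e)) ?_ ?_ (x := x') ?_ hx'P ?_)
  · intro hb
    rw [Subgroup.zpowers_eq_bot] at hb
    rw [hb, orderOf_one] at hao
    exact hm1 hao.symm
  · rw [Nat.card_zpowers, hao]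
    exact Nat.two_dvd_ne_zero.2 (Nat.odd_iff.1 hm)
  · obtain ⟨k, hk⟩ := S.isPGroup' ⟨x', hx'S⟩
    exact ⟨k, congrArg Subtype.val hk⟩
  · have hinv := CfsgLib.Involutions.inverts_pow (CfsgLib.Involutions.left_inverts_prod hx'o hy) (2 ^ e)
    refine Subgroup.mem_normalizer_iff.2 fun g => ?_
    have hmap : ∀ g ∈ Subgroup.zpowers (a ^ 2 ^ e), f x' * g * (f x')⁻¹ ∈ Subgroup.zpowers (a ^ 2 ^ e) := by
      rintro _ ⟨i, rfl⟩
      rw [CfsgLib.Involutions.inverts_zpow hinv i]
      exact inv_mem ⟨i, rfl⟩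
    refine ⟨hmap g, fun hg => ?_⟩
    have h2 : (f x')⁻¹ = f x' := CfsgLib.Involutions.inv_eq_self_of_involution hx'o
    have := hmap _ hg
    rw [h2] at this
    have h3 : f x' * f x' = 1 := CfsgLib.Involutions.mul_self_eq_one hx'o
    rwa [show f x' * (f x' * g * f x') * f x' = (f x' * f x') * g * (f x' * f x') by group, h3,
      one_mul, mul_one] at this

end Criterion

end CfsgLib.Partition
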