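import Mathlib
import Cfsg.Agent.Lib.Partition.Tools
import Cfsg.Agent.Lib.Partition.Module
import Cfsg.Agent.Lib.PF.OddOrder

/-!
# Partitioned groups with an abelian normal subgroup inside one member
-/

set_option autoImplicit false
set_option linter.style.haveILetI false

namespace CfsgLib.Partition

open scoped IsMulCommutative

universe u

variable {G : Type u} [Group G] [Finite G] {K : G → Subgroup G}

theorem Std.concl_of_normal_le (h : Std K) {N : Subgroup G} [hN : N.Normal] (hNb : N ≠ ⊥) {x : G}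
    (hx : x ≠ 1) (hNx : N ≤ K x) : Concl G := by
  have P := h.toIsPartition
  obtain ⟨⟨n₀, hn₀⟩, hn₀1⟩ := Subgroup.ne_bot_iff_exists_ne_one.1 hNb
  have hn₀' : n₀ ≠ 1 := fun e => hn₀1 (Subtype.ext e)
  haveI hKn : (K x).Normal := Subgroup.normalizer_eq_top_iff.1 (eq_top_iff.2 fun g _ =>
    P.mem_normalizer_of_mem hx hn₀' (hNx hn₀) (hNx (hN.conj_mem n₀ hn₀ g)))
  have hout : ∀ y, y ∉ K x → ∀ n : ℕ, y ^ n ∈ K x → y ^ n = 1 := fun y hy n hn => P.pow_eq_one hx hy hn
  set π := QuotientGroup.mk' (K x) with hπ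
  have hπs : Function.Surjective π := QuotientGroup.mk'_surjective _
  have hπm : ∀ y, π y = 1 ↔ y ∈ K x := fun y => QuotientGroup.eq_one_iff y
  have hord : ∀ y, y ∉ K x → orderOf (π y) = orderOf y := fun y hy =>
    Nat.dvd_antisymm (orderOf_map_dvd π y) (orderOf_dvd_of_pow_eq_one (hout y hy _
      ((hπm _).1 (by rw [map_pow, pow_orderOf_eq_one]))))
  -- no element outside centralises a nontrivial element inside: a Frobenius group
  by_cases hfree : ∀ y, y ∉ K x → ∀ c ∈ K x, c ≠ 1 → ¬ Commute y c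
  · exact Or.inr (Or.inr (Or.inl (exists_frobenius_of_fpf (K x) (P.ne_bot hx) (P.proper x hx) hfree)))
  push Not at hfree
  obtain ⟨y₀, hy₀, c₀, hc₀, hc₀1, hc⟩ := hfree
  have hyK : ∀ y, y ∉ K x → ∀ c ∈ K x, c ≠ 1 → y ∉ K c := fun y hy c hcK hc1 => by
    rw [P.eq_of_mem x c hx hcK hc1]; exact hy
  have hy₀1 : y₀ ≠ 1 := fun e => hy₀ (by rw [e]; exact one_mem _)
  have hprime : (orderOf c₀).Prime := P.prime_of_commute hc₀1 hy₀1 hc.symm (hyK y₀ hy₀ c₀ hc₀ hc₀1)
  set p := orderOf c₀ with hp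
  have hy₀o : orderOf y₀ = p :=
    (P.orderOf_eq_of_commute hc₀1 hy₀1 hc.symm (hyK y₀ hy₀ c₀ hc₀ hc₀1)).symm
  haveI := Fact.mk hprime
  have hcomm : ∀ y, y ∉ K x → ∀ c ∈ K x, c ≠ 1 → Commute y c → orderOf y = orderOf c :=
    fun y hy c hcK hc1 hyc => (P.orderOf_eq_of_commute hc1 (fun e => hy (by rw [e]; exact one_mem _)) hyc.symm
      (hyK y hy c hcK hc1)).symm
  obtain ⟨V, hVn, hVc, hV⟩ := exists_omega_center (K x) p
  haveI := hVn
  haveI := hVc
  have hVord : ∀ v ∈ V, v ≠ 1 → orderOf v = p := fun v hv hv1 => orderOf_eq_prime ((hV v).1 hv).2.1 hv1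
  have hVb : V ≠ ⊥ := by
    obtain ⟨z, hzo, hzc⟩ := exists_central_of_nilpotent (h.isNilpotent x hx) (p := p)
      (Subgroup.orderOf_dvd_natCard (K x) hc₀)
    intro e
    have : (z : G) ∈ V := (hV _).2 ⟨z.2, by
      rw [← SubmonoidClass.coe_pow, ← hzo, pow_orderOf_eq_one]; rfl,
      fun k hk => congrArg Subtype.val (hzc ⟨k, hk⟩).eq⟩
    rw [e, Subgroup.mem_bot, OneMemClass.coe_eq_one] at this
    exact ne_one_of_orderOf_prime hprime hzo this
  have hVp : IsPGroup p V := fun v => ⟨1, Subtype.ext (by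
    rw [pow_one, SubmonoidClass.coe_pow]; exact ((hV v).1 v.2).2.1)⟩
  -- elements outside of order divisible by `p` have order `p`
  have hpo : ∀ y, y ∉ K x → p ∣ orderOf y → orderOf y = p := by
    intro y hy hd
    set w := y ^ (orderOf y / p) with hw
    have hwo : orderOf w = p := exists_pow_orderOf_eq hprime hd
    have hw1 : w ≠ 1 := ne_one_of_orderOf_prime hprime hwo
    have hwK : w ∉ K x := fun hm => hw1 (hout y hy _ hm)
    obtain ⟨c, hcV, hc1, hwc⟩ := exists_commute_of_isPGroup V hVp hVb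
      ⟨1, by rw [pow_one, ← hwo, pow_orderOf_eq_one]⟩
    have hcK : c ∈ K x := ((hV c).1 hcV).1
    have hy1 : y ≠ 1 := fun e => hy (by rw [e]; exact one_mem _)
    have hL : K w = K y := P.eq_pow hw1
    have hcN := P.mem_normalizer_of_commute hw1 hwc.symm
    have hcy : c * y * c⁻¹ * y⁻¹ = 1 := by
      by_contra he
      have h1 : c * y * c⁻¹ * y⁻¹ ∈ K w := mul_mem
        ((Subgroup.mem_normalizer_iff.1 hcN y).1 (hL ▸ P.mem y hy1)) (inv_mem (hL ▸ P.mem y hy1))
      have h2 : c * y * c⁻¹ * y⁻¹ ∈ K x := by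
        rw [show c * y * c⁻¹ * y⁻¹ = c * (y * c⁻¹ * y⁻¹) by group]
        exact mul_mem hcK (hKn.conj_mem _ (inv_mem hcK) y)
      have e1 := P.eq_of_mem w _ hw1 h1 he
      rw [P.eq_of_mem x _ hx h2 he] at e1
      exact hwK (e1 ▸ P.mem w hw1)
    rw [hcomm y hy c hcK hc1 (mul_inv_eq_one.1 hcy |> mul_inv_eq_iff_eq_mul.1).symm, hVord c hcV hc1]
  have hpX : ∀ z : G ⧸ K x, p ∣ orderOf z → orderOf z = p := fun z hd => by
    obtain ⟨y, rfl⟩ := hπs z
    have hy : y ∉ K x := fun hm => by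
      rw [(hπm y).2 hm, orderOf_one] at hd
      exact hprime.ne_one (Nat.dvd_one.1 hd)
    rw [hord y hy] at hd ⊢
    exact hpo y hy hd
  have hker : ∀ k : G, π k = 1 → ∀ v ∈ V, k * v = v * k := fun k hk v hv =>
    (((hV v).1 hv).2.2 k ((hπm k).1 hk)).eq
  have hcard : ∀ {n : ℕ}, ¬ p ∣ n → n.Coprime (Nat.card V) := fun hn => by
    obtain ⟨j, hj⟩ := hVp.exists_card_eq
    rw [hj]
    exact (((Nat.Prime.coprime_iff_not_dvd hprime).2 hn).symm).pow_right j
  have hno : ¬ HasPair (G ⧸ K x) p := by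
    rintro ⟨u, Q, hu, hQb, hQp, huQ⟩
    refine hVb (eq_bot_of_norm V π hπs hker Q (s := p) hprime huQ (fun w hw => ?_) (fun w hw => ?_) ?_
      (hcard hQp))
    · rw [← hpX _ (dvd_orderOf_coset hprime hu huQ hQp hw), pow_orderOf_eq_one]
    · obtain ⟨g, hg⟩ := hπs (u * w)
      have ho := hpX _ (dvd_orderOf_coset hprime hu huQ hQp hw)
      refine ⟨g, hg, fun v hv => ?_⟩
      have hvg : v * g ∉ K x := fun hm => by
        have := (hπm _).2 hm
        rw [map_mul, (hπm v).2 ((hV v).1 hv).1, one_mul, hg] at this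
        rw [this, orderOf_one] at ho
        exact hprime.ne_one ho.symm
      refine hout _ hvg p ((hπm _).1 ?_)
      rw [map_pow, map_mul, (hπm v).2 ((hV v).1 hv).1, one_mul, hg, ← ho, pow_orderOf_eq_one]
    · intro v hv hfix
      by_contra hv1
      obtain ⟨⟨w, hw⟩, hw1⟩ := Subgroup.ne_bot_iff_exists_ne_one.1 hQb
      obtain ⟨g, rfl⟩ := hπs w
      have hgK : g ∉ K x := fun hm => hw1 (Subtype.ext ((hπm g).2 hm))
      have h1 := hcomm g hgK v ((hV v).1 hv).1 hv1 (hfix g hw)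
      rw [hVord v hv hv1, ← hord g hgK] at h1
      exact hQp (h1 ▸ Subgroup.orderOf_dvd_natCard Q hw)
  -- the Sylow subgroup of the quotient is normal
  obtain ⟨S⟩ : Nonempty (Sylow p (G ⧸ K x)) := inferInstance
  have hS : (S : Subgroup (G ⧸ K x)) = Cfsg.pCore p (G ⧸ K x) := by
    by_cases h2 : p = 2
    · revert S
      rw [h2] at hno
      revert hno
      generalize p = p' at h2 ⊢
      subst h2
      exact fun hno S => sylow_le_pCore_two hno S
    by_cases hs : Group.IsSolvable (G ⧸ K x)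
    · exact sylow_le_pCore_of_solvable hs hno S
    refine le_antisymm ?_ (CfsgLib.PCore.pCore_le_sylow S)
    have hev : 2 ∣ Nat.card (G ⧸ K x) := by
      by_contra hnd
      exact hs (CfsgLib.PF.oddSolvable _ (Nat.odd_iff.2 (Nat.two_dvd_ne_zero.1 hnd)))
    haveI : Fact (Nat.Prime 2) := ⟨Nat.prime_two⟩
    obtain ⟨t', ht'⟩ := exists_prime_orderOf_dvd_card' 2 hev
    obtain ⟨t, rfl⟩ := hπs t'
    have htK : t ∉ K x := fun hm => by
      rw [(hπm t).2 hm, orderOf_one] at ht'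
      omega
    have hto : orderOf t = 2 := (hord t htK).symm.trans ht'
    have htinv : ∀ v ∈ V, t * v * t⁻¹ = v⁻¹ := fun v hv => by
      refine inverts_of_fpf V (fun a ha b hb => congrArg Subtype.val (hVc.is_comm.comm ⟨a, ha⟩ ⟨b, hb⟩))
        hto (fun w hw hwc => ?_) hv
      by_contra hw1
      have := hcomm t htK w ((hV w).1 hw).1 hw1 hwc
      rw [hto, hVord w hw hw1] at this
      exact h2 this.symm
    set C := Subgroup.centralizer (V : Set G) with hC
    have hCp : IsPGroup p (C.map π) := by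
      rintro ⟨z, ⟨c, hcC, rfl⟩⟩
      refine ⟨1, Subtype.ext ?_⟩
      rw [pow_one, SubmonoidClass.coe_pow, OneMemClass.coe_one]
      show (π c) ^ p = 1
      by_cases hcK : c ∈ K x
      · rw [show (π c : G ⧸ K x) = 1 from (hπm c).2 hcK, one_pow]
      obtain ⟨⟨v, hv⟩, hv1⟩ := Subgroup.ne_bot_iff_exists_ne_one.1 hVb
      have hv1' : v ≠ 1 := fun e => hv1 (Subtype.ext e)
      have := hcomm c hcK v ((hV v).1 hv).1 hv1'
        (Subgroup.mem_centralizer_iff.1 hcC v hv).symm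
      rw [hVord v hv hv1'] at this
      rw [← map_pow, ← this, pow_orderOf_eq_one, map_one]
    haveI : C.Normal := Subgroup.normal_centralizer
    haveI hCn : (C.map π).Normal := (inferInstance : C.Normal).map π hπs
    refine (sylow_le_of_involution h2 (C.map π) hCp ht' (fun u => ?_) (fun z hz hzp => ?_) S).trans
      (CfsgLib.PCore.le_pCore hCn hCp)
    · obtain ⟨g, rfl⟩ := hπs u
      refine ⟨t * g * t⁻¹ * g⁻¹, Subgroup.mem_centralizer_iff.2 fun v hv => ?_, by simp [map_mul]⟩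
      have hti : ∀ w ∈ V, t⁻¹ * w * t = w⁻¹ := fun w hw => by
        have := congrArg (fun z => t⁻¹ * z⁻¹ * t) (htinv w hw)
        simpa [mul_assoc] using this.symm
      have hgv : g⁻¹ * v⁻¹ * g ∈ V := hVn.conj_mem' _ (inv_mem hv) g
      show v * (t * g * t⁻¹ * g⁻¹) = t * g * t⁻¹ * g⁻¹ * v
      calc v * (t * g * t⁻¹ * g⁻¹) = t * g * (g⁻¹ * (t⁻¹ * v * t) * g) * t⁻¹ * g⁻¹ := by group
        _ = t * g * (t⁻¹ * (g⁻¹ * v⁻¹ * g)⁻¹ * t) * t⁻¹ * g⁻¹ := by
            rw [hti v hv, hti _ (inv_mem hgv), inv_inv]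
        _ = _ := by group
    · obtain ⟨k, hk⟩ := hzp
      by_contra hz1
      obtain ⟨j, -, hj⟩ := (Nat.dvd_prime_pow hprime).1 (orderOf_dvd_of_pow_eq_one hk)
      have hcop : (orderOf (π t)).Coprime (orderOf z) := by
        rw [ht', hj]
        exact ((Nat.coprime_primes Nat.prime_two hprime).2 (Ne.symm h2)).pow_right j
      have hmul := hz.orderOf_mul_eq_mul_orderOf_of_coprime hcop
      rw [ht', hj] at hmul
      have hj0 : j ≠ 0 := fun e => hz1 (orderOf_eq_one_iff.1 (by rw [hj, e, pow_zero]))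
      have := hpX (π t * z) (hmul ▸ Dvd.dvd.mul_left (dvd_pow_self p hj0) 2)
      rw [hmul] at this
      have h4 : p ≤ p ^ j := Nat.le_self_pow hj0 p
      have h5 := hprime.pos
      omega
  have hSn : (S : Subgroup (G ⧸ K x)).Normal := hS ▸ inferInstance
  have hSb : (S : Subgroup (G ⧸ K x)) ≠ ⊥ :=
    S.ne_bot_of_dvd_card (hy₀o ▸ hord y₀ hy₀ ▸ orderOf_dvd_natCard _)
  have hSmem : ∀ z : G ⧸ K x, orderOf z = p → z ∈ (S : Subgroup (G ⧸ K x)) := fun z hz => by
    haveI : Unique (Sylow p (G ⧸ K x)) := Sylow.unique_of_normal S hSn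
    have hp' : IsPGroup p (Subgroup.zpowers z) := IsPGroup.of_card (n := 1) (by
      rw [Nat.card_zpowers, hz, pow_one])
    obtain ⟨T, hT⟩ := hp'.exists_le_sylow
    rw [Subsingleton.elim T S] at hT
    exact hT (Subgroup.mem_zpowers z)
  by_cases hX : IsPGroup p (G ⧸ K x)
  · refine Or.inr (Or.inl ⟨p, hprime, fun htop => P.proper x hx (top_le_iff.1 (htop ▸ ?_))⟩)
    refine (Subgroup.closure_le _).2 fun g hg => ?_
    by_contra hgK
    refine hg ?_
    have hd : p ∣ orderOf g := by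
      rw [← hord g hgK]
      obtain ⟨j, hj⟩ := IsPGroup.iff_orderOf.1 hX (π g)
      rcases j with _ | j
      · rw [pow_zero, orderOf_eq_one_iff, hπm] at hj
        exact absurd hj hgK
      · exact hj ▸ dvd_pow_self p j.succ_ne_zero
    rw [← hpo g hgK hd, pow_orderOf_eq_one]
  -- the member is a `p`-group
  obtain ⟨s, hs, hsp, hsd⟩ : ∃ s, s.Prime ∧ s ≠ p ∧ s ∣ Nat.card (G ⧸ K x) := by
    by_contra! hall
    refine hX (IsPGroup.of_card (n := (Nat.card (G ⧸ K x)).primeFactorsList.length) ?_)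
    refine Nat.eq_prime_pow_of_unique_prime_dvd Nat.card_pos.ne' fun {q} hq hqd => ?_
    by_contra hne
    exact hall q hq hne hqd
  haveI := Fact.mk hs
  have hKp : ∀ r, r.Prime → r ∣ Nat.card (K x) → r = p := by
    intro r hr hrd
    by_contra hrp
    haveI := Fact.mk hr
    obtain ⟨W, hWn, hWc, hW⟩ := exists_omega_center (K x) r
    haveI := hWn
    haveI := hWc
    obtain ⟨z, hzo, hzc⟩ := exists_central_of_nilpotent (h.isNilpotent x hx) (p := r) hrd
    obtain ⟨u, hu⟩ := exists_prime_orderOf_dvd_card' s hsd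
    have hSs : ¬ s ∣ Nat.card (S : Subgroup (G ⧸ K x)) := fun hd => by
      obtain ⟨j, hj⟩ := S.isPGroup'.exists_card_eq
      exact hsp ((Nat.prime_dvd_prime_iff_eq hs hprime).1 (hs.dvd_of_dvd_pow (hj ▸ hd)))
    have huS : u ∈ Subgroup.normalizer ((S : Subgroup (G ⧸ K x)) : Set (G ⧸ K x)) := by
      rw [Subgroup.normalizer_eq_top]; exact Subgroup.mem_top _
    have hw : ∀ w ∈ (S : Subgroup (G ⧸ K x)), (u * w) ^ s = 1 := by
      intro w hwS
      have hd := dvd_orderOf_coset hs hu huS hSs hwS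
      have hnp : ¬ p ∣ orderOf (u * w) := fun hd' => by
        rw [hpX _ hd'] at hd
        exact hsp ((Nat.prime_dvd_prime_iff_eq hs hprime).1 hd)
      obtain ⟨k, hk⟩ := S.isPGroup' ⟨_, pow_prime_mem_coset hu huS hwS⟩
      have hk' : ((u * w) ^ s) ^ p ^ k = 1 := congrArg Subtype.val hk
      rw [← pow_mul] at hk'
      have h1 := orderOf_dvd_of_pow_eq_one hk'
      have h2 : orderOf (u * w) ∣ s :=
        (((Nat.Prime.coprime_iff_not_dvd hprime).2 hnp).symm.pow_right k).dvd_of_dvd_mul_right h1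
      exact orderOf_dvd_iff_pow_eq_one.1 h2
    have hWb : W = ⊥ := by
      refine eq_bot_of_norm W π hπs (fun k hk v hv => (((hW v).1 hv).2.2 k ((hπm k).1 hk)).eq)
        (S : Subgroup (G ⧸ K x)) hs huS hw (fun w hwS => ?_) ?_ ?_
      · obtain ⟨g, hg⟩ := hπs (u * w)
        have hne : u * w ≠ 1 := fun e => by
          have := dvd_orderOf_coset hs hu huS hSs hwS
          rw [e, orderOf_one] at this
          exact hs.ne_one (Nat.dvd_one.1 this)
        refine ⟨g, hg, fun v hv => ?_⟩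
        have hvg : π (v * g) = u * w := by rw [map_mul, (hπm v).2 ((hW v).1 hv).1, one_mul, hg]
        refine hout _ (fun hm => hne (hvg.symm.trans ((hπm _).2 hm))) s ((hπm _).1 ?_)
        rw [map_pow, hvg, hw w hwS]
      · intro v hv hfix
        by_contra hv1
        obtain ⟨⟨w, hwS⟩, hw1⟩ := Subgroup.ne_bot_iff_exists_ne_one.1 hSb
        obtain ⟨g, rfl⟩ := hπs w
        have hgK : g ∉ K x := fun hm => hw1 (Subtype.ext ((hπm g).2 hm))
        have h1 := hcomm g hgK v ((hW v).1 hv).1 hv1 (hfix g hwS)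
        rw [orderOf_eq_prime ((hW v).1 hv).2.1 hv1] at h1
        obtain ⟨k, hk⟩ := S.isPGroup' ⟨π g, hwS⟩
        have h3 : orderOf (π g) ∣ p ^ k := orderOf_dvd_of_pow_eq_one (congrArg Subtype.val hk)
        rw [hord g hgK, h1] at h3
        exact hrp ((Nat.prime_dvd_prime_iff_eq hr hprime).1 (hr.dvd_of_dvd_pow h3))
      · obtain ⟨j, hj⟩ := S.isPGroup'.exists_card_eq
        have hWr : IsPGroup r W := fun v => ⟨1, Subtype.ext (by
          rw [pow_one, SubmonoidClass.coe_pow]; exact ((hW v).1 v.2).2.1)⟩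
        obtain ⟨i, hi⟩ := hWr.exists_card_eq
        rw [hj, hi]
        exact ((Nat.coprime_primes hprime hr).2 (Ne.symm hrp)).pow j i
    have : (z : G) ∈ W := (hW _).2 ⟨z.2, by
      rw [← SubmonoidClass.coe_pow, ← hzo, pow_orderOf_eq_one]; rfl,
      fun k hk => congrArg Subtype.val (hzc ⟨k, hk⟩).eq⟩
    rw [hWb, Subgroup.mem_bot, OneMemClass.coe_eq_one] at this
    exact ne_one_of_orderOf_prime hr hzo this
  -- a Frobenius group
  haveI := hSn
  set L := (S : Subgroup (G ⧸ K x)).comap π with hLdef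
  haveI : L.Normal := hSn.comap π
  have hKL : K x ≤ L := fun k hk => by
    rw [hLdef, Subgroup.mem_comap, (hπm k).2 hk]; exact one_mem _
  refine Or.inr (Or.inr (Or.inl (exists_frobenius_of_fpf L ?_ ?_ ?_)))
  · exact fun e => P.ne_bot hx (le_bot_iff.1 (e ▸ hKL))
  · intro e
    refine hX (IsPGroup.of_equiv ?_ Subgroup.topEquiv)
    have : (S : Subgroup (G ⧸ K x)) = ⊤ := by
      rw [← Subgroup.map_comap_eq_self_of_surjective hπs (S : Subgroup (G ⧸ K x)), ← hLdef, e,
        Subgroup.map_top_of_surjective _ hπs]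
    exact this ▸ S.isPGroup'
  intro y hy c hcL hc1 hyc
  have hyK : y ∉ K x := fun hm => hy (hKL hm)
  have hny : ¬ p ∣ orderOf y := fun hd => hy (hSmem _ ((hord y hyK).trans (hpo y hyK hd)))
  by_cases hcK : c ∈ K x
  · have h1 := hcomm y hyK c hcK hc1 hyc
    obtain ⟨r, hr, hrd⟩ := Nat.exists_prime_and_dvd (n := orderOf c) (fun e => hc1 (orderOf_eq_one_iff.1 e))
    rw [hKp r hr (hrd.trans (Subgroup.orderOf_dvd_natCard _ hcK)), ← h1] at hrd
    exact hny hrd
  obtain ⟨k, hk⟩ := S.isPGroup' ⟨π c, hcL⟩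
  have hcp : orderOf (π c) = p := by
    refine hpX _ ?_
    obtain ⟨j, -, hj⟩ := (Nat.dvd_prime_pow hprime).1
      (orderOf_dvd_of_pow_eq_one (congrArg Subtype.val hk : (π c) ^ p ^ k = 1))
    rcases j with _ | j
    · rw [pow_zero, orderOf_eq_one_iff, hπm] at hj
      exact absurd hj hcK
    · exact hj ▸ dvd_pow_self p j.succ_ne_zero
  have hcop : (orderOf (π y)).Coprime (orderOf (π c)) := by
    rw [hord y hyK, hcp]
    exact ((Nat.Prime.coprime_iff_not_dvd hprime).2 hny).symm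
  have hmul := (hyc.map π).orderOf_mul_eq_mul_orderOf_of_coprime hcop
  rw [hord y hyK, hcp] at hmul
  have := hpX _ (hmul ▸ Dvd.intro_left _ rfl)
  rw [hmul, Nat.mul_eq_right hprime.ne_zero] at this
  exact hy (hKL (by rw [orderOf_eq_one_iff] at this; rw [this]; exact one_mem _))

end CfsgLib.Partition
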