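import Mathlib
import Cfsg.Agent.Lib.Partition.Tools
import Cfsg.Agent.Lib.Partition.Module
import Cfsg.Agent.Lib.PF.OddOrder
import Cfsg.Agent.Lib.Solvable.EigenChain

/-!
# Partitioned groups with an elementary abelian normal subgroup meeting several members
-/

set_option autoImplicit false
set_option linter.style.haveILetI false

namespace CfsgLib.Partition

open scoped IsMulCommutative

universe u

variable {G : Type u} [Group G] [Finite G] {K : G → Subgroup G}

/-- an elementary abelian normal `q`-subgroup meeting at least two members -/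
structure Meets (K : G → Subgroup G) (N : Subgroup G) (q : ℕ) : Prop where
  normal : N.Normal
  comm : ∀ a ∈ N, ∀ b ∈ N, a * b = b * a
  pow_eq : ∀ a ∈ N, a ^ q = 1
  ne_bot : N ≠ ⊥
  not_le : ∀ x, x ≠ 1 → ¬ N ≤ K x

variable {N : Subgroup G} {q : ℕ} [hq : Fact q.Prime]

namespace Meets

variable (hN : Meets K N q) (h : Std K)
include hN

theorem ordN {m : G} (hm : m ∈ N) (hm1 : m ≠ 1) : orderOf m = q := orderOf_eq_prime (hN.pow_eq m hm) hm1

theorem isPGroup_N : IsPGroup q N := fun v => ⟨1, Subtype.ext (by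
  rw [pow_one, SubmonoidClass.coe_pow]; exact hN.pow_eq v v.2)⟩

theorem exists_mem : ∃ m ∈ N, m ≠ 1 := by
  obtain ⟨⟨m, hm⟩, hm1⟩ := Subgroup.ne_bot_iff_exists_ne_one.1 hN.ne_bot
  exact ⟨m, hm, fun e => hm1 (Subtype.ext e)⟩

include h

/-- the members meeting `N` are `q`-groups -/
theorem notMem_member {m g : G} (hm : m ∈ N) (hm1 : m ≠ 1) {r : ℕ} (hr : r.Prime) (hrq : r ≠ q)
    (hg : orderOf g = r) : g ∉ K m := by
  intro hgm
  have P := h.toIsPartition
  haveI := hN.normal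
  obtain ⟨m', hm'N, hm'⟩ := SetLike.not_le_iff_exists.1 (hN.not_le m hm1)
  have hm'nor := P.mem_normalizer_of_commute hm1 (hN.comm m' hm'N m hm)
  set e := g * m' * g⁻¹ * m'⁻¹ with he
  have he1 : e ∈ K m := by
    rw [he, show g * m' * g⁻¹ * m'⁻¹ = g * (m' * g⁻¹ * m'⁻¹) by group]
    exact mul_mem hgm ((Subgroup.mem_normalizer_iff.1 hm'nor _).1 (inv_mem hgm))
  have he2 : e ∈ N := mul_mem (hN.normal.conj_mem m' hm'N g) (inv_mem hm'N)
  have heg : Commute g e := CfsgLib.Solvable.EigenChain.commute_of_coprime (h.isNilpotent m hm1) hgm he1 hr hq.out hrq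
    ⟨1, by rw [pow_one, ← hg, pow_orderOf_eq_one]⟩ ⟨1, by rw [pow_one]; exact hN.pow_eq e he2⟩
  have key : ∀ i : ℕ, g ^ i * m' * (g ^ i)⁻¹ = e ^ i * m' := by
    intro i
    induction i with
    | zero => simp
    | succ i ih =>
      calc g ^ (i + 1) * m' * (g ^ (i + 1))⁻¹ = g * (g ^ i * m' * (g ^ i)⁻¹) * g⁻¹ := by
            rw [pow_succ']; group
        _ = g * e ^ i * g⁻¹ * (g * m' * g⁻¹) := by rw [ih]; group
        _ = e ^ i * (g * m' * g⁻¹) := by rw [(heg.pow_right i).eq, mul_inv_cancel_right]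
        _ = e ^ (i + 1) * m' := by rw [pow_succ, he]; group
  have her : e ^ r = 1 := by
    have := key r
    rw [← hg, pow_orderOf_eq_one, hg] at this
    simpa using this.symm
  have hee : e = 1 := by
    by_contra hne
    rw [← orderOf_dvd_iff_pow_eq_one, hN.ordN he2 hne] at her
    exact hrq ((Nat.prime_dvd_prime_iff_eq hq.out hr).1 her).symm
  have hc : Commute g m' := mul_inv_eq_iff_eq_mul.1 (mul_inv_eq_one.1 hee)
  have hm'1 : m' ≠ 1 := fun e' => hm' (by rw [e']; exact one_mem _)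
  have hg1 : g ≠ 1 := ne_one_of_orderOf_prime hr hg
  have := P.orderOf_eq_of_commute hg1 hm'1 hc (by rw [P.eq_of_mem m g hm1 hgm hg1]; exact hm')
  rw [hg, hN.ordN hm'N hm'1] at this
  exact hrq this

theorem not_commute {m g : G} (hm : m ∈ N) (hm1 : m ≠ 1) {r : ℕ} (hr : r.Prime) (hrq : r ≠ q)
    (hg : orderOf g = r) : ¬ Commute g m := fun hc =>
  hN.notMem_member h hm hm1 hr hrq hg (h.toIsPartition.mem_of_commute hm1 hc.symm
    (by rw [hN.ordN hm hm1, hg]; exact Ne.symm hrq))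

/-- every element is a `q`-element or a `q'`-element -/
theorem eq_of_dvd {y : G} (hd : q ∣ orderOf y) {r : ℕ} (hr : r.Prime) (hrd : r ∣ orderOf y) : r = q := by
  by_contra hrq
  have P := h.toIsPartition
  haveI := hN.normal
  set u := y ^ (orderOf y / q) with hu
  set w := y ^ (orderOf y / r) with hw
  have huo : orderOf u = q := exists_pow_orderOf_eq hq.out hd
  have hwo : orderOf w = r := exists_pow_orderOf_eq hr hrd
  have hu1 : u ≠ 1 := ne_one_of_orderOf_prime hq.out huo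
  have hw1 : w ≠ 1 := ne_one_of_orderOf_prime hr hwo
  have hKw : w ∈ K u := by
    rw [show K u = K y from P.eq_pow hu1, ← show K w = K y from P.eq_pow hw1]
    exact P.mem w hw1
  obtain ⟨m, hm, hm1, hum⟩ := exists_commute_of_isPGroup N hN.isPGroup_N hN.ne_bot
    (u := u) ⟨1, by rw [pow_one, ← huo, pow_orderOf_eq_one]⟩
  by_cases hmK : m ∈ K u
  · have := P.eq_of_mem u m hu1 hmK hm1
    exact hN.notMem_member h hm hm1 hr hrq hwo (this ▸ hKw)
  have hmn := P.mem_normalizer_of_commute hu1 hum.symm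
  set e := w * m * w⁻¹ * m⁻¹ with he
  have he1 : e ∈ K u := by
    rw [he, show w * m * w⁻¹ * m⁻¹ = w * (m * w⁻¹ * m⁻¹) by group]
    exact mul_mem hKw ((Subgroup.mem_normalizer_iff.1 hmn _).1 (inv_mem hKw))
  have he2 : e ∈ N := mul_mem (hN.normal.conj_mem m hm w) (inv_mem hm)
  by_cases hee : e = 1
  · exact hN.not_commute h hm hm1 hr hrq hwo (mul_inv_eq_iff_eq_mul.1 (mul_inv_eq_one.1 hee))
  · have := P.eq_of_mem u e hu1 he1 hee
    exact hN.notMem_member h he2 hee hr hrq hwo (this ▸ hKw)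

theorem not_commute_orders {a b : G} (hc : Commute a b) (hb : q ∣ orderOf b) (ha : ¬ q ∣ orderOf a)
    (ha1 : a ≠ 1) : False := by
  obtain ⟨r, hr, hrd⟩ := Nat.exists_prime_and_dvd (n := orderOf a) (fun e => ha1 (orderOf_eq_one_iff.1 e))
  have hrq : r ≠ q := fun e => ha (e ▸ hrd)
  set b' := b ^ (orderOf b / q)
  set a' := a ^ (orderOf a / r)
  have hb' : orderOf b' = q := exists_pow_orderOf_eq hq.out hb
  have ha' : orderOf a' = r := exists_pow_orderOf_eq hr hrd
  have hmul := ((hc.pow_left (orderOf a / r)).pow_right (orderOf b / q)).orderOf_mul_eq_mul_orderOf_of_coprime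
    (by rw [ha', hb']; exact (Nat.coprime_primes hr hq.out).2 hrq)
  rw [ha', hb'] at hmul
  exact hrq (hN.eq_of_dvd h (y := a' * b') (hmul ▸ Dvd.intro_left _ rfl) hr (hmul ▸ Dvd.intro _ rfl))

theorem isPGroup_centralizer : IsPGroup q (Subgroup.centralizer (N : Set G)) := by
  obtain ⟨m, hm, hm1⟩ := hN.exists_mem
  refine IsPGroup.of_card (n := (Nat.card (Subgroup.centralizer (N : Set G))).primeFactorsList.length) ?_
  refine Nat.eq_prime_pow_of_unique_prime_dvd Nat.card_pos.ne' fun {r} hr hrd => ?_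
  by_contra hrq
  haveI := Fact.mk hr
  obtain ⟨⟨g, hg⟩, hgo⟩ := exists_prime_orderOf_dvd_card' r hrd
  rw [Subgroup.orderOf_mk] at hgo
  exact hN.not_commute h hm hm1 hr hrq hgo (Subgroup.mem_centralizer_iff.1 hg m hm).symm

theorem coset_pow {u w : G} {Q : Subgroup G} (hu : orderOf u = q) (hQq : ¬ q ∣ Nat.card Q)
    (huQ : u ∈ Subgroup.normalizer (Q : Set G)) (hw : w ∈ Q) : (u * w) ^ q = 1 := by
  have hd := dvd_orderOf_coset hq.out hu huQ hQq hw
  by_contra hne
  have hm := pow_prime_mem_coset hu huQ hw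
  obtain ⟨r, hr, hrd⟩ := Nat.exists_prime_and_dvd (n := orderOf ((u * w) ^ q))
    (fun e => hne (orderOf_eq_one_iff.1 e))
  obtain rfl := hN.eq_of_dvd h hd hr (hrd.trans (orderOf_pow_dvd q))
  exact hQq (hrd.trans (Subgroup.orderOf_dvd_natCard Q hm))

theorem coset_notMem {u w : G} {Q : Subgroup G} (hu : orderOf u = q) (hQb : Q ≠ ⊥)
    (hQq : ¬ q ∣ Nat.card Q) (huQ : u ∈ Subgroup.normalizer (Q : Set G)) (hw : w ∈ Q) :
    u * w ∉ Subgroup.centralizer (N : Set G) := by
  intro hx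
  haveI := hN.normal
  haveI : (Subgroup.centralizer (N : Set G)).Normal := Subgroup.normal_centralizer
  obtain ⟨⟨w', hw'⟩, hw'1⟩ := Subgroup.ne_bot_iff_exists_ne_one.1 hQb
  set x := u * w with hxdef
  have hxQ : x ∈ Subgroup.normalizer (Q : Set G) := mul_mem huQ (Subgroup.le_normalizer hw)
  set e := x * w' * x⁻¹ * w'⁻¹ with he
  have he1 : e ∈ Q := mul_mem ((Subgroup.mem_normalizer_iff.1 hxQ w').1 hw') (inv_mem hw')
  have he2 : e ∈ Subgroup.centralizer (N : Set G) := by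
    rw [he, show x * w' * x⁻¹ * w'⁻¹ = x * (w' * x⁻¹ * w'⁻¹) by group]
    exact mul_mem hx ((inferInstance : (Subgroup.centralizer (N : Set G)).Normal).conj_mem _
      (inv_mem hx) w')
  have hee : e = 1 := by
    obtain ⟨k, hk⟩ := hN.isPGroup_centralizer h ⟨e, he2⟩
    have h1 : orderOf e ∣ q ^ k := orderOf_dvd_of_pow_eq_one (congrArg Subtype.val hk)
    have h2 := Subgroup.orderOf_dvd_natCard Q he1
    have hcop : (q ^ k).Coprime (Nat.card Q) := ((Nat.Prime.coprime_iff_not_dvd hq.out).2 hQq).pow_left k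
    exact orderOf_eq_one_iff.1 (Nat.eq_one_of_dvd_coprimes hcop h1 h2)
  exact hN.not_commute_orders h (a := w') (b := x) (mul_inv_eq_iff_eq_mul.1 (mul_inv_eq_one.1 hee)).symm
    (dvd_orderOf_coset hq.out hu huQ hQq hw)
    (fun hd => hQq (hd.trans (Subgroup.orderOf_dvd_natCard Q hw'))) (fun e' => hw'1 (Subtype.ext e'))

omit h in
theorem pow_mem_N {v x : G} (hv : v ∈ N) (hx : x ^ q = 1) : (v * x) ^ q ∈ N := by
  haveI := hN.normal
  rw [← QuotientGroup.eq_one_iff, QuotientGroup.mk_pow, QuotientGroup.mk_mul,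
    (QuotientGroup.eq_one_iff v).2 hv, one_mul, ← QuotientGroup.mk_pow, hx, QuotientGroup.mk_one]

omit h in
theorem pow_mul {v v' x : G} (hv : v ∈ N) (hv' : v' ∈ N) (hx : x ^ q = 1) :
    (v * v' * x) ^ q = (v * x) ^ q * (v' * x) ^ q := by
  haveI := hN.normal
  haveI : IsMulCommutative N := ⟨⟨fun a b => Subtype.ext (hN.comm a a.2 b b.2)⟩⟩
  have key : ∀ n, ∀ hn : n ∈ N, (n * x) ^ q = ((Additive.toMul ((∑ i ∈ Finset.range q,
      CfsgLib.HughesThompson.conjEnd N x ^ i) (Additive.ofMul (⟨n, hn⟩ : N))) : N) : G) :=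
    fun n hn => by
      refine Eq.symm ((CfsgLib.HughesThompson.sum_conj_eq N x _ q).trans ?_)
      rw [hx, inv_one, mul_one]; rfl
  rw [key _ (mul_mem hv hv'), key _ hv, key _ hv', ← Subgroup.coe_mul, ← toMul_add, ← map_add]
  rfl

/-- the data of an element `v x` with nontrivial `q`-th power -/
theorem kernel_le {v x : G} (hv : v ∈ N) (hx : x ^ q = 1) (hxC : x ∉ Subgroup.centralizer (N : Set G))
    (hvx : (v * x) ^ q ≠ 1) {v' : G} (hv' : v' ∈ N) (hvx' : (v' * x) ^ q ≠ 1) :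
    v' * v⁻¹ ∈ K ((v * x) ^ q) := by
  have P := h.toIsPartition
  have hmN := hN.pow_mem_N hv hx
  have hmN' := hN.pow_mem_N hv' hx
  haveI := hN.normal
  -- commutators with `x`
  have hcom : ∀ {a : G}, a ∈ N → (a * x) ^ q ≠ 1 → ∀ n ∈ N, n * x * n⁻¹ * x⁻¹ ∈ K ((a * x) ^ q) := by
    intro a ha hax n hn
    have hax1 : a * x ∈ K ((a * x) ^ q) := by
      rw [P.eq_pow hax]; exact P.mem _ fun e => hax (by rw [e, one_pow])
    have hnn := P.mem_normalizer_of_commute hax (hN.comm n hn _ (hN.pow_mem_N ha hx))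
    have := mul_mem ((Subgroup.mem_normalizer_iff.1 hnn _).1 hax1) (inv_mem hax1)
    have e : n * (a * x) * n⁻¹ * (a * x)⁻¹ = a * (n * x * n⁻¹ * x⁻¹) * a⁻¹ := by
      rw [show n * (a * x) * n⁻¹ * (a * x)⁻¹ = (n * a) * (x * n⁻¹ * x⁻¹) * a⁻¹ by group, hN.comm n hn a ha]
      group
    have hcN : n * x * n⁻¹ * x⁻¹ ∈ N := by
      rw [show n * x * n⁻¹ * x⁻¹ = n * (x * n⁻¹ * x⁻¹) by group]
      exact mul_mem hn (hN.normal.conj_mem _ (inv_mem hn) x)
    rwa [e, hN.comm a ha _ hcN, mul_inv_cancel_right] at this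
  obtain ⟨n, hn, hne⟩ : ∃ n ∈ N, n * x * n⁻¹ * x⁻¹ ≠ 1 := by
    by_contra! hall
    exact hxC (Subgroup.mem_centralizer_iff.2 fun n hn =>
      mul_inv_eq_iff_eq_mul.1 (mul_inv_eq_one.1 (hall n hn)))
  have e1 := P.eq_of_mem _ _ hvx (hcom hv hvx n hn) hne
  have e2 := P.eq_of_mem _ _ hvx' (hcom hv' hvx' n hn) hne
  have h1 : v * x ∈ K ((v * x) ^ q) := by rw [P.eq_pow hvx]; exact P.mem _ fun e => hvx (by rw [e, one_pow])
  have h2 : v' * x ∈ K ((v * x) ^ q) := by
    rw [← e1, e2, P.eq_pow hvx']; exact P.mem _ fun e => hvx' (by rw [e, one_pow])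
  simpa [mul_assoc] using mul_mem h2 (inv_mem h1)

theorem two_and_four {u : G} {Q : Subgroup G} (hu : orderOf u = q) (hQb : Q ≠ ⊥)
    (hQq : ¬ q ∣ Nat.card Q) (huQ : u ∈ Subgroup.normalizer (Q : Set G)) :
    q = 2 ∧ Nat.card N = 4 := by
  classical
  haveI := hN.normal
  have hP := h.toIsPartition
  haveI : IsMulCommutative N := ⟨⟨fun a b => Subtype.ext (hN.comm a a.2 b b.2)⟩⟩
  -- some element of the coset has nontrivial norm
  obtain ⟨w, hw, v, hv, hvx⟩ : ∃ w ∈ Q, ∃ v ∈ N, (v * (u * w)) ^ q ≠ 1 := by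
    by_contra! hall
    refine hN.ne_bot (eq_bot_of_norm N (MonoidHom.id G) Function.surjective_id (fun k hk v _ => ?_) Q
      hq.out huQ (fun w hw => hN.coset_pow h hu hQq huQ hw) (fun w hw => ⟨_, rfl, hall w hw⟩) ?_ ?_)
    · rw [show k = 1 from hk]; simp
    · intro v hv hfix
      by_contra hv1
      obtain ⟨⟨w, hw⟩, hw1⟩ := Subgroup.ne_bot_iff_exists_ne_one.1 hQb
      exact hN.not_commute_orders h (a := w) (b := v) (hfix w hw) (by rw [hN.ordN hv hv1])
        (fun hd => hQq (hd.trans (Subgroup.orderOf_dvd_natCard Q hw))) (fun e => hw1 (Subtype.ext e))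
    · obtain ⟨j, hj⟩ := hN.isPGroup_N.exists_card_eq
      rw [hj]
      exact ((Nat.Prime.coprime_iff_not_dvd hq.out).2 hQq).symm.pow_right j
  -- the exponent is two
  have hq2 : q = 2 := by
    by_contra hq2
    set x := u * w
    have hx : x ^ q = 1 := hN.coset_pow h hu hQq huQ hw
    have hxC := hN.coset_notMem h hu hQb hQq huQ hw
    have hA := fun v' (hv' : v' ∈ N) hvx' => hN.kernel_le h hv hx hxC hvx (v' := v') hv' hvx'
    have hB : ∀ b ∈ N, (b * x) ^ q = 1 → b ∈ K ((v * x) ^ q) := fun b hb hb1 => by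
      have := hA (b * v) (mul_mem hb hv) (by rw [hN.pow_mul hb hv hx, hb1, one_mul]; exact hvx)
      rwa [mul_inv_cancel_right] at this
    have hvA : v ∈ K ((v * x) ^ q) := by
      have hsq : ((v * x) ^ q) ^ 2 ≠ 1 := fun e => hq2 (by
        have := orderOf_dvd_of_pow_eq_one e
        rw [hN.ordN (hN.pow_mem_N hv hx) hvx] at this
        exact (Nat.prime_dvd_prime_iff_eq hq.out Nat.prime_two).1 this)
      have := hA (v * v) (mul_mem hv hv) (by rwa [hN.pow_mul hv hv hx, ← sq])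
      rwa [mul_inv_cancel_right] at this
    refine hN.not_le _ hvx fun n hn => ?_
    by_cases hnx : (n * x) ^ q = 1
    · exact hB n hn hnx
    · simpa using mul_mem (hA n hn hnx) hvA
  refine ⟨hq2, ?_⟩
  subst hq2
  -- for an exponent two: every element of the coset acts as a transvection
  have htv : ∀ w ∈ Q, ∀ n ∈ N, ∀ n' ∈ N, ¬ Commute n (u * w) → ¬ Commute n' (u * w) →
      Commute (n' * n⁻¹) (u * w) := by
    intro w hw n hn n' hn' hnc hnc'
    set x := u * w
    have hx : x ^ 2 = 1 := hN.coset_pow h hu hQq huQ hw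
    have hxC := hN.coset_notMem h hu hQb hQq huQ hw
    have key : ∀ a ∈ N, (a * x) ^ 2 = 1 ↔ Commute a x := fun a ha => by
      have ha1 : a⁻¹ = a := inv_eq_of_mul_eq_one_right (by rw [← sq]; exact hN.pow_eq a ha)
      have hx1 : x⁻¹ = x := inv_eq_of_mul_eq_one_right (by rw [← sq]; exact hx)
      rw [sq, mul_eq_one_iff_eq_inv, mul_inv_rev, ha1, hx1]
      exact ⟨fun e => e, fun e => e⟩
    have hvx : (n * x) ^ 2 ≠ 1 := fun e => hnc ((key n hn).1 e)
    by_contra hcon
    have hA := fun v' (hv' : v' ∈ N) hvx' => hN.kernel_le h hn hx hxC hvx (v' := v') hv' hvx'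
    have hne : ((n' * n⁻¹) * x) ^ 2 ≠ 1 := fun e => hcon ((key _ (mul_mem hn' (inv_mem hn))).1 e)
    have h1 := hA n' hn' fun e => hnc' ((key n' hn').1 e)
    have h2 := hA _ (mul_mem hn' (inv_mem hn)) hne
    have h3 : n ∈ K ((n * x) ^ 2) := by
      have := mul_mem (inv_mem h2) h1
      rwa [show (n' * n⁻¹ * n⁻¹)⁻¹ * (n' * n⁻¹) = n by group] at this
    refine hN.not_le _ hvx fun a ha => ?_
    by_cases hax : (a * x) ^ 2 = 1
    · have := hA (a * n) (mul_mem ha hn) (by rw [hN.pow_mul ha hn hx, hax, one_mul]; exact hvx)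
      rwa [mul_inv_cancel_right] at this
    · simpa using mul_mem (hA a ha hax) h3
  obtain ⟨⟨w₀, hw₀⟩, hw₀1⟩ := Subgroup.ne_bot_iff_exists_ne_one.1 hQb
  let φ : N → Bool × Bool := fun n => (decide (Commute (n : G) u), decide (Commute (n : G) (u * w₀)))
  have hφ : Function.Injective φ := by
    intro a b hab
    simp only [φ, Prod.mk.injEq, decide_eq_decide] at hab
    have c1 : Commute ((b : G) * (a : G)⁻¹) u := by
      by_cases ha : Commute (a : G) u
      · exact (hab.1.1 ha).mul_left ha.inv_left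
      · have := htv 1 (one_mem _) a a.2 b b.2 (by rwa [mul_one]) (by rw [mul_one]; exact fun e => ha (hab.1.2 e))
        rwa [mul_one] at this
    have c2 : Commute ((b : G) * (a : G)⁻¹) (u * w₀) := by
      by_cases ha : Commute (a : G) (u * w₀)
      · exact (hab.2.1 ha).mul_left ha.inv_left
      · exact htv w₀ hw₀ a a.2 b b.2 ha fun e => ha (hab.2.2 e)
    have c3 : Commute w₀ ((b : G) * (a : G)⁻¹) := by
      have := (c1.inv_right.mul_right c2).symm
      rwa [inv_mul_cancel_left] at this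
    by_contra hne
    have hne' : (b : G) * (a : G)⁻¹ ≠ 1 := fun e => hne (Subtype.ext (mul_inv_eq_one.1 e).symm)
    exact hN.not_commute_orders h (a := w₀) c3
      (by rw [hN.ordN (mul_mem b.2 (inv_mem a.2)) hne'])
      (fun hd => hQq (hd.trans (Subgroup.orderOf_dvd_natCard Q hw₀))) (fun e => hw₀1 (Subtype.ext e))
  have hle : Nat.card N ≤ 4 := (Nat.card_le_card_of_injective φ hφ).trans (by simp)
  obtain ⟨j, hj⟩ := hN.isPGroup_N.exists_card_eq
  obtain ⟨m, hm, hm1⟩ := hN.exists_mem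
  obtain ⟨m', hm'N, hm'⟩ := SetLike.not_le_iff_exists.1 (hN.not_le m hm1)
  have h3 : 3 ≤ Nat.card N := by
    have hm'1 : m' ≠ 1 := fun e => hm' (by rw [e]; exact one_mem _)
    have hmm : m ≠ m' := fun e => hm' (e ▸ hP.mem m hm1)
    haveI := Fintype.ofFinite N
    rw [Nat.card_eq_fintype_card]
    refine le_of_eq_of_le (b := ({1, ⟨m, hm⟩, ⟨m', hm'N⟩} : Finset N).card) ?_ (Finset.card_le_univ _)
    rw [Finset.card_insert_of_notMem, Finset.card_pair]
    · simpa [Subtype.ext_iff] using hmm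
    · simpa [Subtype.ext_iff] using ⟨Ne.symm hm1, Ne.symm hm'1⟩
  rw [hj] at hle h3 ⊢
  rcases j with _ | _ | _ | j
  · simp at h3
  · simp at h3
  · norm_num
  · have : 2 ^ 3 ≤ 2 ^ (j + 1 + 1 + 1) := Nat.pow_le_pow_right (by norm_num) (by omega)
    omega

end Meets

end CfsgLib.Partition
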