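import Mathlib
import Cfsg.Agent.Lib.Partition.NormalInside
import Cfsg.Agent.Lib.Partition.NormalMeets

/-!
# Partitioned groups with an abelian normal subgroup

The symmetric group of degree four, Frobenius groups, and groups of Hughes–Thompson type.
-/

set_option autoImplicit false
set_option linter.style.haveILetI false
set_option linter.unusedSectionVars false

namespace CfsgLib.Partition

universe u

variable {G : Type u} [Group G] [Finite G] {K : G → Subgroup G}

namespace Meets

variable {N : Subgroup G} {q : ℕ} [hq : Fact q.Prime]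

/-- a group of order 24 of this kind is the symmetric group of degree four -/
theorem iso_perm_four [hf : Fact (Nat.Prime 3)] (hN : Meets K N 2) (h : Std K) [Fact (Nat.Prime 2)]
    (hCN : Subgroup.centralizer (N : Set G) = N) (hcard : Nat.card N = 4) (hG : Nat.card G = 24) :
    Nonempty (G ≃* Equiv.Perm (Fin 4)) := by
  classical
  haveI := hN.normal
  obtain ⟨R⟩ : Nonempty (Sylow 3 G) := inferInstance
  have hR3 : Nat.card (R : Subgroup G) = 3 := by
    rw [R.card_eq_multiplicity, hG]
    have : (24 : ℕ).factorization 3 = 1 := by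
      rw [show (24 : ℕ) = 3 ^ 1 * 8 by norm_num, Nat.factorization_mul (by norm_num) (by norm_num),
        Finsupp.add_apply, Nat.Prime.factorization_pow Nat.prime_three, Finsupp.single_eq_same,
        Nat.factorization_eq_zero_of_not_dvd (by norm_num)]
    rw [this, pow_one]
  have hdis : ∀ r ∈ (R : Subgroup G), r ∈ N → r = 1 := fun r hr hrN => by
    have h1 := Subgroup.orderOf_dvd_natCard _ hr
    have h2 := Subgroup.orderOf_dvd_natCard _ hrN
    rw [hR3] at h1
    rw [hcard] at h2
    exact orderOf_eq_one_iff.1 (Nat.eq_one_of_dvd_coprimes (by norm_num : Nat.Coprime 3 4) h1 h2)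
  have hfix : ∀ n ∈ N, n ∈ Subgroup.normalizer ((R : Subgroup G) : Set G) → n = 1 := by
    intro n hn hnR
    by_contra hn1
    obtain ⟨r, hr⟩ := exists_prime_orderOf_dvd_card' (G := (R : Subgroup G)) 3 (dvd_of_eq hR3.symm)
    rw [← Subgroup.orderOf_coe] at hr
    have he : n * r * n⁻¹ * (r : G)⁻¹ = 1 := hdis _
      (mul_mem ((Subgroup.mem_normalizer_iff.1 hnR r).1 r.2) (inv_mem r.2)) (by
        rw [show n * r * n⁻¹ * (r : G)⁻¹ = n * ((r : G) * n⁻¹ * (r : G)⁻¹) by group]
        exact mul_mem hn (hN.normal.conj_mem _ (inv_mem hn) r))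
    exact hN.not_commute h hn hn1 Nat.prime_three (by norm_num) hr
      (mul_inv_eq_iff_eq_mul.1 (mul_inv_eq_one.1 he)).symm
  have hSyl : Nat.card (Sylow 3 G) = 4 := by
    have h1 := R.card_dvd_index
    have h2 := card_sylow_modEq_one 3 G
    have h3 : (R : Subgroup G).index = 8 := by
      have := (R : Subgroup G).card_mul_index
      rw [hR3, hG] at this
      omega
    rw [h3] at h1
    have h4 : Nat.card (Sylow 3 G) ≤ 8 := Nat.le_of_dvd (by norm_num) h1
    have h5 : Nat.card (Sylow 3 G) ≠ 1 := fun e => by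
      have htop : Subgroup.normalizer ((R : Subgroup G) : Set G) = ⊤ := by
        exact Subgroup.index_eq_one.1 ((R.card_eq_index_normalizer).symm.trans e)
      obtain ⟨m, hm, hm1⟩ := hN.exists_mem
      exact hm1 (hfix m hm (htop ▸ Subgroup.mem_top m))
    unfold Nat.ModEq at h2
    interval_cases (Nat.card (Sylow 3 G)) <;> omega
  have hinj : Function.Injective (MulAction.toPermHom G (Sylow 3 G)) := by
    rw [← MonoidHom.ker_eq_bot_iff, Subgroup.eq_bot_iff_forall]
    set k0 := (MulAction.toPermHom G (Sylow 3 G)).ker with hk0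
    have hkN : ∀ k ∈ k0, k ∈ N → k = 1 := fun k hk hkN => hfix k hkN <| by
      have := congrArg (fun σ : Equiv.Perm (Sylow 3 G) => σ R) (MonoidHom.mem_ker.1 hk)
      exact Sylow.smul_eq_iff_mem_normalizer.1 (by simpa using this)
    intro k hk
    refine hkN k hk (hCN ▸ Subgroup.mem_centralizer_iff.2 fun n hn => ?_)
    have he : n * k * n⁻¹ * k⁻¹ = 1 := hkN _
      (mul_mem ((MonoidHom.normal_ker _).conj_mem k hk n) (inv_mem hk)) (by
        rw [show n * k * n⁻¹ * k⁻¹ = n * (k * n⁻¹ * k⁻¹) by group]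
        exact mul_mem hn (hN.normal.conj_mem _ (inv_mem hn) k))
    exact mul_inv_eq_iff_eq_mul.1 (mul_inv_eq_one.1 he)
  haveI := Fintype.ofFinite (Sylow 3 G)
  have e4 : Sylow 3 G ≃ Fin 4 := Fintype.equivFinOfCardEq (by rw [← Nat.card_eq_fintype_card, hSyl])
  refine ⟨(MulEquiv.ofBijective _ (hinj.bijective_of_nat_card_le ?_)).trans e4.permCongrHom⟩
  rw [Nat.card_perm, hSyl, hG]
  decide

theorem concl (hN : Meets K N q) (h : Std K) (hG : ¬ IsPGroup q G) : Concl G := by
  classical
  haveI := hN.normal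
  by_cases hp : HasPair G q
  · obtain ⟨u, Q, hu, hQb, hQq, huQ⟩ := hp
    obtain ⟨rfl, hcard⟩ := hN.two_and_four h hu hQb hQq huQ
    refine Or.inl ?_
    haveI : Fact (Nat.Prime 3) := ⟨Nat.prime_three⟩
    set C := Subgroup.centralizer (N : Set G) with hC
    haveI : C.Normal := Subgroup.normal_centralizer
    have hNC : N ≤ C := fun n hn => Subgroup.mem_centralizer_iff.2 fun m hm => hN.comm m hm n hn
    have hexp : ∀ c ∈ C, c ^ 2 = 1 := by
      intro c hc
      by_contra hne
      have hc1 : c ≠ 1 := fun e => hne (by rw [e, one_pow])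
      refine hN.not_le c hc1 fun n hn => ?_
      refine h.toIsPartition.mem_of_commute hc1 (Subgroup.mem_centralizer_iff.1 hc n hn).symm fun e => hne ?_
      by_cases hn1 : n = 1
      · rw [hn1, orderOf_one, orderOf_eq_one_iff] at e
        exact absurd e hc1
      · rw [hN.ordN hn hn1] at e
        rw [← e, pow_orderOf_eq_one]
    have hcomm : ∀ a ∈ C, ∀ b ∈ C, a * b = b * a := fun a ha b hb => by
      have h1 : ∀ x ∈ C, x⁻¹ = x := fun x hx =>
        inv_eq_of_mul_eq_one_right (by rw [← sq]; exact hexp x hx)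
      have := h1 _ (mul_mem ha hb)
      rwa [mul_inv_rev, h1 a ha, h1 b hb, eq_comm] at this
    have hM : Meets K C 2 := ⟨inferInstance, hcomm, hexp, fun e => hN.ne_bot (le_bot_iff.1 (e ▸ hNC)),
      fun x hx hle => hN.not_le x hx (hNC.trans hle)⟩
    obtain ⟨-, hCcard⟩ := hM.two_and_four h hu hQb hQq huQ
    have hCN : C = N := (Subgroup.eq_of_le_of_card_ge hNC (by omega)).symm
    refine iso_perm_four hN h hCN hcard ?_
    -- the order of the group
    let X := {n : N // n ≠ 1}
    letI act : MulAction G X :=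
      { smul := fun g n => ⟨MulAut.conjNormal g n.1, fun e => n.2 ((MulEquiv.map_eq_one_iff _).1 e)⟩
        one_smul := fun n => Subtype.ext (by
          show MulAut.conjNormal (1 : G) n.1 = n.1
          simp)
        mul_smul := fun g g' n => Subtype.ext (by
          show MulAut.conjNormal (g * g') n.1 = MulAut.conjNormal g (MulAut.conjNormal g' n.1)
          rw [map_mul, MulAut.mul_apply]) }
    set φ := MulAction.toPermHom G X
    have hker : φ.ker = C := by
      ext g
      rw [MonoidHom.mem_ker, hC, Subgroup.mem_centralizer_iff]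
      constructor
      · intro hg n hn
        by_cases hn1 : n = 1
        · rw [hn1, one_mul, mul_one]
        have := congrArg (fun σ : Equiv.Perm X => ((σ ⟨⟨n, hn⟩, fun e => hn1 (congrArg Subtype.val e)⟩).1 : G)) hg
        exact (mul_inv_eq_iff_eq_mul.1 this).symm
      · intro hg
        refine Equiv.ext fun n => Subtype.ext (Subtype.ext ?_)
        show g * (n.1 : G) * g⁻¹ = n.1
        rw [← hg _ n.1.2, mul_inv_cancel_right]
    haveI := Fintype.ofFinite X
    have hX : Nat.card X = 3 := by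
      haveI := Fintype.ofFinite N
      rw [Nat.card_eq_fintype_card, Fintype.card_subtype_compl, Fintype.card_subtype_eq,
        ← Nat.card_eq_fintype_card, hcard]
    have hd6 : Nat.card φ.range ∣ 6 := by
      have := Subgroup.card_subgroup_dvd_card φ.range
      rwa [Nat.card_perm, hX] at this
    have hGc : Nat.card G = 4 * Nat.card φ.range := by
      rw [← C.card_mul_index, hCcard, ← hker, Subgroup.index_ker]
    have hu' : φ u ≠ 1 := fun e => by
      have := hN.coset_notMem h hu hQb hQq huQ (one_mem Q)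
      rw [mul_one, ← hC, ← hker] at this
      exact this e
    have h2 : 2 ∣ Nat.card φ.range := by
      refine Dvd.dvd.trans (dvd_of_eq ?_) (Subgroup.orderOf_dvd_natCard φ.range ⟨u, rfl⟩)
      exact (orderOf_eq_prime (by rw [← map_pow, ← hu, pow_orderOf_eq_one, map_one]) hu').symm
    obtain ⟨r, hr, hr2, hrd⟩ := exists_prime_ne_of_dvd (q := 2) (fun e => hQb (Subgroup.card_eq_one.1 e)) hQq
    have hr3 : r ∣ Nat.card φ.range := by
      have := hrd.trans (Subgroup.card_subgroup_dvd_card Q)
      rw [hGc] at this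
      rcases (Nat.Prime.dvd_mul hr).1 this with h4 | h4
      · exact absurd ((Nat.prime_dvd_prime_iff_eq hr Nat.prime_two).1
          (hr.dvd_of_dvd_pow (show r ∣ 2 ^ 2 from h4))) hr2
      · exact h4
    obtain rfl : r = 3 := by
      have := hr3.trans hd6
      rcases (Nat.Prime.dvd_mul hr).1 (show r ∣ 2 * 3 from this) with h4 | h4
      · exact absurd ((Nat.prime_dvd_prime_iff_eq hr Nat.prime_two).1 h4) hr2
      · exact (Nat.prime_dvd_prime_iff_eq hr Nat.prime_three).1 h4
    have h6 : 6 ∣ Nat.card φ.range := Nat.Coprime.mul_dvd_of_dvd_of_dvd (by norm_num : Nat.Coprime 2 3) h2 hr3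
    rw [hGc, Nat.dvd_antisymm hd6 h6]
  -- otherwise a Sylow subgroup is normal
  obtain ⟨S⟩ : Nonempty (Sylow q G) := inferInstance
  have hS : (S : Subgroup G) = Cfsg.pCore q G := by
    by_cases h2 : q = 2
    · subst h2; exact sylow_le_pCore_two hp S
    by_cases hs : Group.IsSolvable G
    · exact sylow_le_pCore_of_solvable hs hp S
    refine le_antisymm ?_ (CfsgLib.PCore.pCore_le_sylow S)
    have hev : 2 ∣ Nat.card G := by
      by_contra hnd
      exact hs (CfsgLib.PF.oddSolvable _ (Nat.odd_iff.2 (Nat.two_dvd_ne_zero.1 hnd)))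
    haveI : Fact (Nat.Prime 2) := ⟨Nat.prime_two⟩
    obtain ⟨t, ht⟩ := exists_prime_orderOf_dvd_card' 2 hev
    have htinv : ∀ v ∈ N, t * v * t⁻¹ = v⁻¹ := fun v hv => inverts_of_fpf N hN.comm ht
      (fun w hw hwc => by
        by_contra hw1
        exact hN.not_commute h hw hw1 Nat.prime_two (Ne.symm h2) ht hwc) hv
    haveI : (Subgroup.centralizer (N : Set G)).Normal := Subgroup.normal_centralizer
    refine (sylow_le_of_involution h2 _ (hN.isPGroup_centralizer h) ht (fun g => ?_) (fun z hz hzp => ?_) S).trans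
      (CfsgLib.PCore.le_pCore inferInstance (hN.isPGroup_centralizer h))
    · refine Subgroup.mem_centralizer_iff.2 fun v hv => ?_
      have hti : ∀ w ∈ N, t⁻¹ * w * t = w⁻¹ := fun w hw => by
        have := congrArg (fun z => t⁻¹ * z⁻¹ * t) (htinv w hw)
        simpa [mul_assoc] using this.symm
      have hgv : g⁻¹ * v⁻¹ * g ∈ N := hN.normal.conj_mem' _ (inv_mem hv) g
      show v * (t * g * t⁻¹ * g⁻¹) = t * g * t⁻¹ * g⁻¹ * v
      calc v * (t * g * t⁻¹ * g⁻¹) = t * g * (g⁻¹ * (t⁻¹ * v * t) * g) * t⁻¹ * g⁻¹ := by group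
        _ = t * g * (t⁻¹ * (g⁻¹ * v⁻¹ * g)⁻¹ * t) * t⁻¹ * g⁻¹ := by
            rw [hti v hv, hti _ (inv_mem hgv), inv_inv]
        _ = _ := by group
    · obtain ⟨k, hk⟩ := hzp
      by_contra hz1
      obtain ⟨j, -, hj⟩ := (Nat.dvd_prime_pow hq.out).1 (orderOf_dvd_of_pow_eq_one hk)
      rcases j with _ | j
      · rw [pow_zero, orderOf_eq_one_iff] at hj
        exact hz1 hj
      exact hN.not_commute_orders h (a := t) (b := z) hz (hj ▸ dvd_pow_self q j.succ_ne_zero)
        (fun hd => h2 (by rw [ht] at hd; exact (Nat.prime_dvd_prime_iff_eq hq.out Nat.prime_two).1 hd))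
        (fun e => by rw [e, orderOf_one] at ht; omega)
  have hmem : ∀ y : G, q ∣ orderOf y → y ∈ Cfsg.pCore q G := fun y hd => by
    haveI : Unique (Sylow q G) := Sylow.unique_of_normal S (hS ▸ inferInstance)
    have hp' : IsPGroup q (Subgroup.zpowers y) := by
      refine IsPGroup.of_card (n := (orderOf y).primeFactorsList.length) ?_
      rw [Nat.card_zpowers]
      exact Nat.eq_prime_pow_of_unique_prime_dvd (isOfFinOrder_of_finite y).orderOf_pos.ne'
        fun {r} hr hrd => hN.eq_of_dvd h hd hr hrd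
    obtain ⟨T, hT⟩ := hp'.exists_le_sylow
    rw [Subsingleton.elim T S] at hT
    exact hS ▸ hT (Subgroup.mem_zpowers y)
  refine Or.inr (Or.inr (Or.inl (exists_frobenius_of_fpf (Cfsg.pCore q G) ?_ ?_ fun y hy c hc hc1 hyc => ?_)))
  · exact fun e => hN.ne_bot (le_bot_iff.1 (e ▸ CfsgLib.PCore.le_pCore hN.normal hN.isPGroup_N))
  · intro e
    exact hG (IsPGroup.of_equiv (e ▸ CfsgLib.PCore.pCore_isPGroup) Subgroup.topEquiv)
  · obtain ⟨k, hk⟩ := CfsgLib.PCore.pCore_isPGroup (p := q) (G := G) ⟨c, hc⟩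
    obtain ⟨j, -, hj⟩ := (Nat.dvd_prime_pow hq.out).1
      (orderOf_dvd_of_pow_eq_one (congrArg Subtype.val hk : c ^ q ^ k = 1))
    rcases j with _ | j
    · rw [pow_zero, orderOf_eq_one_iff] at hj
      exact hc1 hj
    exact hN.not_commute_orders h (a := y) (b := c) hyc (hj ▸ dvd_pow_self q j.succ_ne_zero)
      (fun hd => hy (hmem y hd)) (fun e => hy (by rw [e]; exact one_mem _))

end Meets

/-- Partitioned groups with an abelian normal subgroup. -/
theorem Std.concl_of_abelian_normal (h : Std K) [Nontrivial G] (A : Subgroup G) (hAn : A.Normal)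
    (hAb : A ≠ ⊥) (hA : ∀ a ∈ A, ∀ b ∈ A, a * b = b * a) : Concl G := by
  obtain ⟨q, hq, hqd⟩ := Nat.exists_prime_and_dvd (n := Nat.card A) fun e => hAb (Subgroup.card_eq_one.1 e)
  haveI := Fact.mk hq
  by_cases hG : IsPGroup q G
  · exact Or.inr (Or.inl ⟨q, hq, h.toIsPartition.hughes_of_isPGroup hG⟩)
  let N : Subgroup G :=
    { carrier := {b | b ∈ A ∧ b ^ q = 1}
      one_mem' := ⟨one_mem _, one_pow _⟩
      mul_mem' := fun {a b} ha hb => ⟨mul_mem ha.1 hb.1, by
        rw [(show Commute a b from hA a ha.1 b hb.1).mul_pow, ha.2, hb.2, mul_one]⟩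
      inv_mem' := fun {a} ha => ⟨inv_mem ha.1, by rw [inv_pow, ha.2, inv_one]⟩ }
  haveI hNn : N.Normal := ⟨fun b hb g => ⟨hAn.conj_mem b hb.1 g, by
    rw [conj_pow, hb.2, mul_one, mul_inv_cancel]⟩⟩
  have hNb : N ≠ ⊥ := fun e => by
    obtain ⟨⟨a, ha⟩, hao⟩ := exists_prime_orderOf_dvd_card' (G := A) q hqd
    rw [Subgroup.orderOf_mk] at hao
    have : a ∈ N := ⟨ha, orderOf_dvd_iff_pow_eq_one.1 (dvd_of_eq hao)⟩
    rw [e, Subgroup.mem_bot] at this
    rw [this, orderOf_one] at hao
    exact hq.ne_one hao.symm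
  by_cases hle : ∃ x, x ≠ 1 ∧ N ≤ K x
  · obtain ⟨x, hx, hNx⟩ := hle
    exact h.concl_of_normal_le hNb hx hNx
  push Not at hle
  exact Meets.concl (N := N) ⟨hNn, fun a ha b hb => hA a ha.1 b hb.1, fun a ha => ha.2, hNb, hle⟩ h hG

end CfsgLib.Partition
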