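import Mathlib
import Cfsg.Agent.Lib.Partition.Normal
import Cfsg.Agent.Lib.Partition.Simple
import Cfsg.Agent.Lib.Partition.AlmostEven
import Cfsg.Agent.Lib.Partition.AlmostSuzuki

/-!
# Groups with a nontrivial partition (Baer, Kegel, Suzuki)
-/

set_option autoImplicit false
set_option linter.style.haveILetI false

namespace CfsgLib.Partition

universe u

variable {G : Type u} [Group G] [Finite G] {K : G → Subgroup G}

theorem Std.concl (h : Std K) [Nontrivial G] : Concl G := by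
  classical
  by_cases hno : NoAbelianNormal G
  swap
  · unfold NoAbelianNormal at hno
    push Not at hno
    obtain ⟨A, hAn, hA, hAb⟩ := hno
    exact h.concl_of_abelian_normal A hAn hAb hA
  obtain ⟨T, hTn, hTs, hTnil, hC⟩ := h.exists_simple_normal hno
  haveI := hTn
  haveI := hTs
  have htype := (h.subgroup T hTnil).simple_type hTnil
  by_cases hT : T = ⊤
  · subst hT
    refine Or.inr (Or.inr (Or.inr ?_))
    rcases htype with ⟨hd, F, iF, fF, hodd, ⟨e⟩⟩ | ⟨F, iF, fF, ⟨n, hn, hcard⟩, ⟨e⟩⟩ | hs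
    · exact Or.inl ⟨F, iF, fF, four_le_card (e := e) hodd hd, ⟨Subgroup.topEquiv.symm.trans e⟩⟩
    · refine Or.inl ⟨F, iF, fF, ?_, ⟨Subgroup.topEquiv.symm.trans e⟩⟩
      rw [hcard]
      exact le_trans (by norm_num) (Nat.pow_le_pow_right (by norm_num) hn)
    · obtain ⟨F, iF, fF, m, hm, hF, ⟨e⟩⟩ := hs
      exact Or.inr (Or.inr ⟨F, iF, fF, m, hm, hF, ⟨Subgroup.topEquiv.symm.trans e⟩⟩)
  refine Or.inr (Or.inr (Or.inr (Or.inr (Or.inl ?_))))
  rcases htype with ⟨hd, F, iF, fF, hodd, ⟨e⟩⟩ | hE | hs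
  · obtain ⟨h5, he⟩ := h.pgl_of_odd hC hT e hodd hd
    exact ⟨F, iF, fF, h5, hodd, he⟩
  · exact h.pgl_of_even hC hT hE
  · exact absurd (h.eq_top_of_suzuki T hC hs) hT

/-- The classification of the groups with a nontrivial partition. -/
theorem classification (S : Set (Subgroup G)) (hS2 : ∃ H ∈ S, ∃ K ∈ S, H ≠ K)
    (hS1 : ∀ H ∈ S, H ≠ ⊥) (hpart : ∀ g : G, g ≠ 1 → ∃! H : Subgroup G, H ∈ S ∧ g ∈ H) : Concl G := by
  obtain ⟨K, hK, hnt⟩ := exists_of_family S hS2 hS1 hpart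
  rcases hK.frobenius_or_std with hF | hstd
  · exact Or.inr (Or.inr (Or.inl hF))
  · exact hstd.concl

end CfsgLib.Partition
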